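import Cfsg.Agent.Lib.Linear.OTPow.Radical

/-!
# The stabiliser of a slab

An element of the group preserving a slab is a factorwise element times a long element; the long
element is trivial unless the factor has dimension three over the field with five elements.
-/

set_option autoImplicit false
set_option linter.unusedSectionVars false
set_option linter.unusedSimpArgs false

namespace Cfsg.Lib.Linear.OTPow

open Module Cfsg.Lib.Linear.Orth
open Cfsg.Lib.Linear.OOTensor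
open Cfsg.Lib.Linear.OOTensor.Square (Three exists_three)
open Cfsg.Lib.Linear.SpTensor (InA)
open scoped Matrix MatrixGroups

variable {ι κ μ : Type} [Fintype ι] [DecidableEq ι] [Fintype κ] [DecidableEq κ] [Fintype μ]
  [DecidableEq μ] {F : Type*} [Field F] {Q : (ι → F) → F} {B : LinearMap.BilinForm F (ι → F)}
  {α : LinearMap.BilinForm F (κ → F)} {β : LinearMap.BilinForm F (μ → F)}
  {τ : (κ → F) →ₗ[F] (μ → F) →ₗ[F] (ι → F)} {L : Subgroup (GL ι F)} (T : Ten Q B α β τ)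
  {x f : μ → F}

/-- The root group is normalised by the similitudes. -/
theorem root_sim {Q : (μ → F) → F} (C : Space Q β) {q : GL μ F} {ν : F} (hν : ν ≠ 0)
    (hQ : ∀ w, Q (q.val *ᵥ w) = ν * Q w) {h : GL μ F} (hh : h ∈ Root Q β ⊤) :
    q * h * q⁻¹ ∈ Root Q β ⊤ := by
  refine (show Root Q β ⊤ ≤ (Root Q β ⊤).comap (MulAut.conj q).toMonoidHom from
    (Subgroup.closure_le _).2 fun _ hs => ?_) hh
  obtain ⟨u, a, -, -, hu, hua, rfl⟩ := hs
  have hB : ∀ v w, β (q.val *ᵥ v) (q.val *ᵥ w) = ν * β v w := fun v w => by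
    rw [← C.polar, ← C.polar, QuadraticMap.polar, QuadraticMap.polar, ← Matrix.mulVec_add, hQ, hQ, hQ]
    ring
  have hu' : Q (q.val *ᵥ u) = 0 := by rw [hQ, hu, mul_zero]
  have hua' : β (q.val *ᵥ u) (ν⁻¹ • (q.val *ᵥ a)) = 0 := by
    rw [map_smul, hB, hua, mul_zero, smul_zero]
  refine (?_ : q * sGL Q β u a * q⁻¹ ∈ Root Q β ⊤)
  rw [show q * sGL Q β u a * q⁻¹ = sGL Q β (q.val *ᵥ u) (ν⁻¹ • (q.val *ᵥ a)) from
    Orth.gl_ext fun w => by
      obtain ⟨v, rfl⟩ : ∃ v, q.val *ᵥ v = w := ⟨_, act_inv q w⟩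
      rw [mul_act, mul_act, inv_act, sGL_act C hu hua, sGL_act C hu' hua', C.smul, hQ]
      simp only [Matrix.mulVec_add, Matrix.mulVec_sub, Matrix.mulVec_smul, hB, map_smul,
        LinearMap.smul_apply, smul_smul, smul_eq_mul]
      match_scalars <;> field_simp]
  exact sGL_mem_root trivial trivial hu' hua'

variable (H : Hyp (qf β) β ⊤ x f) (hS : Side T L)
include H hS

/-- The shape of an element preserving a slab. -/
theorem stab_form [Finite F] (hκ : 0 < Fintype.card κ)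
    (hb : 5 ≤ Fintype.card μ ∨ (Fintype.card μ = 3 ∧ ∃ r : F, r ≠ 0 ∧ r * r ≠ 1))
    (huni : ∀ {g : GL ι F}, g ∈ L → Unip T x g →
      ∃ a ∈ perp2 β ⊤ x f, g = T.liftR (sGL (qf β) β x a)) {n : GL ι F} (hn : n ∈ L)
    (hnx : ∀ u, ∃ u', n.val *ᵥ τ u x = τ u' x) :
    ∃ (p : GL κ F) (q : GL μ F) (ν : F) (φ : Module.End F (κ → F)) (l : GL ι F), ν ≠ 0 ∧
      q.val *ᵥ x = x ∧ (∀ w w', β (q.val *ᵥ w) (q.val *ᵥ w') = ν * β w w') ∧
      (∀ a b, α (p.val *ᵥ a) (p.val *ᵥ b) = ν⁻¹ * α a b) ∧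
      (∀ a b, α (φ a) b = -α a (φ b)) ∧ (∀ v, l.val *ᵥ v = v + T.long x φ v) ∧
      n = T.mkGL p q * l := by
  have hk : 3 ≤ Fintype.card μ := by rcases hb with h | ⟨h, -⟩ <;> omega
  have hWn := H.ndeg T.SW T.SW.ndeg_top
  have hnI := hS.le hn
  have hκ : 0 < Fintype.card κ := by omega
  obtain ⟨ψ, hψb, hψ⟩ := exists_line_map T H hnx
  have hctr : ∀ {v}, T.ctr x v = 0 → T.ctr x (n.val *ᵥ v) = 0 := fun {v} hv => T.α_ext fun c => by
    obtain ⟨c', rfl⟩ := hψb.2 c
    rw [T.α_ctr, ← hψ, T.space.B_act hnI, ← T.α_ctr, hv]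
    simp
  have hctr0 : ∀ {u w}, β x w = 0 → T.ctr x (τ u w) = 0 := fun {u w} h => by
    rw [T.ctr_tau, T.sβ, h, zero_smul]
  obtain ⟨u₀, hu₀⟩ := T.exists_aniso_left hκ
  have hu₀0 : u₀ ≠ 0 := fun e => hu₀ (by simp [e])
  have hψu₀ : ψ u₀ ≠ 0 := fun e => hu₀0 (hψb.1 (by rw [e, map_zero]))
  -- the induced map on the middle
  have hR' : ∀ a ∈ perp2 β ⊤ x f, ∃ a' ∈ perp2 β ⊤ x f,
      n * T.liftR (sGL (qf β) β x a) * n⁻¹ = T.liftR (sGL (qf β) β x a') := fun a ha =>
    huni (mul_mem (mul_mem hn (hS.right x a H.singE (mem_perp2.1 ha).2.1))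
      (inv_mem hn)) (Unip.conj T H hnI hnx (unip_siegel T H (mem_perp2.1 ha).2.1))
  choose R hRm hRe using hR'
  have hRkey : ∀ (a) (ha : a ∈ perp2 β ⊤ x f) (u : κ → F), ∀ w ∈ perp2 β ⊤ x f,
      T.ctr (R a ha) (n.val *ᵥ τ u w) = β a w • ψ u := by
    intro a ha u w hw
    obtain ⟨-, ha1, -⟩ := mem_perp2.1 ha
    obtain ⟨-, hw1, -⟩ := mem_perp2.1 hw
    have h1 := congrArg (fun g : GL ι F => g.val *ᵥ (n.val *ᵥ τ u w)) (hRe a ha)
    simp only [mul_act, inv_act] at h1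
    rw [T.liftR_sGL_act H ha1, T.liftR_sGL_act H (mem_perp2.1 (hRm a ha)).2.1, hctr0 hw1,
      hctr (hctr0 hw1), T.ctr_tau, T.sβ w a] at h1
    simp [Matrix.mulVec_sub, Matrix.mulVec_smul, hψ] at h1
    refine T.tau_inj (hyp_ne_zero T H) ?_
    rw [map_smul, LinearMap.smul_apply]
    exact h1.symm
  have huniq : ∀ b ∈ perp2 β ⊤ x f, (∀ u, ∀ w ∈ perp2 β ⊤ x f, T.ctr b (n.val *ᵥ τ u w) = 0) →
      b = 0 := by
    intro b hb hz
    obtain ⟨-, hb1, hb2⟩ := mem_perp2.1 hb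
    have hkill : ∀ u w, β x w = 0 → (T.ctr b ∘ₗ Matrix.mulVecLin n.val) (τ u w) = 0 := by
      intro u w hw
      obtain ⟨r, hr, ew⟩ := exists_split T.SW H w
      rw [ew, hw]
      simp [Matrix.mulVec_add, Matrix.mulVec_smul, hψ, T.ctr_tau, hb1, hz u r hr]
    refine hWn b hb fun y hy => ?_
    have h1 := kill_perp T H hkill ((n⁻¹ : GL ι F).val *ᵥ τ u₀ y)
    rw [T.ctr_inv H hnI hψ (hctr0 (mem_perp2.1 hy).2.1)] at h1
    simp [act_inv, T.ctr_tau, hu₀0] at h1
    rw [T.sβ]; exact h1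
  let Rl : perp2 β ⊤ x f →ₗ[F] perp2 β ⊤ x f :=
    { toFun := fun a => ⟨R a.1 a.2, hRm a.1 a.2⟩
      map_add' := fun a b => Subtype.ext <| sub_eq_zero.1 <| huniq _
        (sub_mem (hRm _ _) (add_mem (hRm _ _) (hRm _ _))) fun u w hw => by
          show T.ctr (R _ _ - (R a.1 a.2 + R b.1 b.2)) (n.val *ᵥ τ u w) = 0
          rw [map_sub, LinearMap.sub_apply, map_add, LinearMap.add_apply,
            hRkey _ _ u w hw, hRkey _ _ u w hw, hRkey _ _ u w hw, Submodule.coe_add, map_add,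
            LinearMap.add_apply, add_smul, sub_self]
      map_smul' := fun c a => Subtype.ext <| sub_eq_zero.1 <| huniq _
        (sub_mem (hRm _ _) (Submodule.smul_mem _ _ (hRm _ _))) fun u w hw => by
          show T.ctr (R _ _ - c • R a.1 a.2) (n.val *ᵥ τ u w) = 0
          rw [map_sub, LinearMap.sub_apply, map_smul,
            LinearMap.smul_apply, hRkey _ _ u w hw, hRkey _ _ u w hw, SetLike.val_smul, map_smul,
            LinearMap.smul_apply, smul_eq_mul, smul_smul, sub_self] }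
  have hRinj : Function.Injective Rl := (injective_iff_map_eq_zero Rl).2 fun a ha =>
    Subtype.ext <| hWn a.1 a.2 fun w hw => by
      have h1 := hRkey a.1 a.2 u₀ w hw
      rw [show R a.1 a.2 = 0 from congrArg Subtype.val ha, map_zero, LinearMap.zero_apply] at h1
      exact (smul_eq_zero.1 h1.symm).resolve_right hψu₀
  let Re := LinearEquiv.ofInjectiveEndo Rl hRinj
  let P₀ : Module.End F (μ → F) :=
    LinearMap.id - (β f).smulRight x - (β x).smulRight f
  have hP : ∀ w, P₀ w ∈ perp2 β ⊤ x f := fun w => H.proj T.SW trivial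
  have hPid : ∀ w ∈ perp2 β ⊤ x f, P₀ w = w := fun w hw => by
    simp [P₀, (mem_perp2.1 hw).2.1, (mem_perp2.1 hw).2.2]
  let S : Module.End F (μ → F) :=
    (perp2 β ⊤ x f).subtype ∘ₗ Re.symm.toLinearMap ∘ₗ P₀.codRestrict _ hP
  let Rs : Module.End F (μ → F) :=
    P₀ ∘ₗ (β.toDual T.swap.nα').symm.toLinearMap ∘ₗ S.dualMap ∘ₗ (β : (μ → F) →ₗ[F] Module.Dual F _)
  have hRsW : ∀ w, Rs w ∈ perp2 β ⊤ x f := fun w => hP _
  have hRs : ∀ w, ∀ b ∈ perp2 β ⊤ x f, β (Rs w) b = β w (S b) := fun w b hb => by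
    obtain ⟨-, hb1, hb2⟩ := mem_perp2.1 hb
    show β (P₀ ((β.toDual T.swap.nα').symm (S.dualMap (β w)))) b = _
    simp only [P₀, LinearMap.sub_apply, LinearMap.id_apply, LinearMap.smulRight_apply, map_sub,
      map_smul, LinearMap.smul_apply, hb1, hb2, smul_zero, sub_zero,
      LinearMap.BilinForm.apply_toDual_symm_apply]
    rfl
  have hSR : ∀ a (ha : a ∈ perp2 β ⊤ x f), S (R a ha) = a := fun a ha => by
    show ((Re.symm (P₀.codRestrict _ hP (R a ha))) : μ → F) = a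
    rw [show P₀.codRestrict _ hP (R a ha) = Re ⟨a, ha⟩ from Subtype.ext (hPid _ (hRm a ha)),
      LinearEquiv.symm_apply_apply]
  have hsurj : ∀ b ∈ perp2 β ⊤ x f, ∃ a, ∃ ha : a ∈ perp2 β ⊤ x f, R a ha = b := fun b hb => by
    obtain ⟨⟨a, ha⟩, e⟩ := Re.surjective ⟨b, hb⟩
    exact ⟨a, ha, congrArg Subtype.val e⟩
  have hact : ∀ u, ∀ w ∈ perp2 β ⊤ x f,
      n.val *ᵥ τ u w = τ (ψ u) (Rs w) + τ (T.ctr f (n.val *ᵥ τ u w)) x := by
    intro u w hw
    obtain ⟨-, r1, r2⟩ := mem_perp2.1 (hRsW w)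
    refine T.ext3 H ?_ ?_ fun b hb => ?_
    · simp [hctr (hctr0 (mem_perp2.1 hw).2.1), T.ctr_tau, T.sβ _ x, r1, T.qf_zero.1 H.singE]
    · simp [T.ctr_tau, T.sβ _ f, r2, H.pair' T.SW]
    · obtain ⟨a, ha, rfl⟩ := hsurj b hb
      rw [hRkey a ha u w hw, map_add, T.ctr_tau, T.ctr_tau, (mem_perp2.1 hb).2.1, hRs w _ hb,
        hSR a ha, T.sβ w a, zero_smul, add_zero]
  have hform : ∀ u u', ∀ w ∈ perp2 β ⊤ x f, ∀ w' ∈ perp2 β ⊤ x f,
      α (ψ u) (ψ u') * β (Rs w) (Rs w') = α u u' * β w w' := by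
    intro u u' w hw w' hw'
    rw [← T.pair u w u' w', ← T.space.B_act hnI, hact u w hw, hact u' w' hw']
    simp [T.pair, (mem_perp2.1 (hRsW w)).2.1, (mem_perp2.1 (hRsW w')).2.1, T.sβ (Rs w) x,
      T.qf_zero.1 H.singE]
  obtain ⟨w₀, hw₀, hQw₀⟩ := exists_nonsing T.SW hWn (perp_ne_bot T.SW H hk)
  have hw₀' : β w₀ w₀ ≠ 0 := fun e => hQw₀ (T.qf_zero.2 e)
  set ν := β (Rs w₀) (Rs w₀) / β w₀ w₀ with hν
  have hψν : ∀ u u', α (ψ u) (ψ u') * ν = α u u' := fun u u' => by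
    rw [hν, ← mul_div_assoc, hform u u' w₀ hw₀ w₀ hw₀, mul_div_cancel_right₀ _ hw₀']
  have hν0 : ν ≠ 0 := fun e => hu₀ (by rw [← hψν, e, mul_zero])
  have hβR : ∀ w ∈ perp2 β ⊤ x f, ∀ w' ∈ perp2 β ⊤ x f, β (Rs w) (Rs w') = ν * β w w' := by
    intro w hw w' hw'
    have h1 := hform u₀ u₀ w hw w' hw'
    rw [← hψν u₀ u₀] at h1
    have h3 : α (ψ u₀) (ψ u₀) ≠ 0 := fun e => hu₀ (by rw [← hψν, e, zero_mul])
    exact mul_left_cancel₀ h3 (by linear_combination h1)
  -- the similitude of the second factor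
  let q : Module.End F (μ → F) := (β f).smulRight x + (ν • β x).smulRight f + Rs ∘ₗ P₀
  have hq : ∀ w, q w = β f w • x + (ν * β x w) • f + Rs (P₀ w) := fun w => by simp [q]
  have hqβ : ∀ w w', β (q w) (q w') = ν * β w w' := by
    intro w w'
    have e : ∀ z, z = β f z • x + β x z • f + P₀ z := fun z => by simp [P₀]
    obtain ⟨-, a1, a2⟩ := mem_perp2.1 (hRsW (P₀ w))
    obtain ⟨-, b1, b2⟩ := mem_perp2.1 (hRsW (P₀ w'))
    obtain ⟨-, c1, c2⟩ := mem_perp2.1 (hP w)
    obtain ⟨-, d1, d2⟩ := mem_perp2.1 (hP w')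
    rw [hq, hq]
    conv_rhs => rw [e w, e w']
    simp only [map_add, map_smul, LinearMap.add_apply, LinearMap.smul_apply, smul_eq_mul,
      T.qf_zero.1 H.singE, T.qf_zero.1 H.singF, H.pair, H.pair' T.SW, T.sβ (Rs (P₀ w)) x,
      T.sβ (Rs (P₀ w)) f, T.sβ (P₀ w) x, T.sβ (P₀ w) f, a1, a2, b1, b2, c1, c2, d1, d2,
      hβR _ (hP w) _ (hP w')]
    ring
  have hqinj : Function.Injective q := (injective_iff_map_eq_zero q).2 fun w hw =>
    T.nβ w fun w' => by
      have h1 := hqβ w w'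
      rw [hw, map_zero, LinearMap.zero_apply] at h1
      exact (mul_eq_zero.1 h1.symm).resolve_left hν0
  obtain ⟨qG, hqG⟩ := exists_gl hqinj
  obtain ⟨pG, hpG⟩ := exists_gl hψb.1
  set π := T.mkGL pG qG with hπdef
  have hπact : ∀ u w, π.val *ᵥ τ u w = τ (pG.val *ᵥ u) (qG.val *ᵥ w) := T.mkGL_act pG qG
  have hπI : π ∈ isometryGroup F Q := T.mem_iso_of (inv_ne_zero hν0) hπact
    (fun a b => by
      rw [hpG, hpG, ← hψν a b]
      field_simp)
    fun v w => by rw [hqG, hqG, hqβ, inv_inv]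
  have hqx : qG.val *ᵥ x = x := by
    rw [hqG, hq, T.qf_zero.1 H.singE, H.pair' T.SW]
    simp [P₀, T.qf_zero.1 H.singE, H.pair' T.SW]
  have hπx : ∀ u, π.val *ᵥ τ u x = τ (ψ u) x := fun u => by rw [hπact, hqx, hpG]
  have hqW : ∀ w ∈ perp2 β ⊤ x f, qG.val *ᵥ w = Rs w := fun w hw => by
    rw [hqG, hq, hPid w hw, (mem_perp2.1 hw).2.1, (mem_perp2.1 hw).2.2]
    simp
  set n' := π⁻¹ * n with hn'def
  have hn'I : n' ∈ isometryGroup F Q := mul_mem (inv_mem hπI) hnI
  have hn'x : ∀ u, n'.val *ᵥ τ u x = τ u x := fun u => by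
    rw [hn'def, mul_act, hψ, ← hπx, inv_act]
  have hn' : Unip T x n' := by
    refine ⟨hn'x, fun v hv => ⟨T.ctr f (n'.val *ᵥ v - v), ?_⟩⟩
    let Φ : (ι → F) →ₗ[F] (ι → F) := Matrix.mulVecLin n'.val - LinearMap.id -
      τ.flip x ∘ₗ T.ctr f ∘ₗ (Matrix.mulVecLin n'.val - LinearMap.id)
    have hΦ : ∀ u w, β x w = 0 → Φ (τ u w) = 0 := by
      intro u w hw
      obtain ⟨r, hr, ew⟩ := exists_split T.SW H w
      obtain ⟨c, hc⟩ := hψb.2 (T.ctr f (n.val *ᵥ τ u r))
      have hr' : n'.val *ᵥ τ u r = τ u r + τ c x := by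
        rw [hn'def, mul_act, hact u r hr, ← hqW r hr, ← hc, ← hπx, ← hpG, ← hπact,
          ← Matrix.mulVec_add, inv_act]
      rw [ew, hw]
      simp only [Φ, LinearMap.sub_apply, LinearMap.comp_apply, Matrix.mulVecLin_apply, map_add,
        map_smul, map_zero, zero_smul, LinearMap.zero_apply, LinearMap.id_apply, Matrix.mulVec_add,
        Matrix.mulVec_smul, hn'x, hr', map_sub, LinearMap.flip_apply, T.ctr_tau, H.pair, smul_zero,
        LinearMap.add_apply, LinearMap.smul_apply, one_smul, Matrix.mulVec_zero, add_zero]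
      module
    have h1 := kill_perp T H hΦ v
    rw [hv, map_zero, LinearMap.zero_apply, map_zero] at h1
    simp only [Φ, LinearMap.sub_apply, LinearMap.comp_apply, Matrix.mulVecLin_apply,
      LinearMap.id_apply, LinearMap.flip_apply] at h1
    rw [← sub_eq_zero, ← h1]
    abel
  have hqq : ∀ w, qf β (qG.val *ᵥ w) = ν * qf β w := fun w => by
    simp only [qf, hqG, hqβ]; ring
  -- commutators with the second factor
  have hrel : ∀ (h : GL μ F), h ∈ Root (qf β) β ⊤ → ∀ c : F, h.val *ᵥ x = c • x →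
      ∀ w ∈ perp2 β ⊤ x f, β x ((h⁻¹ : GL μ F).val *ᵥ w) = 0 →
      T.cof f n' w - c • T.cof f n' ((h⁻¹ : GL μ F).val *ᵥ w) ∈
        Submodule.span F {(1 : Module.End F (κ → F))} := by
    intro h hh c hc w hw hw'
    have hw1 := (mem_perp2.1 hw).2.1
    set m := T.liftR h with hm
    have hmL : m ∈ L := Side.root T H hS hh
    have hπm : π * m * π⁻¹ = T.liftR (qG * h * qG⁻¹) := by
      rw [mul_inv_eq_iff_eq_mul]
      exact T.gl_ext fun a z => by
        rw [mul_act, mul_act, hm, T.liftR_act, hπact, hπact, T.liftR_act, mul_act, mul_act, inv_act]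
    have hjL : π * (n' * (m * n'⁻¹ * m⁻¹)) * π⁻¹ ∈ L := by
      have e : π * (n' * (m * n'⁻¹ * m⁻¹)) * π⁻¹ = n * m * n⁻¹ * (π * m * π⁻¹)⁻¹ := by
        rw [hn'def]; group
      rw [e, hπm]
      exact mul_mem (mul_mem (mul_mem hn hmL) (inv_mem hn))
        (inv_mem (Side.root T H hS (root_sim T.SW hν0 hqq hh)))
    have hQ : Unip T x (m * n'⁻¹ * m⁻¹) := Unip.conj T H (hS.le hmL)
      (fun u => ⟨c • u, by rw [hm, T.liftR_act, hc, map_smul, map_smul, LinearMap.smul_apply]⟩)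
      (hn'.inv T)
    obtain ⟨b, hb', hbe⟩ := huni hjL
      (Unip.conj T H hπI (fun u => ⟨_, hπx u⟩) (hn'.mul T hQ))
    have e2 : n' * (m * n'⁻¹ * m⁻¹) = T.liftR (qG⁻¹ * sGL (qf β) β x b * qG) := by
      rw [← mkGL_conj_right T hπact, ← hbe]; group
    have hcQ : T.cof f (m * n'⁻¹ * m⁻¹) w = -c • T.cof f n' ((h⁻¹ : GL μ F).val *ᵥ w) :=
      Unip.cof_eq T H fun u => by
        have h1 : (m⁻¹ : GL ι F).val *ᵥ τ u w = τ u ((h⁻¹ : GL μ F).val *ᵥ w) := by
          rw [hm, ← map_inv, T.liftR_act]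
        obtain ⟨r, hr, er⟩ := exists_split T.SW H ((h⁻¹ : GL μ F).val *ᵥ w)
        rw [hw', zero_smul, add_zero] at er
        have hr1 := (mem_perp2.1 hr).2.1
        have h2 : T.cof f n' ((h⁻¹ : GL μ F).val *ᵥ w) = T.cof f n' r := by
          rw [er, map_add, map_smul, Unip.cof_eq T H (w := x) (C := 0) (fun z => by simp [hn'x z]),
            smul_zero, zero_add]
        rw [mul_act, mul_act, h1, h2]
        conv_lhs => rw [er]
        rw [map_add, map_smul, Matrix.mulVec_add, Matrix.mulVec_smul, (hn'.inv T).1,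
          (hn'.inv T).act T H hr1, Unip.cof_inv T H hn' hr1, ← add_assoc, ← map_smul,
          ← map_add, ← er, Matrix.mulVec_add, hm, T.liftR_act, act_inv, T.liftR_act, hc]
        simp [smul_neg]
    have hsum : T.cof f (T.liftR (qG⁻¹ * sGL (qf β) β x b * qG)) w =
        T.cof f n' w - c • T.cof f n' ((h⁻¹ : GL μ F).val *ᵥ w) := by
      rw [← e2, Unip.cof_mul T H hn' hQ hw1, hcQ]
      module
    rw [← hsum]
    exact Submodule.mem_span_singleton.2
      ⟨β ((qG⁻¹ * sGL (qf β) β x b * qG).val *ᵥ w - w) f, LinearMap.ext fun u => by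
        rw [T.cof_apply, T.liftR_act, ← map_sub, T.ctr_tau]
        simp⟩
  have hscal : ∀ w ∈ perp2 β ⊤ x f,
      T.cof f n' w ∈ Submodule.span F {(1 : Module.End F (κ → F))} := by
    rcases hb with h5 | ⟨h3, r, hr0, hr1⟩
    · have hW3 : 3 ≤ finrank F (perp2 β ⊤ x f) := by
        have := H.le_finrank T.SW
        rw [finrank_top, finrank_fintype_fun_eq_card] at this
        omega
      suffices hsing : ∀ y ∈ perp2 β ⊤ x f, qf β y = 0 →
          T.cof f n' y ∈ Submodule.span F {(1 : Module.End F (κ → F))} from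
        fun w hw => ((span_sing T.SW hWn hW3).trans ((Submodule.span_le
          (p := (Submodule.span F {(1 : Module.End F (κ → F))}).comap (T.cof f n'))).2
          fun r hr => hsing r hr.1 hr.2)) hw
      intro y hy hQy
      rcases eq_or_ne y 0 with rfl | hy0
      · rw [map_zero]; exact Submodule.zero_mem _
      obtain ⟨y', G⟩ := exists_hyp T.SW hWn hy hy0 hQy
      obtain ⟨d, hd, hQd⟩ := exists_nonsing T.SW (G.ndeg T.SW hWn) (fun h0 => by
        have h1 := G.le_finrank T.SW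
        rw [h0, finrank_bot] at h1
        omega)
      obtain ⟨hdW, hyd, hy'd⟩ := mem_perp2.1 hd
      have key : ∀ d ∈ perp2 β ⊤ x f, β y d = 0 → β y' d = 0 →
          T.cof f n' d - qf β d • T.cof f n' y ∈ Submodule.span F {(1 : Module.End F (κ → F))} := by
        intro d hd h1 h2
        have hh := sGL_mem_root (Q := qf β) (B := β) G.memE hd G.singE h1
        set h := sGL (qf β) β y d
        have hx : h.val *ᵥ x = (1 : F) • x := by
          rw [one_smul]
          exact (root_act T.SW hh x).2 fun z hz => by rw [T.sβ]; exact (mem_perp2.1 hz).2.1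
        have e1 : h.val *ᵥ y' = y' + d - qf β d • y := by
          rw [sGL_act T.SW G.singE h1, G.pair, T.sβ d y', h2]
          simp
        have hw : h.val *ᵥ y' ∈ perp2 β ⊤ x f := root_mem_U T.SW hh G.memF
        have h4 := hrel h (root_mono le_top hh) 1 hx _ hw
          (by rw [inv_act]; exact (mem_perp2.1 G.memF).2.1)
        rw [one_smul, inv_act, e1, map_sub, map_add, map_smul] at h4
        convert h4 using 1
        abel
      have h1 := key d hdW hyd hy'd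
      have h2 := key (-d) (Submodule.neg_mem _ hdW) (by rw [map_neg, hyd, neg_zero])
        (by rw [map_neg, hy'd, neg_zero])
      rw [T.SW.neg, map_neg] at h2
      have h3 := Submodule.add_mem _ h1 h2
      rw [show T.cof f n' d - qf β d • T.cof f n' y + (-T.cof f n' d - qf β d • T.cof f n' y) =
        (-2 * qf β d) • T.cof f n' y by module] at h3
      exact (Submodule.smul_mem_iff _ (mul_ne_zero (neg_ne_zero.2 T.h2) hQd)).1 h3
    · obtain ⟨e, D⟩ := exists_three T.SW T.h2 h3 H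
      obtain ⟨m, hm, hmx, hme⟩ := D.exists_torus hr0
      have hme' : (m⁻¹ : GL μ F).val *ᵥ e = e := by
        conv_lhs => rw [← hme]
        rw [inv_act]
      have h1 := hrel m hm _ hmx e D.mem (by rw [hme']; exact D.xe)
      rw [hme', show T.cof f n' e - (r * r) • T.cof f n' e = (1 - r * r) • T.cof f n' e by module] at h1
      have h2 := (Submodule.smul_mem_iff _ (sub_ne_zero.2 (Ne.symm hr1))).1 h1
      intro w hw
      rw [D.line w hw, map_smul]
      exact Submodule.smul_mem _ _ h2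
  -- the remainder is a Siegel element times a long element
  obtain ⟨a₁, ha₁, hcof⟩ := exists_siegel_cof T H hκ hscal
  obtain ⟨-, ha11, -⟩ := mem_perp2.1 ha₁
  set s₁ := T.liftR (sGL (qf β) β x a₁)
  have hs₁ : Unip T x s₁ := unip_siegel T H ha11
  have hsI := sGL_mem T.SW H.singE ha11
  have hs₁I : s₁ ∈ isometryGroup F Q := T.liftR_mem hsI
  have hfix : ∀ u w, β x w = 0 → (s₁⁻¹ * n').val *ᵥ τ u w = τ u w := by
    intro u w hw
    obtain ⟨r, hr, ew⟩ := exists_split T.SW H w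
    have hr1 := (mem_perp2.1 hr).2.1
    have hh := hs₁.inv T |>.mul T hn'
    rw [ew, hw, zero_smul, add_zero, map_add, map_smul, Matrix.mulVec_add, Matrix.mulVec_smul, hh.1,
      hh.act T H hr1, Unip.cof_mul T H (hs₁.inv T) hn' hr1, Unip.cof_inv T H hs₁ hr1, hcof r hr]
    simp
  obtain ⟨φ, hφ⟩ := long_of_fix T H (mul_mem (inv_mem hs₁I) hn'I) hfix
  have hφskew := long_skew T (le_refl _) H.singE (hyp_ne_zero T H)
    (φ := φ) ⟨_, mul_mem (inv_mem hs₁I) hn'I, hφ⟩
  refine ⟨pG, qG * sGL (qf β) β x a₁, ν, φ, s₁⁻¹ * n', hν0, ?_, fun w w' => ?_, fun a b => ?_,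
    hφskew, hφ, ?_⟩
  · rw [mul_act, sGL_act T.SW H.singE ha11, T.qf_zero.1 H.singE, T.sβ a₁ x, ha11]
    simp [hqx]
  · rw [mul_act, mul_act, hqG, hqG, hqβ, T.SW.B_act hsI]
  · rw [hpG, hpG, ← hψν a b]
    field_simp
  · rw [show T.mkGL pG (qG * sGL (qf β) β x a₁) = π * s₁ from T.gl_ext fun a w => by
      rw [T.mkGL_act, mul_act π, T.liftR_act, hπact, mul_act qG], hn'def]
    group

/-- An element preserving a slab acts factorwise. -/
theorem pure_stab [Finite F] (hκ : 0 < Fintype.card κ)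
    (hb : 5 ≤ Fintype.card μ ∨
      (Fintype.card μ = 3 ∧ ∃ r : F, r ≠ 0 ∧ (r * r) * (r * r) ≠ 1))
    (huni : ∀ {g : GL ι F}, g ∈ L → Unip T x g →
      ∃ a ∈ perp2 β ⊤ x f, g = T.liftR (sGL (qf β) β x a)) {n : GL ι F} (hn : n ∈ L)
    (hnx : ∀ u, ∃ u', n.val *ᵥ τ u x = τ u' x) : Pure τ n := by
  obtain ⟨p, q, ν, φ, l, hν, hqx, hqβ, -, -, hl, hnl⟩ := stab_form T H hS hκ
    (hb.imp id fun ⟨h3, r, hr, hr1⟩ => ⟨h3, r, hr, fun e => hr1 (by rw [e, one_mul])⟩) huni hn hnx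
  have hG := T.mkGL_act p q
  set G := T.mkGL p q with hGdef
  have hqq : ∀ w, qf β (q.val *ᵥ w) = ν * qf β w := fun w => by simp only [qf, hqβ]; ring
  have hx := T.qf_zero.1 H.singE
  -- commutators of the long element with the second factor
  have hcom : ∀ h ∈ Root (qf β) β ⊤,
      G * (l * (T.liftR h * l⁻¹ * (T.liftR h)⁻¹)) * G⁻¹ ∈ L := fun h hh => by
    have e1 : G * T.liftR h * G⁻¹ = T.liftR (q * h * q⁻¹) := by
      rw [mul_inv_eq_iff_eq_mul]
      exact T.gl_ext fun a z => by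
        rw [mul_act, mul_act, T.liftR_act, hG, hG, T.liftR_act, mul_act, mul_act, inv_act]
    have e : G * (l * (T.liftR h * l⁻¹ * (T.liftR h)⁻¹)) * G⁻¹ =
        n * T.liftR h * n⁻¹ * (G * T.liftR h * G⁻¹)⁻¹ := by rw [hnl]; group
    rw [e, e1]
    exact mul_mem (mul_mem (mul_mem hn (Side.root T H hS hh)) (inv_mem hn))
      (inv_mem (Side.root T H hS (root_sim T.SW hν hqq hh)))
  have hkill : ∀ (y : μ → F) (χ : Module.End F (κ → F)) (g : GL ι F), qf β y = 0 → y ≠ 0 →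
      (∀ v, g.val *ᵥ v = v + T.long y χ v) → G * g * G⁻¹ ∈ L → χ = 0 := by
    intro y χ g hy hy0 hg hgL
    have h1 : InA L (T.long (q.val *ᵥ y) (ν⁻¹ • cj p χ)) := by
      refine ⟨_, hgL, fun v => ?_⟩
      obtain ⟨v, rfl⟩ : ∃ z, G.val *ᵥ z = v := ⟨_, act_inv G v⟩
      rw [mul_act, mul_act, inv_act, hg, Matrix.mulVec_add]
      congr 1
      refine LinearMap.congr_fun (T.hom_ext (f := Matrix.mulVecLin G.val ∘ₗ T.long y χ)
        (g := T.long (q.val *ᵥ y) (ν⁻¹ • cj p χ) ∘ₗ Matrix.mulVecLin G.val) fun a w => ?_) v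
      simp only [LinearMap.comp_apply, Matrix.mulVecLin_apply, hG, T.long_tau, Matrix.mulVec_smul,
        hqβ, LinearMap.smul_apply, map_smul, cj_act, smul_smul]
      congr 1
      field_simp
    have h2 := (smul_eq_zero.1 (hS.lose _ _ (by rw [hqq, hy, mul_zero]) (Orth.act_ne_zero hy0) h1)).resolve_left
      (inv_ne_zero hν)
    refine LinearMap.ext fun a => Orth.act_injective p ?_
    show p.val *ᵥ χ a = p.val *ᵥ (0 : Module.End F (κ → F)) a
    rw [← cj_act, h2]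
    simp
  have hlinv : ∀ v, (l⁻¹ : GL ι F).val *ᵥ v = v - T.long x φ v := fun v => by
    apply Orth.act_injective l
    show l.val *ᵥ _ = l.val *ᵥ _
    rw [act_inv, hl, map_sub, T.long_sq H.singE, sub_zero, sub_add_cancel]
  have hconj : ∀ h ∈ Root (qf β) β ⊤, ∀ v, (T.liftR h * l⁻¹ * (T.liftR h)⁻¹).val *ᵥ v =
      v - T.long (h.val *ᵥ x) φ v := fun h hh v => by
    rw [mul_act, mul_act, hlinv, Matrix.mulVec_sub, act_inv]
    congr 1
    refine LinearMap.congr_fun (T.hom_ext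
      (f := Matrix.mulVecLin (T.liftR h).val ∘ₗ T.long x φ ∘ₗ Matrix.mulVecLin ((T.liftR h)⁻¹).val)
      (g := T.long (h.val *ᵥ x) φ) fun a w => ?_) v
    simp only [LinearMap.comp_apply, Matrix.mulVecLin_apply, ← map_inv, T.liftR_act, T.long_tau,
      Matrix.mulVec_smul, T.SW.B_act_left (inv_mem (root_le_iso T.SW _ hh)), inv_inv]
  suffices h0 : φ = 0 by
    have e : l = 1 := Orth.gl_ext fun v => by rw [hl, h0, T.long_apply]; simp
    rw [hnl, e, mul_one]
    exact ⟨p, q, hG⟩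
  rcases hb with h5 | ⟨h3, r, hr0, hr1⟩
  · obtain ⟨y, y', P⟩ := exists_hyp' T.SW (H.ndeg T.SW T.SW.ndeg_top) (by
      have := H.le_finrank T.SW
      rw [finrank_top, finrank_fintype_fun_eq_card] at this
      omega)
    obtain ⟨-, hxy, hfy⟩ := mem_perp2.1 P.memE
    have hy := T.qf_zero.1 P.singE
    have hyx : β y x = 0 := by rw [T.sβ]; exact hxy
    have step : ∀ a, qf β a = 0 → β x a = 0 → β f a = 0 → ∃ h ∈ Root (qf β) β ⊤,
        h.val *ᵥ x = x + a := fun a ha hxa hfa =>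
      ⟨_, sGL_mem_root trivial trivial H.singF hfa, by
        rw [sGL_act T.SW H.singF hfa, H.pair' T.SW, T.sβ a x, hxa, ha]
        simp⟩
    obtain ⟨h₁, hh₁, e₁⟩ := step y P.singE hxy hfy
    obtain ⟨h₂, hh₂, e₂⟩ := step (-y) (by rw [T.SW.neg, P.singE]) (by rw [map_neg, hxy, neg_zero])
      (by rw [map_neg, hfy, neg_zero])
    have hin := mul_mem (hcom h₁ hh₁) (hcom h₂ hh₂)
    rw [conj_mul] at hin
    have h := hkill y ((-2 : F) • φ) _ P.singE (fun e => by simpa [e] using P.pair) (fun v => ?_) hin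
    · exact (smul_eq_zero.1 h).resolve_left (neg_ne_zero.2 T.h2)
    have hv : ∀ v, (l * (T.liftR h₁ * l⁻¹ * (T.liftR h₁)⁻¹)).val *ᵥ v =
        v + T.long x φ v - T.long (x + y) φ v := fun v => by
      rw [mul_act, hconj h₁ hh₁, e₁, hl, map_sub]
      have h0 : T.long x φ (T.long (x + y) φ v) = 0 := by
        rw [T.long_apply (x + y), T.long_tau]
        simp [hx, hyx, hxy]
      rw [h0, sub_zero]
      abel
    rw [mul_act, hv, mul_act, hconj h₂ hh₂, e₂, hl]
    refine LinearMap.congr_fun (T.hom_ext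
      (f := ((LinearMap.id + T.long x φ - T.long (x + y) φ) ∘ₗ
        (LinearMap.id + T.long x φ) ∘ₗ (LinearMap.id - T.long (x + -y) φ)))
      (g := LinearMap.id + T.long y ((-2 : F) • φ)) fun a w => ?_) v
    simp only [LinearMap.comp_apply, LinearMap.add_apply, LinearMap.sub_apply, LinearMap.id_apply,
      T.long_tau, map_add, map_sub, map_neg, map_smul, LinearMap.smul_apply, LinearMap.neg_apply,
      hx, hy, hxy, hyx, add_zero, zero_add, neg_zero, sub_zero, smul_zero, zero_smul]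
    module
  · obtain ⟨e, D⟩ := exists_three T.SW T.h2 h3 H
    obtain ⟨m, hm, hmx, -⟩ := D.exists_torus hr0
    have h := hkill x ((1 - (r * r) * (r * r)) • φ) _ H.singE (hyp_ne_zero T H) (fun v => ?_) (hcom m hm)
    · exact (smul_eq_zero.1 h).resolve_left (sub_ne_zero.2 (Ne.symm hr1))
    rw [mul_act, hconj m hm, hmx, hl, map_sub]
    refine LinearMap.congr_fun (T.hom_ext
      (f := (LinearMap.id - T.long ((r * r) • x) φ) + (T.long x φ - T.long x φ ∘ₗ T.long ((r * r) • x) φ))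
      (g := LinearMap.id + T.long x ((1 - (r * r) * (r * r)) • φ)) fun a w => ?_) v
    simp only [LinearMap.comp_apply, LinearMap.add_apply, LinearMap.sub_apply, LinearMap.id_apply,
      T.long_tau, map_smul, LinearMap.smul_apply, smul_eq_mul, hx, mul_zero, zero_smul, smul_zero,
      sub_zero]
    module

end Cfsg.Lib.Linear.OTPow
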