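import Cfsg.Agent.Lib.Linear.OTPow.Alg
import Cfsg.Agent.Lib.Linear.OTPow.Stab

/-!
# Elements moving one factor to another, and the isometries fixing a factor

An isometry taking one factor to another maps products to products by a similitude. With an odd
dimension the similitude can be normalised, so fixing a factor leads to the smaller tensor power.
-/

set_option autoImplicit false
set_option linter.unusedSectionVars false
set_option linter.unusedSimpArgs false

namespace Cfsg.Lib.Linear.OTPow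

open Module Cfsg.Geo Cfsg.Lib.Linear.AschGen Cfsg.Lib.Linear.TWreath Cfsg.Lib.Linear.Orth
open Cfsg.Lib.Linear.OOTensor (qf Ten)
open scoped Matrix MatrixGroups

variable {F : Type*} [Field F] {k t : ℕ} {β : LinearMap.BilinForm F (Fin k → F)} {c : F}

/-- Elements inducing every permutation of the factors. -/
def Perms (G : Subgroup (GL (Idx k t) F)) : Prop :=
  ∀ σ : Equiv.Perm (Fin t), ∃ g ∈ G, ∀ i, ∃ a, Acts g i (σ i) a

/-- A scalar as a group element. -/
def sc {n : Type} [Fintype n] [DecidableEq n] (s : Fˣ) : GL n F :=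
  Units.map (algebraMap F (Matrix n n F)).toMonoidHom s

theorem sc_val {n : Type} [Fintype n] [DecidableEq n] (s : Fˣ) :
    (sc s : GL n F).val = algebraMap F (Matrix n n F) s := rfl

theorem sc_mulVec {n : Type} [Fintype n] [DecidableEq n] (s : Fˣ) (v : n → F) :
    (sc s : GL n F).val *ᵥ v = (s : F) • v := by
  rw [sc_val, Algebra.algebraMap_eq_smul_one, Matrix.smul_mulVec, Matrix.one_mulVec]

theorem sc_comm {n : Type} [Fintype n] [DecidableEq n] (s : Fˣ) (g : GL n F) :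
    Commute (sc s) g := Units.ext (Algebra.commutes (s : F) g.val)

theorem fu_sc (i : Fin t) (s : Fˣ) : fu i (sc s : GL (Fin k) F) = sc s :=
  Units.ext ((fa i).commutes (s : F))

theorem psiU_sc (i : Fin (t + 1)) (s : Fˣ) : psiU i (sc s : GL (Idx k t) F) = sc s :=
  Units.ext ((psi i).commutes (s : F))

/-- The smaller tensor power preserves the permutations. -/
theorem psiU_mst (hk : 0 < k) (i : Fin (t + 1)) {Y : GL (Idx k t) F} (hY : Y ∈ mst k t F) :
    psiU i Y ∈ mst k (t + 1) F := by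
  obtain ⟨σ, hσ⟩ := hY
  refine ⟨σ.viaEmbedding (Fin.succAboveEmb i), fun l => ?_⟩
  rcases Fin.eq_self_or_eq_succAbove i l with rfl | ⟨j, rfl⟩
  · rw [Equiv.Perm.viaEmbedding_apply_of_notMem _ _ _ (by
      rintro ⟨j, hj⟩; exact Fin.succAbove_ne _ j hj)]
    exact ⟨1, fun X => by
      rw [conjA_one, conjA_apply, psiU_val, ← map_inv, psiU_val, ← (com_psi _ _ X).eq, mul_assoc,
        ← map_mul, Units.mul_inv, map_one, mul_one]⟩
  · obtain ⟨b, hb⟩ := hσ j
    rw [show σ.viaEmbedding (Fin.succAboveEmb i) (i.succAbove j) = i.succAbove (σ j) from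
      Equiv.Perm.viaEmbedding_apply σ (Fin.succAboveEmb i) j]
    exact ⟨b, fun X => by rw [← psi_fa, conjA_psiU, hb, psi_fa]⟩

variable (hf : Fm β c)
include hf

theorem exists_functional (ℓ : (Fin k → F) →ₗ[F] F) : ∃ b, ∀ v, β b v = ℓ v := by
  have hN : β.Nondegenerate :=
    ⟨hf.nondeg, fun y h => hf.nondeg y fun x => by rw [hf.sym]; exact h x⟩
  exact ⟨(β.toDual hN).symm ℓ, fun v => LinearMap.BilinForm.apply_toDual_symm_apply _ _⟩

theorem fa_rk_mulVec (i : Fin (t + 1)) (p q : Fin k → F) (v : Idx k (t + 1) → F) :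
    fa i (rk β p q) *ᵥ v = tau i ((split hf i).ctr q v) p := by
  refine LinearMap.congr_fun ((split hf i).hom_ext (f := Matrix.mulVecLin (fa i (rk β p q)))
    (g := (tau i).flip p ∘ₗ (split hf i).ctr q) fun a w => ?_) v
  simp only [Matrix.mulVecLin_apply, LinearMap.comp_apply, LinearMap.flip_apply, fa_tau, rk_mulVec,
    (split hf i).ctr_tau, map_smul, LinearMap.smul_apply, hf.sym w q]

theorem psi_ctr (i : Fin (t + 1)) (Y : Matrix (Idx k t) (Idx k t) F) (q : Fin k → F)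
    (v : Idx k (t + 1) → F) :
    (split hf i).ctr q (psi i Y *ᵥ v) = Y *ᵥ (split hf i).ctr q v := by
  refine LinearMap.congr_fun ((split hf i).hom_ext
    (f := (split hf i).ctr q ∘ₗ Matrix.mulVecLin (psi i Y))
    (g := Matrix.mulVecLin Y ∘ₗ (split hf i).ctr q) fun a w => ?_) v
  simp only [Matrix.mulVecLin_apply, LinearMap.comp_apply, psi_tau, (split hf i).ctr_tau,
    Matrix.mulVec_smul]

/-- The matrix of a long map. -/
theorem long_eq (i : Fin (t + 1)) (x : Fin k → F) (φ : Matrix (Idx k t) (Idx k t) F)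
    (v : Idx k (t + 1) → F) :
    (fa i (rk β x x) * psi i φ) *ᵥ v = (split hf i).long x (Matrix.mulVecLin φ) v := by
  rw [← Matrix.mulVec_mulVec, fa_rk_mulVec hf, psi_ctr hf, (split hf i).long_apply]
  rfl

theorem aniso_vec (hk : 0 < k) : ∃ x : Fin k → F, β x x ≠ 0 :=
  ((split hf (t := 0) 0).swap.exists_aniso_left (by simpa using hk))

/-- Products go to products. -/
theorem acts_tau (hk : 0 < k) {g : GL (Idx k (t + 1)) F} {i l : Fin (t + 1)} {A : GL (Fin k) F}
    (h : Acts g i l A) :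
    ∃ P : (Idx k t → F) →ₗ[F] (Idx k t → F), ∀ a w,
      g.val *ᵥ tau i a w = tau l (P a) (A.val *ᵥ w) := by
  obtain ⟨w₀, hw₀⟩ := aniso_vec hf hk
  obtain ⟨b, hb⟩ := exists_functional hf ((β w₀ w₀)⁻¹ • β w₀)
  have hbw : β b w₀ = 1 := by rw [hb, LinearMap.smul_apply, smul_eq_mul, inv_mul_cancel₀ hw₀]
  obtain ⟨b', hb'⟩ := exists_functional hf (β b ∘ₗ Matrix.mulVecLin (A⁻¹ : GL (Fin k) F).val)
  refine ⟨(split hf l).ctr b' ∘ₗ Matrix.mulVecLin g.val ∘ₗ (tau i).flip w₀, fun a w => ?_⟩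
  have e : conjA A (rk β w b) = rk β (A.val *ᵥ w) b' := mat_ext fun v => by
    rw [conjA_apply, ← Matrix.mulVec_mulVec, ← Matrix.mulVec_mulVec, rk_mulVec, rk_mulVec, hb',
      Matrix.mulVec_smul]
    rfl
  have h1 := congrArg (fun M => M *ᵥ (g.val *ᵥ tau i a w₀)) (h (rk β w b))
  simp only [conjA_apply g, ← Matrix.mulVec_mulVec, inv_act, fa_tau, rk_mulVec, hbw, one_smul, e,
    fa_rk_mulVec hf, (split hf i).ctr_tau, hf.sym w₀ b] at h1
  exact h1

/-- The component of an isometry is a similitude. -/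
theorem acts_sim (hk : 0 < k) {g : GL (Idx k (t + 1)) F}
    (hg : g ∈ isometryGroup F (qT β c (t + 1))) {i l : Fin (t + 1)} {A : GL (Fin k) F}
    (h : Acts g i l A) :
    ∃ ν : F, ν ≠ 0 ∧ ∀ w w', β (A.val *ᵥ w) (A.val *ᵥ w') = ν * β w w' := by
  obtain ⟨P, hP⟩ := acts_tau hf hk h
  obtain ⟨x, hx⟩ := aniso_vec hf hk
  obtain ⟨a, ha⟩ := (split hf i).exists_aniso_left (by
    rw [Fintype.card_pi, Finset.prod_const, Fintype.card_fin]; positivity)
  have key : ∀ w w', bT β c t (P a) (P a) * β (A.val *ᵥ w) (A.val *ᵥ w') = bT β c t a a * β w w' :=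
    fun w w' => by rw [← bT_tau l, ← bT_tau i, ← hP, ← hP, (qT_space hf).B_act hg]
  have h0 : bT β c t (P a) (P a) ≠ 0 := fun e => mul_ne_zero ha hx (by rw [← key, e, zero_mul])
  refine ⟨bT β c t a a / bT β c t (P a) (P a), div_ne_zero ha h0, fun w w' => ?_⟩
  rw [div_mul_eq_mul_div, eq_div_iff h0, mul_comm, key]

theorem conj_rk {A : GL (Fin k) F} {ν : F} (hν : ν ≠ 0)
    (hA : ∀ w w', β (A.val *ᵥ w) (A.val *ᵥ w') = ν * β w w') (p q : Fin k → F) :
    conjA A (rk β p q) = ν⁻¹ • rk β (A.val *ᵥ p) (A.val *ᵥ q) := mat_ext fun v => by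
  obtain ⟨u, rfl⟩ : ∃ u, A.val *ᵥ u = v := ⟨_, act_inv A v⟩
  rw [conjA_apply, ← Matrix.mulVec_mulVec, ← Matrix.mulVec_mulVec, inv_act, Matrix.smul_mulVec,
    rk_mulVec, rk_mulVec, hA, Matrix.mulVec_smul, smul_smul, inv_mul_cancel_left₀ hν]

theorem iso_sim {A : GL (Fin k) F} (hA : A ∈ isometryGroup F (qf β)) :
    ∀ w w', β (A.val *ᵥ w) (A.val *ᵥ w') = 1 * β w w' := fun w w' => by
  rw [(factor_space hf).B_act hA, one_mul]

/-- In odd dimension the multiplier of a similitude is a square. -/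
theorem sim_square (hk : Odd k) {A : GL (Fin k) F} {ν : F} (hν : ν ≠ 0)
    (hA : ∀ w w', β (A.val *ᵥ w) (A.val *ᵥ w') = ν * β w w') : ∃ s : Fˣ, (s : F) * s = ν := by
  have h1 : A.valᵀ * gram β * A.val = ν • gram β := by
    have e : β.comp (Matrix.toLin' A.val) (Matrix.toLin' A.val) = ν • β :=
      LinearMap.ext₂ fun w w' => by simp [hA]
    have h2 := congrArg LinearMap.BilinForm.toMatrix' e
    rwa [LinearMap.BilinForm.toMatrix'_comp, map_smul, LinearMap.toMatrix'_toLin'] at h2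
  have h2 := congrArg Matrix.det h1
  rw [Matrix.det_mul, Matrix.det_mul, Matrix.det_transpose, Matrix.det_smul, Fintype.card_fin] at h2
  have h3 : A.val.det * A.val.det = ν ^ k :=
    mul_right_cancel₀ (gram_det_ne hf) (by rw [← h2]; ring)
  obtain ⟨r, rfl⟩ := hk
  have hd : A.val.det ≠ 0 := fun e => pow_ne_zero _ hν (by rw [← h3, e, zero_mul])
  refine ⟨Units.mk0 (A.val.det / ν ^ r) (div_ne_zero hd (pow_ne_zero _ hν)), ?_⟩
  rw [Units.val_mk0, div_mul_div_comm, h3, div_eq_iff (by positivity)]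
  ring

/-- An isometry fixing a factor is a product of isometries. -/
theorem split_iso (hk : Odd k) {g : GL (Idx k (t + 1)) F}
    (hg : g ∈ isometryGroup F (qT β c (t + 1))) {i : Fin (t + 1)} {A : GL (Fin k) F}
    (h : Acts g i i A) :
    ∃ a ∈ isometryGroup F (qf β), ∃ Y ∈ isometryGroup F (qT β c t),
      g = fu i a * psiU i Y := by
  have hk0 : 0 < k := hk.pos
  obtain ⟨Y, hY⟩ := exists_split hk0 h
  obtain ⟨ν, hν, hA⟩ := acts_sim hf hk0 hg h
  obtain ⟨s, hs⟩ := sim_square hf hk hν hA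
  set a := sc s⁻¹ * A with ha
  have haI : a ∈ isometryGroup F (qf β) := mem_iso.2 fun w => by
    rw [ha, mul_act, sc_mulVec, qf, qf]
    simp only [map_smul, LinearMap.smul_apply, smul_eq_mul, hA, ← hs, Units.val_inv_eq_inv_val]
    field_simp
  have e : g = fu i a * psiU i (sc s * Y) := by
    rw [hY, ha, map_mul, map_mul, fu_sc, psiU_sc, mul_assoc, ← mul_assoc (fu i A),
      ← (sc_comm s (fu i A)).eq, ← mul_assoc, ← mul_assoc,
      show (sc s⁻¹ : GL (Idx k (t + 1)) F) * sc s = 1 by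
        rw [sc, sc, ← map_mul, inv_mul_cancel, map_one], one_mul]
  refine ⟨a, haI, _, psiU_iso hf (i := i) ?_ hk0, e⟩
  rw [← inv_mul_eq_of_eq_mul e]
  refine mul_mem (inv_mem ?_) hg
  rw [← liftR_eq hf]
  exact (split hf i).liftR_mem haI

omit hf in
variable (β c) in
/-- The isometries of the other factors occurring with an element of one factor. -/
noncomputable def cutI (G : Subgroup (GL (Idx k (t + 1)) F)) (i : Fin (t + 1)) : Subgroup (GL (Idx k t) F) :=
  cut G i ⊓ isometryGroup F (qT β c t)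

variable {G : Subgroup (GL (Idx k (t + 1)) F)}

theorem Ov.cutI (hG : Ov β c G) (hk : 0 < k) (i : Fin (t + 1)) : Ov β c (cutI β c G i) :=
  ⟨inf_le_right, fun l u a hu hua => ⟨⟨1, by
    rw [map_one, one_mul]
    exact (hG.cut0 hf hk i).sie l u a hu hua⟩, (hG.cut0 hf hk i).le ((hG.cut0 hf hk i).sie l u a hu hua)⟩⟩

theorem Perms.cutI (hG : Ov β c G) (hk : Odd k) (hP : Perms G) (i : Fin (t + 1)) :
    Perms (cutI β c G i) := by
  intro σ
  set σ' := σ.viaEmbedding (Fin.succAboveEmb i)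
  obtain ⟨g, hg, hσ⟩ := hP σ'
  have hi : σ' i = i := Equiv.Perm.viaEmbedding_apply_of_notMem _ _ _ (by
    rintro ⟨l, hl⟩; exact Fin.succAbove_ne i l hl)
  obtain ⟨A, hA⟩ := hσ i
  rw [hi] at hA
  obtain ⟨a, ha, Y, hY, rfl⟩ := split_iso hf hk (hG.le hg) hA
  refine ⟨Y, ⟨⟨a, hg⟩, hY⟩, fun j => ?_⟩
  obtain ⟨b, hb⟩ := hσ (i.succAbove j)
  rw [show σ' (i.succAbove j) = i.succAbove (σ j) from
    Equiv.Perm.viaEmbedding_apply σ (Fin.succAboveEmb i) j] at hb
  refine ⟨b, fun X => psi_injective hk.pos i ?_⟩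
  have h1 := hb X
  rw [conjA_mul, ← psi_fa, ← psi_fa, conjA_psiU, conjA_fu_com (com_psi i _)] at h1
  exact h1

/-- Fixing a factor is permuting them when the smaller group permutes. -/
theorem mem_mst_of_cutI (hG : Ov β c G) (hk : Odd k) {i : Fin (t + 1)}
    (hcut : cutI β c G i ≤ mst k t F) {g : GL (Idx k (t + 1)) F} (hg : g ∈ G) {A : GL (Fin k) F}
    (hA : Acts g i i A) : g ∈ mst k (t + 1) F := by
  obtain ⟨a, ha, Y, hY, rfl⟩ := split_iso hf hk (hG.le hg) hA
  exact mul_mem (fu_mem_mst i a) (psiU_mst hk.pos i (hcut ⟨⟨a, hg⟩, hY⟩))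

end Cfsg.Lib.Linear.OTPow
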