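import Cfsg.Agent.Lib.Linear.OTPow.Extract

/-!
# The algebra of the Siegel elements, and commutative invariant spaces

The Siegel elements of a factor span all its endomorphisms. Hence a commutative space invariant
under the Siegel elements of every factor consists of scalars.
-/

set_option autoImplicit false
set_option linter.unusedSectionVars false
set_option linter.unusedSimpArgs false

namespace Cfsg.Lib.Linear.OTPow

open Module Cfsg.Geo Cfsg.Lib.Linear.AschGen Cfsg.Lib.Linear.TWreath Cfsg.Lib.Linear.Orth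
open Cfsg.Lib.Linear.OOTensor (qf)
open scoped Matrix MatrixGroups

variable {F : Type*} [Field F] {k t : ℕ} {β : LinearMap.BilinForm F (Fin k → F)} {c : F}

variable (hf : Fm β c)
include hf

theorem exists_aniso_perp [Finite F] (hk : 3 ≤ k) {x f : Fin k → F} (H : Hyp (qf β) β ⊤ x f) :
    ∃ e, β x e = 0 ∧ β f e = 0 ∧ qf β e ≠ 0 := by
  obtain ⟨e, he, hQe⟩ := exists_nonsing (factor_space hf)
    (H.ndeg (factor_space hf) (factor_space hf).ndeg_top)
    (Cfsg.Lib.Linear.OOTensor.perp_ne_bot (factor_space hf) H (by simpa using hk))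
  exact ⟨e, (mem_perp2.1 he).2.1, (mem_perp2.1 he).2.2, hQe⟩

theorem rk_ne_zero {a b : Fin k → F} (ha : a ≠ 0) (hb : b ≠ 0) : rk β a b ≠ 0 := by
  obtain ⟨y, hy⟩ := (factor_space hf).exists_pair hb
  intro h
  have h1 := congrArg (fun M => M *ᵥ y) h
  simp only [rk_mulVec, hy, one_smul, Matrix.zero_mulVec] at h1
  exact ha h1

/-- The Siegel elements generate all endomorphisms of the factor as an algebra. -/
theorem alg_top [Finite F] (hk : 3 ≤ k) (A : Subalgebra F (Matrix (Fin k) (Fin k) F))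
    (h : ∀ u a : Fin k → F, qf β u = 0 → β u a = 0 → (sGL (qf β) β u a).val ∈ A)
    (M : Matrix (Fin k) (Fin k) F) : M ∈ A := by
  have C := factor_space hf
  have hxx : ∀ x, qf β x = 0 → rk β x x ∈ A := fun x hx => by
    rcases eq_or_ne x 0 with rfl | hx0
    · rw [show rk β (0 : Fin k → F) 0 = 0 from mat_ext fun v => by simp [rk_mulVec]]
      exact A.zero_mem
    obtain ⟨f, H⟩ := exists_hyp_at hf hx hx0
    obtain ⟨e, he, -, hQe⟩ := exists_aniso_perp hf hk H
    have hne : β x (-e) = 0 := by rw [map_neg, he, neg_zero]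
    have h1 := A.sub_mem (A.add_mem (h x e hx he) (h x (-e) hx hne))
      (A.smul_mem A.one_mem (2 : F))
    rw [sgl_val hf hx he, sgl_val hf hx hne, C.neg, wd_neg] at h1
    have e1 : 1 + wd β x e - qf β e • rk β x x + (1 + -wd β x e - qf β e • rk β x x) - (2 : F) • 1 =
        (-2 * qf β e) • rk β x x := by module
    rw [e1] at h1
    exact ((A.toSubmodule).smul_mem_iff (mul_ne_zero (neg_ne_zero.2 hf.h2) hQe)).1 h1
  have hstep : ∀ x z y, qf β x = 0 → qf β z = 0 → β x z ≠ 0 → rk β z y ∈ A → rk β x y ∈ A := by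
    intro x z y hx hz hne h1
    have h2 := A.mul_mem (hxx x hx) h1
    rw [rk_mul_rk] at h2
    exact ((A.toSubmodule).smul_mem_iff hne).1 h2
  have hsing : ∀ x y, qf β x = 0 → qf β y = 0 → rk β x y ∈ A := by
    intro x y hx hy
    rcases eq_or_ne x 0 with rfl | hx0
    · rw [show rk β (0 : Fin k → F) y = 0 from mat_ext fun v => by simp [rk_mulVec]]
      exact A.zero_mem
    rcases eq_or_ne y 0 with rfl | hy0
    · rw [show rk β x (0 : Fin k → F) = 0 from mat_ext fun v => by simp [rk_mulVec]]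
      exact A.zero_mem
    obtain ⟨f, H⟩ := exists_hyp_at hf hx hx0
    obtain ⟨g, G⟩ := exists_hyp_at hf hy hy0
    have hgy : β g y ≠ 0 := by rw [G.pair' C]; exact one_ne_zero
    by_cases h1 : β f y ≠ 0
    · exact hstep x f y hx H.singF (by rw [H.pair]; exact one_ne_zero)
        (hstep f y y H.singF hy h1 (hxx y hy))
    push Not at h1
    by_cases h2 : β x g ≠ 0
    · exact hstep x g y hx G.singF h2 (hstep g y y G.singF hy hgy (hxx y hy))
    push Not at h2
    by_cases h3 : β f g ≠ 0
    · exact hstep x f y hx H.singF (by rw [H.pair]; exact one_ne_zero)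
        (hstep f g y H.singF G.singF h3 (hstep g y y G.singF hy hgy (hxx y hy)))
    push Not at h3
    have hs : qf β (f + g) = 0 := by rw [C.add, H.singF, G.singF, h3]; simp
    refine hstep x (f + g) y hx hs (by rw [map_add, H.pair, h2, add_zero]; exact one_ne_zero)
      (hstep (f + g) y y hs hy ?_ (hxx y hy))
    rw [map_add, LinearMap.add_apply, h1, zero_add]
    exact hgy
  obtain ⟨x, f, H⟩ := exists_frame hf hk
  let W₁ : (Fin k → F) → Submodule F (Fin k → F) := fun y =>
    { carrier := {v | rk β v y ∈ A}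
      add_mem' := fun {a b} ha hb => by
        show rk β (a + b) y ∈ A
        rw [rk_add_left]; exact A.add_mem ha hb
      zero_mem' := by
        show rk β (0 : Fin k → F) y ∈ A
        rw [show rk β (0 : Fin k → F) y = 0 from mat_ext fun v => by simp [rk_mulVec]]
        exact A.zero_mem
      smul_mem' := fun r a ha => by
        show rk β (r • a) y ∈ A
        rw [rk_smul_left]; exact A.smul_mem ha r }
  let W₂ : (Fin k → F) → Submodule F (Fin k → F) := fun v =>
    { carrier := {y | rk β v y ∈ A}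
      add_mem' := fun {a b} ha hb => by
        show rk β v (a + b) ∈ A
        rw [rk_add_right]; exact A.add_mem ha hb
      zero_mem' := by
        show rk β v (0 : Fin k → F) ∈ A
        rw [show rk β v (0 : Fin k → F) = 0 from mat_ext fun v => by simp [rk_mulVec]]
        exact A.zero_mem
      smul_mem' := fun r a ha => by
        show rk β v (r • a) ∈ A
        rw [rk_smul_right]; exact A.smul_mem ha r }
  have h1 : ∀ y, qf β y = 0 → ∀ v, rk β v y ∈ A := fun y hy v =>
    show v ∈ W₁ y from (sing_span hf (V := W₁ y) H fun w hw => hsing w y hw hy) ▸ Submodule.mem_top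
  have h2 : ∀ v y, rk β v y ∈ A := fun v y =>
    show y ∈ W₂ v from (sing_span hf (V := W₂ v) H fun w hw => h1 w hw v) ▸ Submodule.mem_top
  have hN : β.Nondegenerate :=
    ⟨hf.nondeg, fun y h => hf.nondeg y fun x => by rw [hf.sym]; exact h x⟩
  have e : M = ∑ q, rk β (M *ᵥ Pi.single q 1) ((β.toDual hN).symm (LinearMap.proj q)) :=
    mat_ext fun v => by
      rw [Matrix.sum_mulVec]
      simp only [rk_mulVec, LinearMap.BilinForm.apply_toDual_symm_apply, LinearMap.proj_apply]
      conv_lhs => rw [pi_eq_sum_univ' v, Matrix.mulVec_sum]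
      simp only [Matrix.mulVec_smul]
  rw [e]
  exact A.sum_mem fun q _ => h2 _ _

/-- An algebra containing the Siegel elements of all factors is everything. -/
theorem big_alg_top [Finite F] (hk : 3 ≤ k) (A : Subalgebra F (Matrix (Idx k t) (Idx k t) F))
    (h : ∀ (l : Fin t) (u a : Fin k → F), qf β u = 0 → β u a = 0 →
      fa l (sGL (qf β) β u a).val ∈ A) (M : Matrix (Idx k t) (Idx k t) F) : M ∈ A := by
  rw [eq_top_of_fa_mem (C := A) fun l X => alg_top hf hk (A.comap (fa l)) (h l) X]
  exact Algebra.mem_top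

/-- A set of coefficients of a factor with zero products, invariant under the other factors, is
zero. -/
theorem eq_zero_of_sq_zero [Finite F] (hk : 3 ≤ k) {l : Fin t}
    {P : Matrix (Idx k t) (Idx k t) F → Prop}
    (hcom : ∀ Z, P Z → Com l Z)
    (hinv : ∀ j, j ≠ l → ∀ u a : Fin k → F, qf β u = 0 → β u a = 0 → ∀ Z, P Z →
      P (conjA (fu j (sGL (qf β) β u a)) Z))
    (hsq : ∀ Z Z', P Z → P Z' → Z * Z' = 0)
    {Z : Matrix (Idx k t) (Idx k t) F} (hZ : P Z) : Z = 0 := by
  let A : Subalgebra F (Matrix (Idx k t) (Idx k t) F) :=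
    { carrier := {T | ∀ v, (∀ B, P B → B *ᵥ v = 0) → ∀ B, P B → B *ᵥ (T *ᵥ v) = 0}
      mul_mem' := fun {S T} hS hT v hv B hB => by
        rw [← Matrix.mulVec_mulVec]; exact hS _ (hT v hv) B hB
      add_mem' := fun {S T} hS hT v hv B hB => by
        rw [Matrix.add_mulVec, Matrix.mulVec_add, hS v hv B hB, hT v hv B hB, add_zero]
      algebraMap_mem' := fun r v hv B hB => by
        rw [Algebra.algebraMap_eq_smul_one, Matrix.smul_mulVec, Matrix.one_mulVec,
          Matrix.mulVec_smul, hv B hB, smul_zero] }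
  have hA : ∀ T, T ∈ A := fun T => big_alg_top hf hk A (fun j u a hu hua v hv B hB => by
    rcases eq_or_ne j l with rfl | hj
    · rw [Matrix.mulVec_mulVec, ← (hcom B hB _).eq, ← Matrix.mulVec_mulVec, hv B hB,
        Matrix.mulVec_zero]
    · have hua' : β u (-a) = 0 := by rw [map_neg, hua, neg_zero]
      have h1 := hv _ (hinv j hj u (-a) hu hua' B hB)
      rw [← sgl_inv hf hu hua, conjA_apply, map_inv, inv_inv, fu_val, fu_inv_val,
        ← Matrix.mulVec_mulVec, ← Matrix.mulVec_mulVec] at h1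
      have h2 := congrArg (fun w => fa j (sGL (qf β) β u a).val *ᵥ w) h1
      simp only [Matrix.mulVec_zero] at h2
      rwa [Matrix.mulVec_mulVec, ← map_mul, Units.mul_inv, map_one, Matrix.one_mulVec] at h2) T
  by_contra hne
  obtain ⟨w, hw⟩ : ∃ w, Z *ᵥ w ≠ 0 := by
    by_contra h
    push Not at h
    exact hne (mat_ext fun v => by rw [h v, Matrix.zero_mulVec])
  have hJ : ∀ B, P B → B *ᵥ (Z *ᵥ w) = 0 := fun B hB => by
    rw [Matrix.mulVec_mulVec, hsq B Z hB hZ, Matrix.zero_mulVec]
  obtain ⟨p, hp⟩ := Function.ne_iff.1 hw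
  refine hne (Matrix.ext fun b a => ?_)
  have h1 := congrFun (hA (Matrix.single a p 1) _ hJ Z hZ) b
  rw [Matrix.single_mulVec, one_mul, show Function.update (0 : Idx k t → F) a ((Z *ᵥ w) p) =
    Pi.single a ((Z *ᵥ w) p) from rfl, Matrix.mulVec_single] at h1
  simp only [Pi.smul_apply, MulOpposite.smul_eq_mul_unop, MulOpposite.unop_op, Matrix.col_apply,
    Pi.zero_apply] at h1
  exact (mul_eq_zero.1 h1).resolve_right hp

/-- **A commutative invariant space consists of scalars.** -/
theorem scalar_of_inv [Finite F] (hb : Big F k) {K : Submodule F (Matrix (Idx k t) (Idx k t) F)}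
    (hK : ∀ l, LInv β l K) (hcomm : ∀ X ∈ K, ∀ Y ∈ K, Commute X Y)
    {X : Matrix (Idx k t) (Idx k t) F} (hX : X ∈ K) :
    ∃ r : F, X = r • (1 : Matrix (Idx k t) (Idx k t) F) := by
  have C := factor_space hf
  have hk := big_three_le hb
  refine scalar_of_com (by omega) fun l => ?_
  obtain ⟨x, f, H⟩ := exists_frame hf hk
  obtain ⟨e, hxe, hfe, hQe⟩ := exists_aniso_perp hf hk H
  -- the products of two coefficients vanish
  have hprod : ∀ {P Q : Matrix (Fin k) (Fin k) F} {Z Z' : Matrix (Idx k t) (Idx k t) F} {s : F},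
      s ≠ 0 → rk β f f * (P * Q) = s • rk β f f → rk β f f * (Q * P) = 0 → Com l Z → Com l Z' →
      fa l P * Z ∈ K → fa l Q * Z' ∈ K → Z * Z' = 0 := by
    intro P Q Z Z' s hs e1 e2 hZ hZ' hP hQ
    have h := congrArg (fa l (rk β f f) * ·) (hcomm _ hP _ hQ).eq
    have key : ∀ {P Q : Matrix (Fin k) (Fin k) F} {Z Z' : Matrix (Idx k t) (Idx k t) F}, Com l Z →
        fa l (rk β f f) * (fa l P * Z * (fa l Q * Z')) = fa l (rk β f f * (P * Q)) * (Z * Z') :=
      fun {P Q Z Z'} hZ => by
        rw [map_mul, map_mul, mul_assoc (fa l P), ← mul_assoc Z, ← (hZ Q).eq]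
        simp only [mul_assoc]
    rw [key hZ, key hZ', e1, e2, map_zero, zero_mul, map_smul, smul_mul_assoc] at h
    have hf0 : f ≠ 0 := fun h0 => by
      have := H.pair
      rw [h0, map_zero] at this
      exact one_ne_zero this.symm
    exact eq_zero_of_fa_mul (rk_ne_zero hf hf0 hf0) (hZ.mul hZ')
      ((smul_eq_zero.1 h).resolve_left hs)
  have hfx : β f x = 1 := H.pair' C
  have hff : β f f = 0 := C.self_zero H.singF
  have hxx : β x x = 0 := C.self_zero H.singE
  rcases dichotomy hf (hK l) hb hX with h | ⟨Z, hZ, hne, hZK⟩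
  · exact h
  exfalso
  refine hne ?_
  have hinv : ∀ (P : Matrix (Fin k) (Fin k) F) (Z : Matrix (Idx k t) (Idx k t) F) (j : Fin t), j ≠ l →
      ∀ u a : Fin k → F, qf β u = 0 → β u a = 0 → fa l P * Z ∈ K →
      fa l P * conjA (fu j (sGL (qf β) β u a)) Z ∈ K := by
    intro P Z j hj u a hu hua h
    have h1 := hK j u a hu hua _ h
    rwa [map_mul, conjA_fu_com (com_fa hj P)] at h1
  rcases hZK with h | h
  · exact eq_zero_of_sq_zero hf hk (l := l)
      (P := fun Z => Com l Z ∧ ∀ w, qf β w = 0 → fa l (rk β w w) * Z ∈ K) (fun _ hZ => hZ.1)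
      (fun j hj u a hu hua Z hZ => ⟨(acts_fu_ne hj.symm _).com hZ.1, fun w hw =>
        hinv _ _ j hj u a hu hua (hZ.2 w hw)⟩)
      (fun Z Z' hZ hZ' => hprod one_ne_zero
        (by rw [rk_mul_rk, H.pair, one_smul, rk_mul_rk, hfx])
        (by rw [rk_mul_rk, hfx, one_smul, rk_mul_rk, hff, zero_smul])
        hZ.1 hZ'.1 (hZ.2 x H.singE) (hZ'.2 f H.singF))
      ⟨hZ, h⟩
  · exact eq_zero_of_sq_zero hf hk (l := l)
      (P := fun Z => Com l Z ∧ ∀ a b, fa l (wd β a b) * Z ∈ K) (fun _ hZ => hZ.1)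
      (fun j hj u a hu hua Z hZ => ⟨(acts_fu_ne hj.symm _).com hZ.1, fun p q =>
        hinv _ _ j hj u a hu hua (hZ.2 p q)⟩)
      (fun Z Z' hZ hZ' => hprod (s := -β e e)
        (neg_ne_zero.2 (by rw [C.self]; exact mul_ne_zero hf.h2 hQe))
        (by simp only [wd, mul_sub, sub_mul, rk_mul_rk, smul_smul, Matrix.mul_smul, hxe, hfe,
              hf.sym e f, hf.sym e x, H.pair, hfx, hff, hxx]
            module)
        (by simp only [wd, mul_sub, sub_mul, rk_mul_rk, smul_smul, Matrix.mul_smul, hxe, hfe,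
              hf.sym e f, hf.sym e x, H.pair, hfx, hff, hxx]
            module)
        hZ.1 hZ'.1 (hZ.2 x e) (hZ'.2 f e))
      ⟨hZ, h⟩

end Cfsg.Lib.Linear.OTPow
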