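import Cfsg.Agent.Lib.Linear.OOTensor.Ten
import Cfsg.Agent.Lib.Linear.TWreath.Main

/-!
# Tensor powers of an orthogonal space

The form of a tensor power, its splittings into one factor and the others, and the groups
containing the Siegel elements of all factors.
-/

set_option autoImplicit false
set_option linter.unusedSectionVars false
set_option linter.unusedSimpArgs false

namespace Cfsg.Lib.Linear.OTPow

open Module Cfsg.Geo Cfsg.Lib.Linear.AschGen Cfsg.Lib.Linear.TWreath Cfsg.Lib.Linear.Orth
open Cfsg.Lib.Linear.OOTensor (qf Ten)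
open scoped Matrix MatrixGroups

variable {F : Type*} [Field F] {k t : ℕ}

/-- A non-degenerate symmetric form on a factor with a scale. -/
structure Fm (β : LinearMap.BilinForm F (Fin k → F)) (c : F) : Prop where
  h2 : (2 : F) ≠ 0
  sym : ∀ x y, β x y = β y x
  nondeg : ∀ x, (∀ y, β x y = 0) → x = 0
  c_ne : c ≠ 0

/-- A symmetric non-degenerate form gives a space. -/
theorem space_qf {μ : Type} [Fintype μ] [DecidableEq μ] {β : LinearMap.BilinForm F (μ → F)}
    (h2 : (2 : F) ≠ 0) (hs : ∀ x y, β x y = β y x) (hn : ∀ x, (∀ y, β x y = 0) → x = 0) :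
    Space (qf β) β := by
  refine ⟨fun c v => ?_, fun u v => ?_, fun v h => hn v fun y => by rw [hs]; exact h y⟩
  · simp [qf]; ring
  · simp only [QuadraticMap.polar, qf, map_add, LinearMap.add_apply, hs v u]
    field_simp [h2]
    ring

variable (β : LinearMap.BilinForm F (Fin k → F)) (c : F)

/-- The Gram matrix of the factor. -/
noncomputable def gram : Matrix (Fin k) (Fin k) F := LinearMap.BilinForm.toMatrix' β

/-- The form of the tensor power. -/
noncomputable def bT (t : ℕ) : LinearMap.BilinForm F (Idx k t → F) :=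
  Matrix.toBilin' (c • pureTens fun _ : Fin t => gram β)

/-- The quadratic form of the tensor power. -/
noncomputable def qT (t : ℕ) : (Idx k t → F) → F := qf (bT β c t)

variable {β c}

theorem gram_apply (p q : Fin k) : gram β p q = β (Pi.single p 1) (Pi.single q 1) :=
  LinearMap.BilinForm.toMatrix'_apply ..

theorem beta_eq_sum (x y : Fin k → F) : β x y = ∑ p, ∑ q, x p * gram β p q * y q := by
  conv_lhs => rw [← Matrix.toBilin'_toMatrix' β]
  exact Matrix.toBilin'_apply _ _ _

theorem bT_apply (v w : Idx k t → F) :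
    bT β c t v w = c * ∑ a, ∑ b, v a * (∏ l, gram β (a l) (b l)) * w b := by
  rw [bT, Matrix.toBilin'_apply, Finset.mul_sum]
  refine Finset.sum_congr rfl fun a _ => ?_
  rw [Finset.mul_sum]
  refine Finset.sum_congr rfl fun b _ => ?_
  simp only [Matrix.smul_apply, pureTens, Matrix.of_apply, smul_eq_mul]
  ring

/-- The product of a vector of the other factors and a vector of the `i`-th one. -/
def tau (i : Fin (t + 1)) : (Idx k t → F) →ₗ[F] (Fin k → F) →ₗ[F] (Idx k (t + 1) → F) :=
  LinearMap.mk₂ F (fun a x z => a (i.removeNth z) * x (z i))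
    (fun a a' x => funext fun z => by simp [add_mul])
    (fun r a x => funext fun z => by simp [mul_assoc])
    (fun a x x' => funext fun z => by simp [mul_add])
    (fun r a x => funext fun z => by simp [mul_left_comm])

theorem tau_apply (i : Fin (t + 1)) (a : Idx k t → F) (x : Fin k → F) (z : Idx k (t + 1)) :
    tau i a x z = a (i.removeNth z) * x (z i) := rfl

theorem cutEquiv_apply_same (i : Fin (t + 1)) (p : Fin k) (a : Idx k t) : cutEquiv i (p, a) i = p := by
  simp [cutEquiv, Fin.insertNthEquiv]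

theorem cutEquiv_apply_rest (i : Fin (t + 1)) (p : Fin k) (a : Idx k t) :
    i.removeNth (cutEquiv i (p, a)) = a := by
  simp [cutEquiv, Fin.insertNthEquiv]

theorem span_tau (i : Fin (t + 1)) :
    Submodule.span F (Set.range fun p : (Idx k t → F) × (Fin k → F) => tau i p.1 p.2) = ⊤ := by
  refine eq_top_iff.2 fun v _ => ?_
  rw [pi_eq_sum_univ' v]
  refine Submodule.sum_mem _ fun z _ => Submodule.smul_mem _ _
    (Submodule.subset_span ⟨(Pi.single (i.removeNth z) 1, Pi.single (z i) 1), funext fun w => ?_⟩)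
  simp only [tau_apply]
  rcases eq_or_ne w z with rfl | h
  · simp
  rw [Pi.single_eq_of_ne h]
  rcases eq_or_ne (w i) (z i) with h1 | h1
  · rw [Pi.single_eq_of_ne (fun e : i.removeNth w = i.removeNth z => h ?_), zero_mul]
    funext l
    rcases Fin.eq_self_or_eq_succAbove i l with rfl | ⟨j, rfl⟩
    · exact h1
    · exact congrFun e j
  · rw [Pi.single_eq_of_ne h1, mul_zero]

theorem bT_tau (i : Fin (t + 1)) (a b : Idx k t → F) (x y : Fin k → F) :
    bT β c (t + 1) (tau i a x) (tau i b y) = bT β c t a b * β x y := by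
  rw [bT_apply, bT_apply, beta_eq_sum x y, mul_assoc, ← (cutEquiv i).sum_comp]
  congr 1
  simp only [← (cutEquiv i).sum_comp (fun w : Idx k (t + 1) => _), tau_apply, cutEquiv_apply_same,
    cutEquiv_apply_rest, Fin.prod_univ_succAbove _ i]
  have e : ∀ (p : Fin k) (u : Idx k t) (l : Fin t), cutEquiv i (p, u) (i.succAbove l) = u l :=
    fun p u l => congrFun (cutEquiv_apply_rest i p u) l
  simp only [e, Fintype.sum_prod_type]
  rw [Finset.sum_comm, Finset.sum_mul]
  refine Finset.sum_congr rfl fun u _ => ?_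
  rw [Finset.mul_sum]
  refine Finset.sum_congr rfl fun p _ => ?_
  rw [Finset.sum_comm, Finset.sum_mul]
  refine Finset.sum_congr rfl fun w _ => ?_
  rw [Finset.mul_sum]
  exact Finset.sum_congr rfl fun q _ => by
    rw [cutEquiv_apply_rest, cutEquiv_apply_rest, cutEquiv_apply_same, cutEquiv_apply_same]
    ring

variable (hf : Fm β c)
include hf

theorem bT_sym (v w : Idx k t → F) : bT β c t v w = bT β c t w v := by
  rw [bT_apply, bT_apply, Finset.sum_comm]
  congr 1
  refine Finset.sum_congr rfl fun a _ => Finset.sum_congr rfl fun b _ => ?_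
  rw [Finset.prod_congr rfl fun l _ => show gram β (b l) (a l) = gram β (a l) (b l) by
    rw [gram_apply, gram_apply, hf.sym]]
  ring

theorem factor_space : Space (qf β) β := space_qf hf.h2 hf.sym hf.nondeg

theorem gram_det_ne : (gram β).det ≠ 0 := fun h => by
  obtain ⟨v, hv0, hv⟩ := Matrix.exists_vecMul_eq_zero_iff.2 h
  refine hv0 (hf.nondeg v fun y => ?_)
  conv_lhs => rw [← Matrix.toBilin'_toMatrix' β]
  rw [Matrix.toBilin'_apply']
  show v ⬝ᵥ gram β *ᵥ y = 0
  rw [Matrix.dotProduct_mulVec, hv, zero_dotProduct]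

theorem bT_nondeg (v : Idx k t → F) (hv : ∀ w, bT β c t v w = 0) : v = 0 := by
  have hu : IsUnit (gram β).det := isUnit_iff_ne_zero.2 (gram_det_ne hf)
  have h : ∀ w, v ⬝ᵥ (pureTens fun _ : Fin t => gram β) *ᵥ w = 0 := fun w => by
    have h1 := hv w
    rw [bT, Matrix.toBilin'_apply', Matrix.smul_mulVec, dotProduct_smul, smul_eq_mul] at h1
    exact (mul_eq_zero.1 h1).resolve_left hf.c_ne
  have h1 : v ᵥ* (pureTens fun _ : Fin t => gram β) = 0 := funext fun a => by
    have := h (Pi.single a 1)
    rwa [Matrix.dotProduct_mulVec, dotProduct_single, mul_one] at this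
  have h2 := congrArg (fun u => u ᵥ* (pureTens fun _ : Fin t => (gram β)⁻¹)) h1
  simpa [Matrix.vecMul_vecMul, pureTens_mul, Matrix.mul_nonsing_inv _ hu, pureTens_one] using h2

theorem qT_space : Space (qT β c t) (bT β c t) := space_qf hf.h2 (bT_sym hf) (bT_nondeg hf)

/-- The splitting at the `i`-th factor. -/
theorem split (i : Fin (t + 1)) : Ten (qT β c (t + 1)) (bT β c (t + 1)) (bT β c t) β (tau i) :=
  ⟨hf.h2, qT_space hf, bT_nondeg hf, bT_sym hf, hf.nondeg, hf.sym, fun a x b y => bT_tau i a b x y,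
    span_tau i⟩

omit hf in
theorem fa_tau (i : Fin (t + 1)) (X : Matrix (Fin k) (Fin k) F) (a : Idx k t → F) (x : Fin k → F) :
    fa i X *ᵥ tau i a x = tau i a (X *ᵥ x) := by
  funext z
  rw [Matrix.mulVec, dotProduct, ← (cutEquiv i).sum_comp, Fintype.sum_prod_type,
    Finset.sum_comm, tau_apply, Matrix.mulVec, dotProduct, Finset.mul_sum]
  rw [Finset.sum_eq_single (i.removeNth z)]
  · refine Finset.sum_congr rfl fun p _ => ?_
    rw [fa_apply, powStd_apply, if_pos, tau_apply, cutEquiv_apply_same, cutEquiv_apply_rest]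
    · ring
    intro l hl
    obtain ⟨j, rfl⟩ := Fin.exists_succAbove_eq hl
    exact (congrFun (cutEquiv_apply_rest i p (i.removeNth z)) j).symm
  · intro u _ hu
    refine Finset.sum_eq_zero fun p _ => ?_
    rw [fa_apply, powStd_apply, if_neg, zero_mul]
    intro h
    refine hu (funext fun j => ?_)
    have := h _ (Fin.succAbove_ne i j)
    rw [show cutEquiv i (p, u) (i.succAbove j) = u j from congrFun (cutEquiv_apply_rest i p u) j] at this
    exact this.symm
  · exact fun h => absurd (Finset.mem_univ _) h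

omit hf in
theorem psi_tau (i : Fin (t + 1)) (Y : Matrix (Idx k t) (Idx k t) F) (a : Idx k t → F) (x : Fin k → F) :
    psi i Y *ᵥ tau i a x = tau i (Y *ᵥ a) x := by
  funext z
  rw [Matrix.mulVec, dotProduct, ← (cutEquiv i).sum_comp, Fintype.sum_prod_type, tau_apply,
    Matrix.mulVec, dotProduct, Finset.sum_mul]
  rw [Finset.sum_eq_single (z i)]
  · refine Finset.sum_congr rfl fun u _ => ?_
    rw [psi_apply, if_pos (cutEquiv_apply_same i (z i) u).symm, tau_apply, cutEquiv_apply_same,
      cutEquiv_apply_rest]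
    ring
  · intro p _ hp
    refine Finset.sum_eq_zero fun u _ => ?_
    rw [psi_apply, if_neg (fun h => hp (by rw [cutEquiv_apply_same] at h; exact h.symm)), zero_mul]
  · exact fun h => absurd (Finset.mem_univ _) h

theorem liftR_eq (i : Fin (t + 1)) (q : GL (Fin k) F) : (split hf i).liftR q = fu i q :=
  (split hf i).gl_ext fun a x => by rw [(split hf i).liftR_act, fu_val, fa_tau]

theorem liftL_eq (i : Fin (t + 1)) (p : GL (Idx k t) F) : (split hf i).swap.liftR p = psiU i p :=
  (split hf i).gl_ext fun a x => by rw [(split hf i).liftL_act, psiU_val, psi_tau]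

variable (β c) in
/-- A subgroup of the isometries of the tensor power containing the Siegel elements of all factors. -/
structure Ov {t : ℕ} (G : Subgroup (GL (Idx k t) F)) : Prop where
  le : G ≤ isometryGroup F (qT β c t)
  sie : ∀ (l : Fin t) (u a : Fin k → F), qf β u = 0 → β u a = 0 →
    fu l (sGL (qf β) β u a) ∈ G

omit hf in
theorem Ov.root {G : Subgroup (GL (Idx k t) F)} (hG : Ov β c G) (l : Fin t) {h : GL (Fin k) F}
    (hh : h ∈ Root (qf β) β ⊤) : fu l h ∈ G :=
  (show Root (qf β) β ⊤ ≤ G.comap (fu l) from (Subgroup.closure_le _).2 fun _ hg => by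
    obtain ⟨u, a, -, -, hu, hua, rfl⟩ := hg
    exact hG.sie l u a hu hua) hh

omit hf in
/-- The elements supported off the `i`-th factor. -/
def cut0 (G : Subgroup (GL (Idx k (t + 1)) F)) (i : Fin (t + 1)) : Subgroup (GL (Idx k t) F) :=
  G.comap (psiU i)

theorem psiU_iso {i : Fin (t + 1)} {Y : GL (Idx k t) F}
    (h : psiU i Y ∈ isometryGroup F (qT β c (t + 1))) (hk : 0 < k) : Y ∈ isometryGroup F (qT β c t) := by
  obtain ⟨x, hx⟩ := (split hf i).swap.exists_aniso_left (by simpa using hk)
  refine mem_iso.2 fun v => ?_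
  have h1 := (qT_space hf).B_act h (tau i v x) (tau i v x)
  rw [psiU_val, psi_tau, bT_tau, bT_tau] at h1
  show (2 : F)⁻¹ * _ = (2 : F)⁻¹ * _
  rw [mul_right_cancel₀ hx h1]

theorem Ov.cut0 {G : Subgroup (GL (Idx k (t + 1)) F)} (hG : Ov β c G) (hk : 0 < k) (i : Fin (t + 1)) :
    Ov β c (cut0 G i) :=
  ⟨fun _ hY => psiU_iso hf (hG.le hY) hk, fun l u a hu hua => by
    show psiU i _ ∈ G
    rw [psiU_fu]
    exact hG.sie _ u a hu hua⟩

end Cfsg.Lib.Linear.OTPow
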