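import Cfsg.Agent.Lib.Linear.OOTensor.Parab

/-!
# The commutator of two elements of a radical
-/

set_option autoImplicit false
set_option linter.unusedSectionVars false
set_option linter.unusedSimpArgs false

namespace Cfsg.Lib.Linear.OTPow

open Module Cfsg.Lib.Linear.Orth
open Cfsg.Lib.Linear.OOTensor
open scoped Matrix MatrixGroups

variable {ι κ μ : Type} [Fintype ι] [DecidableEq ι] [Fintype κ] [DecidableEq κ] [Fintype μ]
  [DecidableEq μ] {F : Type*} [Field F] {Q : (ι → F) → F} {B : LinearMap.BilinForm F (ι → F)}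
  {α : LinearMap.BilinForm F (κ → F)} {β : LinearMap.BilinForm F (μ → F)}
  {τ : (κ → F) →ₗ[F] (μ → F) →ₗ[F] (ι → F)} {L : Subgroup (GL ι F)} (T : Ten Q B α β τ)
  {x f e : μ → F} (H : Hyp (qf β) β ⊤ x f) (he : e ∈ perp2 β ⊤ x f)
include H he

theorem real_add' {K K' : Module.End F (κ → F)} (h : Real T L x f e K) (h' : Real T L x f e K') :
    Real T L x f e (K + K') := by
  obtain ⟨g, hg, hu, hc⟩ := h
  obtain ⟨g', hg', hu', hc'⟩ := h'
  exact ⟨g * g', mul_mem hg hg', hu.mul T hu', fun w hw => by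
    rw [Unip.cof_mul T H hu hu' (mem_perp2.1 hw).2.1, hc w hw, hc' w hw, smul_add]⟩

/-- The commutator of two elements with coefficients in one direction is long. -/
theorem comm_long {g g' : GL ι F} (hgI : g ∈ isometryGroup F Q) (hgI' : g' ∈ isometryGroup F Q)
    (hg : Unip T x g) (hg' : Unip T x g') {K K' : Module.End F (κ → F)}
    (hK : ∀ a b, α (K a) b = α a (K b)) (hK' : ∀ a b, α (K' a) b = α a (K' b))
    (hc : ∀ w ∈ perp2 β ⊤ x f, T.cof f g w = β e w • K)
    (hc' : ∀ w ∈ perp2 β ⊤ x f, T.cof f g' w = β e w • K') (v : ι → F) :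
    (g * g' * (g' * g)⁻¹).val *ᵥ v = v + T.long x (β e e • (K' * K - K * K')) v := by
  obtain ⟨-, he1, he2⟩ := mem_perp2.1 he
  have hk := (hg.mul T hg').mul T ((hg'.mul T hg).inv T)
  have hcz : ∀ r ∈ perp2 β ⊤ x f, T.cof f (g * g' * (g' * g)⁻¹) r = 0 := fun r hr => by
    have hr1 := (mem_perp2.1 hr).2.1
    rw [Unip.cof_mul T H (hg.mul T hg') ((hg'.mul T hg).inv T) hr1,
      Unip.cof_inv T H (hg'.mul T hg) hr1, Unip.cof_mul T H hg hg' hr1, Unip.cof_mul T H hg' hg hr1]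
    abel
  have hfix : ∀ u w, β x w = 0 → (g * g' * (g' * g)⁻¹).val *ᵥ τ u w = τ u w := by
    intro u w hw
    obtain ⟨r, hr, ew⟩ := exists_split T.SW H w
    rw [ew, hw, zero_smul, add_zero, map_add, map_smul, Matrix.mulVec_add, Matrix.mulVec_smul, hk.1,
      hk.act T H (mem_perp2.1 hr).2.1, hcz r hr]
    simp
  obtain ⟨φ, hφ⟩ := long_of_fix T H (mul_mem (mul_mem hgI hgI') (inv_mem (mul_mem hgI' hgI))) hfix
  suffices e1 : φ = β e e • (K' * K - K * K') by rw [hφ, e1]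
  have hact : ∀ {h : GL ι F}, h ∈ isometryGroup F Q → Unip T x h → ∀ {K : Module.End F (κ → F)},
      (∀ a b, α (K a) b = α a (K b)) → (∀ w ∈ perp2 β ⊤ x f, T.cof f h w = β e w • K) → ∀ u,
      ∃ a, h.val *ᵥ τ u f = τ u f + τ a x - τ (K u) e := by
    intro h hhI hh K hK hc u
    refine ⟨T.ctr f (h.val *ᵥ τ u f), T.ext3 H ?_ ?_ fun r hr => ?_⟩
    · simp [Unip.ctr_x T H hhI hh, T.ctr_tau, H.pair' T.SW, T.qf_zero.1 H.singE, T.sβ e x, he1]
    · simp [T.ctr_tau, H.pair, T.qf_zero.1 H.singF, T.sβ e f, he2]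
    · obtain ⟨-, r1, r2⟩ := mem_perp2.1 hr
      refine T.α_ext fun c => ?_
      rw [Unip.ctr_perp T H hhI hh hr, hc r hr]
      simp [T.ctr_tau, r1, r2, T.sβ f r, T.sβ x r, hK]
  refine LinearMap.ext fun u => ?_
  have h1 := hφ ((g' * g).val *ᵥ τ u f)
  rw [← mul_act (g * g' * (g' * g)⁻¹) (g' * g), inv_mul_cancel_right, T.long_apply,
    Unip.ctr_x T H (mul_mem hgI' hgI) (hg'.mul T hg), mul_act, mul_act] at h1
  obtain ⟨a, ha⟩ := hact hgI hg hK hc u
  obtain ⟨a', ha'⟩ := hact hgI' hg' hK' hc' u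
  simp only [ha, ha', Matrix.mulVec_sub, Matrix.mulVec_add, hg.1, hg'.1, hg.act T H he1,
    hg'.act T H he1, hc e he, hc' e he] at h1
  have h2 := congrArg (T.ctr f) h1
  simp only [map_add, map_sub, T.ctr_tau, H.pair, T.qf_zero.1 H.singF, T.sβ e f, he2, one_smul,
    zero_smul, LinearMap.smul_apply, sub_zero] at h2
  simp only [LinearMap.smul_apply, LinearMap.sub_apply, Module.End.mul_apply, smul_sub]
  linear_combination (norm := module) -h2

end Cfsg.Lib.Linear.OTPow
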