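import Cfsg.Agent.Lib.Linear.OTPow.Long
import Cfsg.Agent.Lib.Linear.OTPow.Comm

/-!
# A line of coefficients gives one commuting with a factor

A line of coefficients either commutes with a factor or contains the products of all the symmetric,
or all the skew, pieces of each factor. In the second case a torus made of two opposite long
elements yields again a coefficient commuting with a factor, if there are at least two others.
-/

set_option autoImplicit false
set_option linter.unusedSectionVars false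
set_option linter.unusedSimpArgs false

namespace Cfsg.Lib.Linear.OTPow

open Module Cfsg.Geo Cfsg.Lib.Linear.AschGen Cfsg.Lib.Linear.TWreath Cfsg.Lib.Linear.Orth
open Cfsg.Lib.Linear.OOTensor (qf Unip Real cj cj_apply)
open Cfsg.Lib.Linear.SpTensor (InA)
open scoped Matrix MatrixGroups

variable {F : Type*} [Field F] {k t : ℕ} {β : LinearMap.BilinForm F (Fin k → F)} {c : F}

/-- The symmetric or the skew pieces. -/
def fam (β : LinearMap.BilinForm F (Fin k → F)) : Bool → Matrix (Fin k) (Fin k) F → Prop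
  | true, M => ∃ w w', qf β w = 0 ∧ qf β w' = 0 ∧ M = rk β w w + rk β w' w'
  | false, M => ∃ a b, M = wd β a b

/-- The product of matrices at some of the factors. -/
def pS (S : Finset (Fin t)) (A : Fin t → Matrix (Fin k) (Fin k) F) :
    Matrix (Idx k t) (Idx k t) F :=
  pureTens fun l => if l ∈ S then A l else 1

theorem pS_insert {S : Finset (Fin t)} {l : Fin t} (hl : l ∉ S)
    (A : Fin t → Matrix (Fin k) (Fin k) F) : pS (insert l S) A = fa l (A l) * pS S A := by
  rw [pS, pS, fa_apply, powStd, pureTens_mul]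
  congr 1
  funext j
  rcases eq_or_ne j l with rfl | hj
  · simp [hl]
  · simp [hj]

theorem pS_com {S : Finset (Fin t)} {l : Fin t} (hl : l ∉ S)
    (A : Fin t → Matrix (Fin k) (Fin k) F) : Com l (pS S A) := by
  intro Y
  show _ * _ = _ * _
  rw [pS, fa_apply, powStd, pureTens_mul, pureTens_mul]
  congr 1
  funext j
  rcases eq_or_ne j l with rfl | hj
  · simp [hl]
  · simp [hj]

theorem pS_univ (A : Fin t → Matrix (Fin k) (Fin k) F) : pS Finset.univ A = pureTens A := by
  simp [pS]

theorem pS_mul_ne {S : Finset (Fin t)} {A : Fin t → Matrix (Fin k) (Fin k) F}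
    (hA : ∀ l ∈ S, A l ≠ 0) {Z : Matrix (Idx k t) (Idx k t) F} (hZ : ∀ l ∈ S, Com l Z) (hne : Z ≠ 0) :
    pS S A * Z ≠ 0 := by
  induction S using Finset.induction_on with
  | empty =>
    rw [pS]
    simpa [pureTens_one] using hne
  | insert l S hl ih =>
    rw [pS_insert hl, mul_assoc]
    intro h
    exact ih (fun j hj => hA j (Finset.mem_insert_of_mem hj))
      (fun j hj => hZ j (Finset.mem_insert_of_mem hj))
      (eq_zero_of_fa_mul (hA l (Finset.mem_insert_self l S))
        ((pS_com hl A).mul (hZ l (Finset.mem_insert_self l S))) h)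

variable (hf : Fm β c)
include hf

theorem sadj_pureTens {A : Fin t → Matrix (Fin k) (Fin k) F}
    (hA : ∀ l v w, β (A l *ᵥ v) w = β v (A l *ᵥ w)) : SAdj β c (pureTens A) := by
  rw [← pS_univ A]
  induction (Finset.univ : Finset (Fin t)) using Finset.induction_on with
  | empty =>
    have : (pS ∅ A : Matrix (Idx k t) (Idx k t) F) = (1 : F) • 1 := by simp [pS, pureTens_one]
    rw [this]
    exact SAdj.scalar 1
  | insert l S hl ih =>
    rw [pS_insert hl]
    exact SAdj.mul (fun a b => fa_adj hf l (hA l) a b) ih (pS_com hl A _)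

/-- The skew maps are sums of wedges. -/
theorem wedge_sum {N : Matrix (Fin k) (Fin k) F} (hN : ∀ v w, β (N *ᵥ v) w = -β v (N *ᵥ w)) :
    ∃ u v : Fin k → (Fin k → F), (2 : F) • N = ∑ q, wd β (u q) (v q) := by
  choose b hb using fun q : Fin k => exists_functional hf (LinearMap.proj q : (Fin k → F) →ₗ[F] F)
  refine ⟨b, fun q => N *ᵥ Pi.single q 1, mat_ext fun v => ?_⟩
  have e1 : ∑ q, v q • (N *ᵥ Pi.single q 1) = N *ᵥ v := by
    conv_rhs => rw [pi_eq_sum_univ' v, Matrix.mulVec_sum]
    simp only [Matrix.mulVec_smul]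
  have e2 : ∑ q, β (N *ᵥ Pi.single q 1) v • b q = -(N *ᵥ v) := by
    refine eq_neg_of_add_eq_zero_left ((factor_space hf).nondeg' fun w => ?_)
    simp only [map_add, map_sum, map_smul, LinearMap.add_apply, LinearMap.sum_apply,
      LinearMap.smul_apply, hb, LinearMap.proj_apply, smul_eq_mul]
    have e3 : ∑ q, β (N *ᵥ Pi.single q 1) v * w q = β (N *ᵥ w) v := by
      conv_rhs => rw [pi_eq_sum_univ' w, Matrix.mulVec_sum]
      simp only [Matrix.mulVec_smul, map_sum, map_smul, LinearMap.sum_apply, LinearMap.smul_apply,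
        smul_eq_mul]
      exact Finset.sum_congr rfl fun q _ => mul_comm _ _
    rw [e3, hN w v, hf.sym w]
    ring
  rw [Matrix.smul_mulVec, Matrix.sum_mulVec]
  simp only [wd_mulVec, hb, LinearMap.proj_apply, Finset.sum_sub_distrib, e1, e2, sub_neg_eq_add,
    two_smul]

/-- The operator at the frame of one of the two kinds. -/
theorem fam_frame {x f : Fin k → F} (H : Hyp (qf β) β ⊤ x f) (b : Bool) :
    ∃ A, fam β b A ∧ A * A = rk β x f + rk β f x ∧ (rk β x f + rk β f x) * A = A ∧
      A * (rk β x f + rk β f x) = A := by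
  have C := factor_space hf
  have hfx : β f x = 1 := H.pair' C
  have hxx := C.self_zero H.singE
  have hff := C.self_zero H.singF
  cases b
  · refine ⟨wd β x f, ⟨x, f, rfl⟩, ?_, ?_, ?_⟩ <;>
      simp only [wd, mul_sub, sub_mul, mul_add, add_mul, rk_mul_rk, H.pair, hfx, hxx, hff, one_smul,
        zero_smul] <;> abel
  · refine ⟨rk β x x + rk β f f, ⟨x, f, H.singE, H.singF, rfl⟩, ?_, ?_, ?_⟩ <;>
      simp only [mul_add, add_mul, rk_mul_rk, H.pair, hfx, hxx, hff, one_smul, zero_smul] <;> abel

/-- The alternative for an invariant space. -/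
theorem com_or_pure [Finite F] (hb : Big F k) {K : Submodule F (Matrix (Idx k t) (Idx k t) F)}
    (hK : ∀ l, LInv β l K) {X : Matrix (Idx k t) (Idx k t) F} (hX : X ∈ K) (hne : X ≠ 0) :
    (∃ (j : Fin t) (φ : Matrix (Idx k t) (Idx k t) F), φ ∈ K ∧ φ ≠ 0 ∧ Com j φ) ∨
      ∃ kind : Fin t → Bool, ∀ A, (∀ l, fam β (kind l) (A l)) → pureTens A ∈ K := by
  classical
  have C := factor_space hf
  obtain ⟨x, f, H⟩ := exists_frame hf (big_three_le hb)
  have hx0 : x ≠ 0 := fun e => by simpa [e] using H.pair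
  have hne2 : wd β x f ≠ 0 := fun h0 => by
    have h1 := congrArg (fun M => M *ᵥ f) h0
    simp only [wd_mulVec, H.pair, C.self_zero H.singF, one_smul, zero_smul, sub_zero,
      Matrix.zero_mulVec] at h1
    simpa [h1] using H.pair
  have hne1 := rk_ne_zero hf hx0 hx0
  have hr0 : rk β (0 : Fin k → F) 0 = 0 := mat_ext fun v => by simp [rk_mulVec]
  by_cases hcom : ∃ (j : Fin t) (φ : Matrix (Idx k t) (Idx k t) F), φ ∈ K ∧ φ ≠ 0 ∧ Com j φ
  · exact Or.inl hcom
  refine Or.inr ?_
  suffices key : ∀ S : Finset (Fin t), ∃ kind : Fin t → Bool, ∃ Z : Matrix (Idx k t) (Idx k t) F,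
      Z ≠ 0 ∧ (∀ l ∈ S, Com l Z) ∧
      ∀ A, (∀ l ∈ S, fam β (kind l) (A l)) → pS S A * Z ∈ K by
    obtain ⟨kind, Z, hZ, hZc, hall⟩ := key Finset.univ
    obtain ⟨r, rfl⟩ := scalar_of_com (by have := big_three_le hb; omega) fun l => hZc l (Finset.mem_univ l)
    refine ⟨kind, fun A hA => ?_⟩
    have h1 := hall A fun l _ => hA l
    rw [pS_univ, mul_smul_comm, mul_one] at h1
    exact (K.smul_mem_iff fun e => hZ (by rw [e, zero_smul])).1 h1
  intro S
  induction S using Finset.induction_on with
  | empty =>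
    exact ⟨fun _ => true, X, hne, fun l hl => absurd hl (Finset.notMem_empty l), fun A _ => by
      simpa [pS, pureTens_one] using hX⟩
  | insert j S hj ih =>
    obtain ⟨kind, Z, hZ, hZc, hall⟩ := ih
    let K' : Submodule F (Matrix (Idx k t) (Idx k t) F) :=
      { carrier := {Z | (∀ l ∈ S, Com l Z) ∧
          ∀ A, (∀ l ∈ S, fam β (kind l) (A l)) → pS S A * Z ∈ K}
        add_mem' := fun h h' => ⟨fun l hl => (h.1 l hl).add (h'.1 l hl),
          fun A hA => by rw [mul_add]; exact K.add_mem (h.2 A hA) (h'.2 A hA)⟩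
        zero_mem' := ⟨fun l _ Y => Commute.zero_right _, fun A _ => by rw [mul_zero]; exact K.zero_mem⟩
        smul_mem' := fun r Z h => ⟨fun l hl => (h.1 l hl).smul r,
          fun A hA => by rw [mul_smul_comm]; exact K.smul_mem r (h.2 A hA)⟩ }
    have hK' : LInv β j K' := fun u a hu hua Y hY =>
      ⟨fun l hl => (acts_fu_ne (ne_of_mem_of_not_mem hl hj) _).com (hY.1 l hl), fun A hA => by
        have h1 := hK j u a hu hua _ (hY.2 A hA)
        rwa [map_mul, conjA_fu_com (pS_com hj A)] at h1⟩
    rcases dichotomy hf hK' hb (X := Z) ⟨hZc, hall⟩ with hc | ⟨Z', hZ'c, hZ', hkind⟩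
    · exfalso
      let A₀ : Fin t → Matrix (Fin k) (Fin k) F := fun l => if kind l then rk β x x else wd β x f
      have hA₀ : ∀ l, fam β (kind l) (A₀ l) := fun l => by
        cases h : kind l
        · exact ⟨x, f, by simp [A₀, h]⟩
        · exact ⟨x, 0, H.singE, C.zero, by simp [A₀, h, hr0]⟩
      refine hcom ⟨j, _, hall A₀ fun l _ => hA₀ l, pS_mul_ne (fun l _ => ?_) hZc hZ,
        (pS_com hj A₀).mul hc⟩
      cases h : kind l <;> simp [A₀, h, hne1, hne2]
    obtain ⟨b, hb'⟩ : ∃ b, ∀ M, fam β b M → fa j M * Z' ∈ K' := by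
      rcases hkind with h | h
      · exact ⟨true, fun M ⟨w, w', hw, hw', e⟩ => by
          rw [e, map_add, add_mul]; exact K'.add_mem (h w hw) (h w' hw')⟩
      · exact ⟨false, fun M ⟨a, b, e⟩ => by rw [e]; exact h a b⟩
    obtain ⟨P, hP, hP0⟩ : ∃ P, fam β b P ∧ P ≠ 0 := by
      cases b
      · exact ⟨_, ⟨x, f, rfl⟩, hne2⟩
      · exact ⟨_, ⟨x, 0, H.singE, C.zero, by rw [hr0, add_zero]⟩, hne1⟩
    refine ⟨Function.update kind j b, Z', hZ', fun l hl => ?_, fun A hA => ?_⟩
    · rcases Finset.mem_insert.1 hl with rfl | hl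
      · exact hZ'c
      intro Y
      have hlj := ne_of_mem_of_not_mem hl hj
      refine sub_eq_zero.1 (eq_zero_of_fa_mul (i := j) hP0
        (((com_fa hlj.symm Y).mul hZ'c).sub (hZ'c.mul (com_fa hlj.symm Y))) ?_)
      rw [mul_sub, ← mul_assoc, ← (fa_comm hlj Y P).eq, mul_assoc, ((hb' P hP).1 l hl Y).eq, mul_assoc,
        sub_self]
    · have h1 := (hb' (A j) (by simpa using hA j (Finset.mem_insert_self j S))).2 A fun l hl => by
        simpa [ne_of_mem_of_not_mem hl hj] using hA l (Finset.mem_insert_of_mem hl)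
      rwa [← mul_assoc, ← ((pS_com hj A) (A j)).eq, ← pS_insert hj] at h1

variable {G : Subgroup (GL (Idx k (t + 1)) F)} (hG : Ov β c G)
include hG

set_option maxHeartbeats 1000000 in
/-- With pure products and at least two other factors a coefficient commutes with a factor. -/
theorem pure_com [Finite F] (hb : Big F k) (ht : 2 ≤ t) {i : Fin (t + 1)} {x f : Fin k → F}
    (H : Hyp (qf β) β ⊤ x f) {kind : Fin t → Bool}
    (hpure : ∀ A, (∀ l, fam β (kind l) (A l)) → LineIn β G i x (pureTens A)) :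
    ∃ (j : Fin t) (φ : Matrix (Idx k t) (Idx k t) F), LineIn β G i x φ ∧ φ ≠ 0 ∧ Com j φ := by
  classical
  have C := factor_space hf
  have hx0 : x ≠ 0 := fun e => by simpa [e] using H.pair
  have hf0 : f ≠ 0 := fun e => by simpa [e] using H.pair
  set T := split hf i with hT
  obtain ⟨e, hxe, hfe, hQe⟩ := exists_aniso_perp hf (big_three_le hb) H
  have he : e ∈ perp2 β ⊤ x f := mem_perp2.2 ⟨trivial, hxe, hfe⟩
  set Pi0 : Matrix (Fin k) (Fin k) F := rk β x f + rk β f x with hPi0
  choose A hA hAA hPA hAP using fun l => fam_frame hf H (kind l)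
  set φ := pureTens A with hφdef
  set E := pureTens fun _ : Fin t => Pi0 with hEdef
  have hφφ : φ * φ = E := by rw [hφdef, pureTens_mul]; exact congrArg pureTens (funext hAA)
  have hEφ : E * φ = φ := by rw [hφdef, hEdef, pureTens_mul]; exact congrArg pureTens (funext hPA)
  have hφE : φ * E = φ := by rw [hφdef, hEdef, pureTens_mul]; exact congrArg pureTens (funext hAP)
  have hEE : E * E = E := by
    calc E * E = φ * φ * E := by rw [hφφ]
      _ = E := by rw [mul_assoc, hφE, hφφ]
  -- the two one-parameter groups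
  have hXe := hpure A hA
  have hYe := LineIn.move hf hG hb H.singE hx0 H.singF hf0 hXe
  choose gX hgX hgXv using hXe
  choose gY hgY hgYv using hYe
  have hxx := C.self_zero H.singE
  have hff := C.self_zero H.singF
  have hfx : β f x = 1 := H.pair' C
  have actX : ∀ a u w, (gX a).val *ᵥ tau i u w =
      tau i u w + tau i ((a * β x w) • (φ *ᵥ u)) x := fun a u w => by
    rw [hgXv, Matrix.add_mulVec, Matrix.one_mulVec, ← Matrix.mulVec_mulVec, psi_tau, fa_tau, rk_mulVec,
      Matrix.smul_mulVec, ← hφdef]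
    simp only [map_smul, LinearMap.smul_apply, smul_smul]
    ring_nf
  have actY : ∀ a u w, (gY a).val *ᵥ tau i u w =
      tau i u w + tau i ((a * β f w) • (φ *ᵥ u)) f := fun a u w => by
    rw [hgYv, Matrix.add_mulVec, Matrix.one_mulVec, ← Matrix.mulVec_mulVec, psi_tau, fa_tau, rk_mulVec,
      Matrix.smul_mulVec, ← hφdef]
    simp only [map_smul, LinearMap.smul_apply, smul_smul]
    ring_nf
  let w : F → GL (Idx k (t + 1)) F := fun s => gX s * gY (-s⁻¹) * gX s
  have hw : ∀ s, s ≠ 0 → ∀ u,
      ((w s).val *ᵥ tau i u x = tau i (u - E *ᵥ u) x + tau i ((-s⁻¹) • (φ *ᵥ u)) f) ∧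
      ((w s).val *ᵥ tau i u f = tau i (u - E *ᵥ u) f + tau i (s • (φ *ᵥ u)) x) := fun s hs u => by
    constructor <;>
    · simp only [w, mul_act, actX, actY, Matrix.mulVec_add, hxx, hff, hfx, H.pair, mul_zero, mul_one,
        zero_smul, map_zero, LinearMap.zero_apply, add_zero, Matrix.mulVec_smul, Matrix.mulVec_mulVec,
        hφφ, map_add, map_sub, map_smul, LinearMap.add_apply, LinearMap.sub_apply, LinearMap.smul_apply,
        hφE, smul_smul]
      match_scalars <;> field_simp <;> ring
  have hperp : ∀ s u r, β x r = 0 → β f r = 0 → (w s).val *ᵥ tau i u r = tau i u r := fun s u r h h' => by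
    simp only [w, mul_act, actX, actY, h, h', mul_zero, zero_smul, map_zero, LinearMap.zero_apply,
      add_zero]
  let h : F → GL (Idx k (t + 1)) F := fun s => w s * w (-1)
  have hwG : ∀ s, w s ∈ G := fun s => mul_mem (mul_mem (hgX s) (hgY _)) (hgX s)
  have hhx : ∀ s, s ≠ 0 → ∀ u, (h s).val *ᵥ tau i u x = tau i (u - E *ᵥ u + s • (E *ᵥ u)) x :=
    fun s hs u => by
      show (w s * w (-1)).val *ᵥ _ = _
      rw [mul_act, (hw (-1) (neg_ne_zero.2 one_ne_zero) u).1, Matrix.mulVec_add, (hw s hs _).1,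
        (hw s hs _).2]
      simp only [inv_neg, inv_one, neg_neg, one_smul, map_add, map_sub, map_smul, LinearMap.add_apply,
        LinearMap.sub_apply, LinearMap.smul_apply, Matrix.mulVec_sub, Matrix.mulVec_mulVec, hφφ, hEE,
        hEφ, hφE]
      module
  have hhr : ∀ s u r, β x r = 0 → β f r = 0 → (h s).val *ᵥ tau i u r = tau i u r := fun s u r a b => by
    simp only [h, mul_act, hperp _ u r a b]
  have hu : Unip T x (T.liftR (sGL (qf β) β x e)) := OOTensor.unip_siegel T H hxe
  have huG : T.liftR (sGL (qf β) β x e) ∈ G := by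
    rw [hT, liftR_eq hf]; exact hG.sie i x e H.singE hxe
  set El : Module.End F (Idx k t → F) := Matrix.mulVecLin E with hEl
  have hreal0 : ∀ s : F, s ≠ 0 → Real T G x f e ((1 - s) • El) := by
    intro s hs
    have hhG : h s ∈ G := mul_mem (hwG s) (hwG _)
    have hc := Unip.conj T H (hG.le hhG) (fun u => ⟨_, hhx s hs u⟩) hu
    refine ⟨_, mul_mem (mul_mem (mul_mem hhG huG) (inv_mem hhG)) (inv_mem huG), hc.mul T (hu.inv T),
      fun r hr => ?_⟩
    obtain ⟨-, hr1, hr2⟩ := mem_perp2.1 hr
    have e1 : T.cof f (h s * T.liftR (sGL (qf β) β x e) * (h s)⁻¹) r =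
        -β e r • (1 - El + s • El) := Unip.cof_eq T H fun u => by
      have h1 : ((h s)⁻¹ : GL _ F).val *ᵥ tau i u r = tau i u r := by
        conv_lhs => rw [← hhr s u r hr1 hr2]
        rw [inv_act]
      rw [mul_act, mul_act, h1, hu.act T H hr1, OOTensor.cof_siegel T H hxe hr1, Matrix.mulVec_add,
        hhr s u r hr1 hr2, hhx s hs]
      simp [hEl, Matrix.mulVec_smul, Matrix.mulVec_neg]
      module
    rw [Unip.cof_mul T H hc (hu.inv T) hr1, Unip.cof_inv T H hu hr1, e1,
      OOTensor.cof_siegel T H hxe hr1]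
    module
  have hreal : ∀ r : F, Real T G x f e (r • El) := fun r => by
    rcases eq_or_ne r 1 with rfl | hr
    · have h1 := real_add' T H he (hreal0 (-1) (neg_ne_zero.2 one_ne_zero))
        (hreal0 2 hf.h2)
      convert h1 using 1
      module
    · have h1 := hreal0 (1 - r) (sub_ne_zero.2 (Ne.symm hr))
      rwa [sub_sub_cancel] at h1
  -- the conjugate at another factor
  obtain ⟨m, l, hml⟩ : ∃ m l : Fin t, l ≠ m := ⟨⟨0, by omega⟩, ⟨1, by omega⟩, by simp [Fin.ext_iff]⟩
  set h₀ := sGL (qf β) β x e with hh₀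
  have hh₀I : h₀ ∈ isometryGroup F (qf β) := sGL_mem C H.singE hxe
  set E' := conjA (fu m h₀) E with hE'
  have hp : T.swap.liftR (fu m h₀) ∈ G := by
    rw [hT, liftL_eq hf, psiU_fu]; exact hG.sie _ x e H.singE hxe
  have hreal' : Real T G x f e (Matrix.mulVecLin E') := by
    obtain ⟨g, hg, hgu, hgc⟩ := hreal 1
    refine ⟨_, mul_mem (mul_mem hp hg) (inv_mem hp),
      Unip.conj T H (hG.le hp) (fun a => ⟨_, T.liftL_act _ a x⟩) hgu,
      fun r hr => Unip.cof_eq T H fun a => ?_⟩
    rw [mul_act, mul_act, ← map_inv, T.liftL_act, hgu.act T H (mem_perp2.1 hr).2.1, hgc r hr,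
      Matrix.mulVec_add, T.liftL_act, T.liftL_act, act_inv]
    simp [hEl, hE', conjA_apply, Matrix.mulVec_smul, ← Matrix.mulVec_mulVec]
  have hPadj : ∀ v w, β (Pi0 *ᵥ v) w = β v (Pi0 *ᵥ w) := fun v w => by
    simp only [hPi0, Matrix.add_mulVec, rk_mulVec, map_add, map_smul, LinearMap.add_apply,
      LinearMap.smul_apply, smul_eq_mul, hf.sym v x, hf.sym v f]
    ring
  have hE'eq : E' = pureTens (Function.update (fun _ : Fin t => Pi0) m (conjA h₀ Pi0)) := by
    rw [hE', hEdef, conjA_apply, fu_val, fu_inv_val, fa_apply, fa_apply, powStd, powStd, pureTens_mul,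
      pureTens_mul]
    congr 1
    funext j
    rcases eq_or_ne j m with rfl | hj
    · simp [conjA_apply]
    · simp [hj]
  have hadj' : SAdj β c E' := by
    rw [hE'eq]
    refine sadj_pureTens hf fun j v w => ?_
    rcases eq_or_ne j m with rfl | hj
    · simp only [Function.update_self, conjA_apply, ← Matrix.mulVec_mulVec]
      rw [C.B_act_left hh₀I, hPadj, ← C.B_act hh₀I, act_inv]
    · simp only [Function.update_of_ne hj]; exact hPadj v w
  set S := conjA h₀ Pi0 * Pi0 - Pi0 * conjA h₀ Pi0 with hS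
  have hline : LineIn β G i x (fa m S * pureTens (Function.update (fun _ : Fin t => Pi0) m 1)) := by
    intro r
    obtain ⟨g, hg, hgu, hgc⟩ := hreal (r / β e e)
    obtain ⟨g', hg', hgu', hgc'⟩ := hreal'
    refine (inL_iff hf).2 ?_
    have hel : ∀ a b, bT β c t (El a) b = bT β c t a (El b) :=
      sadj_pureTens hf (A := fun _ : Fin t => Pi0) fun _ => hPadj
    have h1 := comm_long T H he (hG.le hg) (hG.le hg') hgu hgu' (K := (r / β e e) • El)
      (K' := Matrix.mulVecLin E')
      (fun a b => by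
        simp only [LinearMap.smul_apply, map_smul, hel a b])
      (fun a b => by
        simp only [Matrix.mulVecLin_apply]
        exact hadj' a b) hgc hgc'
    refine InA.congr ⟨_, mul_mem (mul_mem hg hg') (inv_mem (mul_mem hg' hg)), h1⟩ fun v => ?_
    congr 2
    have hee : β e e ≠ 0 := by rw [C.self]; exact mul_ne_zero hf.h2 hQe
    have e2 : fa m S * pureTens (Function.update (fun _ : Fin t => Pi0) m 1) = E' * E - E * E' := by
      have hsplit : ∀ X, pureTens (Function.update (fun _ : Fin t => Pi0) m X) =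
          fa m X * pureTens (Function.update (fun _ : Fin t => Pi0) m 1) := fun X => by
        rw [fa_apply, powStd, pureTens_mul]
        congr 1
        funext j
        rcases eq_or_ne j m with rfl | hj <;> simp [*]
      have hP2 : Pi0 * Pi0 = Pi0 := by
        have h1 : A m * A m = Pi0 := hAA m
        have h2 : A m * Pi0 = A m := hAP m
        rw [← h1]
        calc A m * A m * (A m * A m) = A m * (A m * A m) * A m := by simp only [mul_assoc]
          _ = A m * A m := by rw [h1, h2, h1]
      rw [hE'eq, hEdef, pureTens_mul, pureTens_mul, hS, map_sub, sub_mul, ← hsplit, ← hsplit]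
      congr 2 <;> funext j <;> rcases eq_or_ne j m with rfl | hj <;>
        first | simp [hP2] | simp [hj, hP2]
    rw [e2, hEl]
    simp only [mul_smul_comm, smul_mul_assoc, smul_sub, smul_smul, mul_div_cancel₀ _ hee]
    refine LinearMap.ext fun u => ?_
    simp [Matrix.sub_mulVec, Matrix.smul_mulVec, Module.End.mul_apply, ← Matrix.mulVec_mulVec]
  have hS0 : S ≠ 0 := fun h0 => by
    have h1 := congrArg (fun M => M *ᵥ f) h0
    have hf' : h₀.val *ᵥ f = f + e - qf β e • x := by
      rw [hh₀, sGL_act C H.singE hxe, H.pair, hf.sym e f, hfe]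
      simp
    have hx' : h₀.val *ᵥ x = x := by
      rw [hh₀, sGL_act C H.singE hxe, hxx, hf.sym e x, hxe]
      simp
    rw [hS, hPi0, map_add, conj_rk hf one_ne_zero (iso_sim hf hh₀I),
      conj_rk hf one_ne_zero (iso_sim hf hh₀I), hx', hf', inv_one, one_smul, one_smul] at h1
    simp only [Matrix.sub_mulVec, ← Matrix.mulVec_mulVec, Matrix.add_mulVec, rk_mulVec, hfx, H.pair,
      hff, hxx, hxe, hfe, hf.sym e f, hf.sym e x, map_add, map_sub, map_smul, LinearMap.add_apply,
      LinearMap.sub_apply, LinearMap.smul_apply, Matrix.mulVec_add, Matrix.mulVec_sub,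
      Matrix.mulVec_smul, Matrix.zero_mulVec, smul_eq_mul, mul_zero, mul_one, zero_smul, one_smul,
      smul_zero, add_zero, zero_add, sub_zero, zero_sub] at h1
    refine hQe ?_
    have h2 : e = 0 := by linear_combination (norm := module) h1
    rw [h2, C.zero]
  -- the identity at a further factor
  set Zc := fa m S * pureTens (Function.update (Function.update (fun _ : Fin t => Pi0) m 1) l 1)
    with hZc
  have hZcom : Com l Zc := (com_fa hml S).mul (com_pureTens' (by simp))
  have hsplit2 : fa m S * pureTens (Function.update (fun _ : Fin t => Pi0) m 1) = fa l Pi0 * Zc := by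
    rw [hZc, ← mul_assoc, (fa_comm hml Pi0 S).eq, mul_assoc]
    congr 1
    rw [fa_apply, powStd, pureTens_mul]
    congr 1
    funext j
    rcases eq_or_ne j l with rfl | hj <;> simp [*]
  rw [hsplit2] at hline
  let K := KL hf G i x H.singE
  let Y : Submodule F (Matrix (Fin k) (Fin k) F) :=
    K.comap ((LinearMap.mulRight F Zc) ∘ₗ (fa (F := F) (m := k) l).toLinearMap)
  have hYmem : ∀ M, M ∈ Y ↔ fa l M * Zc ∈ K := fun M => Iff.rfl
  have hP : Pi0 ∈ Y := hline
  have hKl : LInv β l K := KL.linv hf hG l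
  have hsing : ∀ w, qf β w = 0 → rk β w w ∈ Y := by
    set w₁ := f + e - qf β e • x
    have hw₁ : qf β w₁ = 0 := sing_shift C H hxe hfe
    have h1 := opE hKl hf hb hw₁ hP
    simp only [LinearMap.comp_apply, AlgHom.toLinearMap_apply, LinearMap.mulRight_apply] at h1
    rw [← mul_assoc, ← map_mul, mul_assoc, ← (hZcom _).eq, ← mul_assoc, ← map_mul,
      show rk β w₁ w₁ * Pi0 * rk β w₁ w₁ = (-2 * qf β e) • rk β w₁ w₁ by
        rw [hPi0, mul_add, add_mul, rk_mul_rk, rk_mul_rk, smul_mul_assoc, smul_mul_assoc, rk_mul_rk,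
          rk_mul_rk, smul_smul, smul_smul, ← add_smul]
        congr 1
        simp only [w₁, map_add, map_sub, map_smul, LinearMap.add_apply, LinearMap.sub_apply,
          LinearMap.smul_apply, H.pair, hfx, hxx, hff, hxe, hfe, hf.sym e f, hf.sym e x, smul_eq_mul]
        ring,
      map_smul, smul_mul_assoc] at h1
    have h2 := (K.smul_mem_iff (mul_ne_zero (neg_ne_zero.2 hf.h2) hQe)).1 h1
    have hw₁0 : w₁ ≠ 0 := fun e0 => by
      have := congrArg (β x) e0
      simp [w₁, H.pair, hxe, hxx] at this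
    exact fun w hw => rk_all hf hKl hb hw₁ hw₁0 hZcom h2 hw
  have hperp' : ∀ p, β x p = 0 → β f p = 0 → rk β p p ∈ Y := fun p hp hp' => by
    have hs1 := hsing _ (sing_shift C H hp hp')
    have hs2 := hsing _ (sing_shift C H (w := -p) (by rw [map_neg, hp, neg_zero])
      (by rw [map_neg, hp', neg_zero]))
    have h3 := Y.sub_mem (Y.add_mem hs1 hs2) (Y.add_mem (Y.smul_mem (2 : F) (hsing f H.singF))
      (Y.smul_mem (2 * (qf β p * qf β p)) (hsing x H.singE)))
    have h4 := Y.add_mem h3 (Y.smul_mem (2 * qf β p) hP)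
    refine (Y.smul_mem_iff hf.h2).1 ?_
    convert h4 using 1
    refine mat_ext fun v => ?_
    simp only [C.neg, hPi0, Matrix.add_mulVec, Matrix.sub_mulVec, Matrix.smul_mulVec, rk_mulVec,
      map_add, map_sub, map_smul, map_neg, LinearMap.add_apply, LinearMap.sub_apply,
      LinearMap.smul_apply, LinearMap.neg_apply]
    module
  set M : Matrix (Fin k) (Fin k) F := 1 - Pi0 with hM
  have hMp : ∀ v, β x (M *ᵥ v) = 0 ∧ β f (M *ᵥ v) = 0 := fun v => by
    simp [hM, hPi0, Matrix.sub_mulVec, Matrix.add_mulVec, rk_mulVec, hxx, hff, hfx, H.pair]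
  have hMM : ∀ v, M *ᵥ v = v - β f v • x - β x v • f := fun v => by
    simp [hM, hPi0, Matrix.sub_mulVec, Matrix.add_mulVec, rk_mulVec, sub_sub]
  have hpol : ∀ p q, β x p = 0 → β f p = 0 → β x q = 0 → β f q = 0 → rk β p q + rk β q p ∈ Y :=
    fun p q hp hp' hq hq' => by
      have h1 := Y.sub_mem (Y.sub_mem (hperp' (p + q) (by rw [map_add, hp, hq, add_zero])
        (by rw [map_add, hp', hq', add_zero])) (hperp' p hp hp')) (hperp' q hq hq')
      convert h1 using 1
      rw [rk_add_left, rk_add_right, rk_add_right]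
      abel
  choose bq hbq using fun q : Fin k => exists_functional hf (LinearMap.proj q : (Fin k → F) →ₗ[F] F)
  have hsum : (2 : F) • M = ∑ q, (rk β (M *ᵥ Pi.single q 1) (M *ᵥ bq q) +
      rk β (M *ᵥ bq q) (M *ᵥ Pi.single q 1)) := by
    have hMadj : ∀ v w, β (M *ᵥ v) w = β v (M *ᵥ w) := fun v w => by
      simp only [hM, Matrix.sub_mulVec, Matrix.one_mulVec, map_sub, LinearMap.sub_apply, hPadj]
    have hMM' : ∀ v, M *ᵥ (M *ᵥ v) = M *ᵥ v := fun v => by
      rw [hMM (M *ᵥ v), (hMp v).1, (hMp v).2]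
      simp
    refine mat_ext fun v => ?_
    rw [Matrix.smul_mulVec, Matrix.sum_mulVec]
    simp only [Matrix.add_mulVec, rk_mulVec, Finset.sum_add_distrib, hMadj (bq _) v, hbq,
      LinearMap.proj_apply]
    have e1 : ∀ u : Fin k → F, ∑ q, u q • (M *ᵥ Pi.single q 1) = M *ᵥ u := fun u => by
      conv_rhs => rw [pi_eq_sum_univ' u, Matrix.mulVec_sum]
      simp only [Matrix.mulVec_smul]
    have e2 : ∑ q, β (M *ᵥ Pi.single q 1) v • (M *ᵥ bq q) = M *ᵥ v := by
      suffices h5 : ∑ q, β (M *ᵥ Pi.single q 1) v • bq q = M *ᵥ v by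
        have h6 := congrArg (fun u => M *ᵥ u) h5
        simp only [Matrix.mulVec_sum, Matrix.mulVec_smul, hMM'] at h6
        exact h6
      refine sub_eq_zero.1 (C.nondeg' fun w => ?_)
      simp only [map_sub, map_sum, map_smul, LinearMap.sub_apply, LinearMap.sum_apply,
        LinearMap.smul_apply, hbq, LinearMap.proj_apply, smul_eq_mul]
      have e3 : ∑ q, β (M *ᵥ Pi.single q 1) v * w q = β (M *ᵥ w) v := by
        conv_rhs => rw [pi_eq_sum_univ' w, Matrix.mulVec_sum]
        simp only [Matrix.mulVec_smul, map_sum, map_smul, LinearMap.sum_apply, LinearMap.smul_apply,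
          smul_eq_mul]
        exact Finset.sum_congr rfl fun q _ => mul_comm _ _
      rw [e3, hMadj w v, hf.sym w, sub_self]
    rw [e1, hMM', e2, two_smul]
  have h1Y : (1 : Matrix (Fin k) (Fin k) F) ∈ Y := by
    have hMY : M ∈ Y := (Y.smul_mem_iff hf.h2).1 (hsum ▸ Y.sum_mem fun q _ =>
      hpol _ _ (hMp _).1 (hMp _).2 (hMp _).1 (hMp _).2)
    have := Y.add_mem hMY hP
    rwa [hM, sub_add_cancel] at this
  refine ⟨l, Zc, ?_, ?_, hZcom⟩
  · have := (hYmem 1).1 h1Y
    rwa [map_one, one_mul] at this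
  · rw [hZc]
    intro h0
    refine pureTens_ne ?_ (eq_zero_of_fa_mul hS0 (com_pureTens' (by simp [hml.symm])) h0)
    intro j
    rcases eq_or_ne j l with rfl | hj
    · simp only [Function.update_self]
      intro h1
      have := congrArg (fun M => M *ᵥ f) h1
      simp only [Matrix.one_mulVec, Matrix.zero_mulVec] at this
      exact hf0 this
    · rcases eq_or_ne j m with rfl | hjm
      · simp only [Function.update_of_ne hj, Function.update_self]
        intro h1
        have := congrArg (fun M => M *ᵥ f) h1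
        simp only [Matrix.one_mulVec, Matrix.zero_mulVec] at this
        exact hf0 this
      · simp only [Function.update_of_ne hj, Function.update_of_ne hjm]
        intro h1
        have := congrArg (fun M => M *ᵥ f) h1
        simp [hPi0, Matrix.add_mulVec, rk_mulVec, hff, H.pair, hf0] at this
where
  com_pureTens' {t : ℕ} {j : Fin t} {X : Fin t → Matrix (Fin k) (Fin k) F} (h : X j = 1) :
      Com j (pureTens X) := fun Y => by
    show _ * _ = _ * _
    rw [fa_apply, powStd, pureTens_mul, pureTens_mul]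
    congr 1
    funext q
    rcases eq_or_ne q j with rfl | hq <;> simp [*]
  pureTens_ne {t : ℕ} {X : Fin t → Matrix (Fin k) (Fin k) F} (h : ∀ l, X l ≠ 0) : pureTens X ≠ 0 := by
    have h1 := pS_mul_ne (S := Finset.univ) (A := X) (fun l _ => h l)
      (fun l _ => com_one l) (Z := 1) ?_
    · rwa [pS_univ, mul_one] at h1
    · haveI : Nonempty (Idx k t) := ⟨fun _ => ⟨0, by have := big_three_le hb; omega⟩⟩
      exact one_ne_zero

end Cfsg.Lib.Linear.OTPow
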