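import Cfsg.Agent.Lib.Linear.OTPow.Conj
import Cfsg.Agent.Lib.Linear.OTPow.Pure
import Cfsg.Agent.Lib.Linear.OOTensor.Square.Unip

/-!
# Dimension three in characteristic three

A conjugate of a Siegel element permuting the factors moves none of a free module's factors alone, so
it acts non-trivially on a fixed factor. The Siegel elements of that factor then conjugate to a
one-parameter group permuting the factors, whose degree leaves one component.
-/

set_option autoImplicit false
set_option linter.unusedSectionVars false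
set_option linter.unusedSimpArgs false

namespace Cfsg.Lib.Linear.OTPow

open Module Cfsg.Geo Cfsg.Lib.Linear.AschGen Cfsg.Lib.Linear.TWreath Cfsg.Lib.Linear.Orth
open Cfsg.Lib.Linear.OOTensor (qf Ten)
open Cfsg.Lib.Linear.OOTensor.Square (Three exists_three exists_three_at unip_struct)
open scoped Matrix MatrixGroups

variable {F : Type*} [Field F] {k t : ℕ} {β : LinearMap.BilinForm F (Fin k → F)} {c : F}

theorem poly_vanish {n : ℕ} {co : Fin n → F} {S : Finset F} (hS : n ≤ S.card)
    (h : ∀ s ∈ S, ∑ i, co i * s ^ (i : ℕ) = 0) (i : Fin n) : co i = 0 := by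
  classical
  set P : Polynomial F := ∑ i, Polynomial.C (co i) * Polynomial.X ^ (i : ℕ) with hP
  have hdeg : P.natDegree < S.card ∨ P = 0 := by
    rcases Nat.eq_zero_or_pos n with rfl | hn
    · exact i.elim0
    refine Or.inl (lt_of_le_of_lt ?_ (by omega : n - 1 < S.card))
    exact Polynomial.natDegree_sum_le_of_forall_le _ _ fun j _ =>
      (Polynomial.natDegree_C_mul_X_pow_le _ _).trans (by omega)
  have h0 : P = 0 := hdeg.elim (fun hd => Polynomial.eq_zero_of_natDegree_lt_card_of_eval_eq_zero' P S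
    (fun s hs => by simpa [hP, Polynomial.eval_finset_sum] using h s hs) hd) id
  have h1 := congrArg (fun P => Polynomial.coeff P (i : ℕ)) h0
  simp only [hP, Polynomial.finset_sum_coeff, Polynomial.coeff_C_mul_X_pow, Polynomial.coeff_zero] at h1
  rwa [Finset.sum_eq_single i (fun j _ hj => if_neg fun e => hj (Fin.ext e.symm))
    (fun h => absurd (Finset.mem_univ _) h), if_pos rfl] at h1

theorem poly_vanish_matrix {ι : Type} {n : ℕ} {M : Fin n → Matrix ι ι F} {S : Finset F} (hS : n ≤ S.card)
    (h : ∀ s ∈ S, ∑ i : Fin n, s ^ (i : ℕ) • M i = 0) (i : Fin n) : M i = 0 := by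
  ext a b
  refine poly_vanish (co := fun i => M i a b) hS (fun s hs => ?_) i
  have h1 := congrFun (congrFun (h s hs) a) b
  simpa [Matrix.sum_apply, mul_comm] using h1

theorem pureTens_smul (r : Fin t → F) (P : Fin t → Matrix (Fin k) (Fin k) F) :
    pureTens (fun i => r i • P i) = (∏ i, r i) • pureTens P := by
  ext x y
  simp [pureTens, Finset.prod_mul_distrib]

theorem conj_pureTens {g : GL (Idx k t) F} {σ : Equiv.Perm (Fin t)} {A : Fin t → GL (Fin k) F}
    (hσ : ∀ i, Acts g i (σ i) (A i)) {P Q : Fin t → Matrix (Fin k) (Fin k) F}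
    (h : ∀ i, conjA (A i) (P i) = Q (σ i)) : conjA g (pureTens P) = pureTens Q := by
  classical
  suffices hs : ∀ S : Finset (Fin t), conjA g (pS S P) = pS (S.image σ) Q by
    have := hs Finset.univ
    rwa [Finset.image_univ_equiv, pS_univ, pS_univ] at this
  intro S
  induction S using Finset.induction_on with
  | empty => simp [pS, pureTens_one]
  | insert l S hl ih =>
    rw [pS_insert hl, map_mul, hσ, h, ih, Finset.image_insert, pS_insert]
    simpa using hl

/-- A rank one projection of all factors compresses everything to scalars. -/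
theorem pure_compress (hk : 0 < k) {B : Fin t → GL (Fin k) F} (Z : Matrix (Idx k t) (Idx k t) F) :
    let P := fun i => conjA (B i) (sg ⟨0, hk⟩ ⟨0, hk⟩ : Matrix (Fin k) (Fin k) F)
    ∃ z : F, pureTens P * Z * pureTens P = z • pureTens P := by
  intro P
  have hP : ∀ i M, ∃ r : F, P i * M * P i = r • P i := fun i M => by
    refine ⟨conjA (B i)⁻¹ M ⟨0, hk⟩ ⟨0, hk⟩, ?_⟩
    have e : M = conjA (B i) (conjA (B i)⁻¹ M) := by rw [← conjA_mul, mul_inv_cancel, conjA_one]
    conv_lhs => rw [e]
    rw [← map_mul, ← map_mul, sg_mul_mul, map_smul]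
  rw [Matrix.matrix_eq_sum_single Z]
  simp only [Finset.mul_sum, Finset.sum_mul]
  choose r hr using fun (x y : Idx k t) (i : Fin t) => hP i (sg (x i) (y i))
  refine ⟨∑ x : Idx k t, ∑ y : Idx k t, Z x y * ∏ i, r x y i, ?_⟩
  simp only [Finset.sum_smul]
  refine Finset.sum_congr rfl fun x _ => Finset.sum_congr rfl fun y _ => ?_
  rw [show Matrix.single x y (Z x y) = Z x y • Matrix.single x y (1 : F) by simp, single_eq_pureTens,
    mul_smul_comm, smul_mul_assoc, pureTens_mul, pureTens_mul,
    show (fun i => P i * sg (x i) (y i) * P i) = fun i => r x y i • P i from funext fun i => hr x y i,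
    pureTens_smul, smul_smul]

theorem pureTens_ne_zero {P : Fin t → Matrix (Fin k) (Fin k) F} (hk : 0 < k) (h : ∀ i, P i ≠ 0) :
    pureTens P ≠ 0 := by
  classical
  haveI : Nonempty (Idx k t) := ⟨fun _ => ⟨0, hk⟩⟩
  have := pS_mul_ne (S := Finset.univ) (A := P) (fun l _ => h l) (Z := 1) (fun l _ => com_one l) one_ne_zero
  rwa [mul_one, pS_univ] at this

variable [CharP F 3]

theorem three_zero : (3 : F) = 0 := by simpa using CharP.cast_eq_zero F 3

/-- The identity is the trace of a matrix under a Siegel element. -/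
theorem trace_one (hf : Fm β c) {x f e : Fin k → F} (D : Three β x f e) :
    let C := fun w : Fin k → F => (sGL (qf β) β x e).val *ᵥ w
    let S := fun w : Fin k → F => rk β w w + rk β (C w) (C w) + rk β (C (C w)) (C (C w))
    (qf β e)⁻¹ • (S f - S e) = 1 := by
  intro C S
  haveI : Fact (Nat.Prime 3) := ⟨by norm_num⟩
  have h30 := three_zero (F := F)
  have hC : ∀ w, C w = w + β x w • e - (β e w + qf β e * β x w) • x := fun w => sGL_act D.C D.hyp.singE D.xe w
  have hQ := D.ns
  have he : β e e = 2 * qf β e := D.C.self e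
  refine mat_ext fun v => ?_
  rw [Matrix.one_mulVec, Matrix.smul_mulVec, inv_smul_eq_iff₀ hQ]
  simp only [S, Matrix.sub_mulVec, Matrix.add_mulVec, rk_mulVec, hC, map_add, map_sub, map_smul,
    LinearMap.add_apply, LinearMap.sub_apply, LinearMap.smul_apply, smul_eq_mul, D.hyp.pair, D.xe, D.xx,
    D.fe, D.ff, D.ef, D.ex, D.hyp.pair' D.C, he, one_smul, zero_smul, mul_zero, zero_mul, add_zero,
    zero_add, sub_zero, mul_one, one_mul]
  conv_rhs => arg 2; rw [D.expand v]
  simp only [he]
  have h2 : (2 : F) = -1 := by linear_combination h30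
  have h6 : (6 : F) = 0 := by linear_combination 2 * h30
  simp only [h2]
  match_scalars <;> field_simp <;> ring_nf <;> simp [h30, h6, h2]

variable {G : Subgroup (GL (Idx k (t + 1)) F)}
variable (hf : Fm β c)
include hf

/-- An element moving factors only, of order three, is not free. -/
theorem free_false {Y : GL (Idx k t) F} (hk : 0 < k) {σ : Equiv.Perm (Fin t)}
    {A : Fin t → GL (Fin k) F} (hσ : ∀ i, Acts Y i (σ i) (A i)) (h3 : Y ^ 3 = 1)
    (hfix : ∀ j, σ j = j → Com j Y.val) (h2 : 2 ≤ k)
    {Z : Matrix (Idx k t) (Idx k t) F} (hZ : Z + conjA Y Z + conjA (Y * Y) Z = 1) : False := by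
  classical
  have hσ3 : ∀ i, σ (σ (σ i)) = i := fun i => by
    have h := ((hσ (σ (σ i))).mul ((hσ (σ i)).mul (hσ i)))
    rw [← mul_assoc, show Y * Y * Y = Y ^ 3 by rw [pow_succ, pow_two], h3] at h
    exact ((acts_one i).target_unique h2 h).symm
  have hcyc : ∀ i X, conjA (A (σ (σ i))) (conjA (A (σ i)) (conjA (A i) X)) = X := fun i X => by
    refine fa_injective hk i ?_
    conv_rhs => rw [← conjA_one (fa i X), ← h3, show Y ^ 3 = Y * Y * Y by rw [pow_succ, pow_two], conjA_mul, conjA_mul,
      hσ i, hσ (σ i), hσ (σ (σ i)), hσ3]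
  have hfixA : ∀ i, σ i = i → ∀ X, conjA (A i) X = X := fun i hi X => by
    refine fa_injective hk i ?_
    have h := hσ i X
    rw [hi] at h
    rw [← h, conjA_apply, ← (hfix i hi X).eq, mul_assoc, Units.mul_inv, mul_one]
  let P₀ : Matrix (Fin k) (Fin k) F := sg ⟨0, hk⟩ ⟨0, hk⟩
  let r : Fin t → Fin t := fun i => min i (min (σ i) (σ (σ i)))
  let B : Fin t → GL (Fin k) F := fun i =>
    if r i = i then 1 else if σ (r i) = i then A (r i) else A (σ (r i)) * A (r i)
  let P := fun i => conjA (B i) P₀
  have hr : ∀ i, r (σ i) = r i := fun i => by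
    simp only [r, hσ3]
    rw [← min_assoc (σ i), min_comm _ i]
  have hcons : ∀ i, conjA (A i) (P i) = P (σ i) := by
    intro i
    by_cases hi : σ i = i
    · rw [hfixA i hi, hi]
    have h1 : σ (σ i) ≠ i := fun e => hi (by
      have := congrArg σ e
      rw [hσ3] at this
      exact this.symm)
    have h2' : σ (σ i) ≠ σ i := fun e => hi (σ.injective e)
    have hmem : r i = i ∨ r i = σ i ∨ r i = σ (σ i) := by
      simp only [r]
      rcases min_choice i (min (σ i) (σ (σ i))) with h | h
      · exact Or.inl h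
      · rcases min_choice (σ i) (σ (σ i)) with h' | h'
        · exact Or.inr (Or.inl (h.trans h'))
        · exact Or.inr (Or.inr (h.trans h'))
    show conjA (A i) (conjA (B i) P₀) = conjA (B (σ i)) P₀
    rcases hmem with h | h | h
    · have hB : B i = 1 := if_pos h
      have hB' : B (σ i) = A i := by
        simp only [B, hr, h]
        rw [if_neg (Ne.symm hi), if_pos trivial]
      rw [hB, hB', conjA_one]
    · have hB : B i = A (σ (σ i)) * A (σ i) := by
        simp only [B, h]
        rw [if_neg hi, if_neg h1]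
      have hB' : B (σ i) = 1 := by
        simp only [B, hr, h, if_true]
      rw [hB, hB', conjA_one, conjA_mul]
      have := hcyc (σ i) P₀
      rwa [hσ3] at this
    · have hB : B i = A (σ (σ i)) := by
        simp only [B, h]
        rw [if_neg h1, if_pos (hσ3 i)]
      have hB' : B (σ i) = A i * A (σ (σ i)) := by
        simp only [B, hr, h, hσ3]
        rw [if_neg h2', if_neg (Ne.symm hi)]
      rw [hB, hB', conjA_mul]
  have hC : conjA Y (pureTens P) = pureTens P := conj_pureTens hσ hcons
  obtain ⟨z, hz⟩ := pure_compress hk (B := B) Z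
  change pureTens P * Z * pureTens P = z • pureTens P at hz
  have hP : ∀ i, P i * P i = P i := fun i => by simp only [P, ← map_mul, P₀, sg_mul]
  have hz' : ∀ g, conjA g (pureTens P) = pureTens P →
      pureTens P * conjA g Z * pureTens P = z • pureTens P := fun g hg => by
    conv_lhs => rw [← hg, ← map_mul, ← map_mul, hz, map_smul, hg]
  have h := congrArg (fun M => pureTens P * M * pureTens P) hZ
  simp only [mul_add, add_mul, hz, hz' Y hC, hz' (Y * Y) (by rw [conjA_mul, hC, hC]), mul_one,
    pureTens_mul, hP] at h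
  rw [← add_smul, ← add_smul, show z + z + z = (3 : F) * z by ring, three_zero, zero_mul, zero_smul] at h
  refine pureTens_ne_zero hk (fun i e => ?_) h.symm
  have := (conjA (B i)).injective (e.trans (map_zero _).symm)
  simpa [P₀] using congrFun (congrFun this ⟨0, hk⟩) ⟨0, hk⟩

set_option maxHeartbeats 1600000 in
/-- **Dimension three, characteristic three.** -/
theorem Ctx.conj_three [Finite F] (hC : Ctx hf G) (hM : SlabMst G β) (hk : k = 3) (hq : 9 ≤ Nat.card F)
    {g : GL (Idx k (t + 1)) F} (hg : g ∈ G) {i : Fin (t + 1)} {x f e : Fin k → F} (D : Three β x f e)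
    (hY : g * fu i (sGL (qf β) β x e) * g⁻¹ ∈ mst k (t + 1) F) : g ∈ mst k (t + 1) F := by
  classical
  haveI : Fact (Nat.Prime 3) := ⟨by norm_num⟩
  haveI := Fintype.ofFinite F
  have hk0 : 0 < k := by omega
  haveI : Nonempty (Idx k (t + 1)) := ⟨fun _ => ⟨0, hk0⟩⟩
  have C := factor_space hf
  have hx := D.hyp.singE
  obtain ⟨hY2, hY3⟩ := conj_cube hf (g := g) (i := i) hx D.xe
  set Y := g * fu i (sGL (qf β) β x e) * g⁻¹ with hYdef
  have hY31 : Y ^ 3 = 1 := pow_char (p := 3) le_rfl hY3
  have hYI : Y ∈ isometryGroup F (qT β c (t + 1)) := Ctx.conj_iso hf hC hg hx D.xe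
  obtain ⟨σ, hσ⟩ := hY
  choose A hA using hσ
  obtain ⟨m, hm, hmc⟩ : ∃ m, σ m = m ∧ ¬ Com m Y.val := by
    by_contra hcon
    push Not at hcon
    set s := sGL (qf β) β x e
    set Q := qf β e
    refine free_false hf hk0 hA hY31 hcon (by omega)
      (Z := conjA g (fa i (Q⁻¹ • (rk β f f - rk β e e)))) ?_
    have hsI := sGL_mem C hx D.xe
    have e1 : ∀ n : GL (Idx k (t + 1)) F, conjA (g * n * g⁻¹) (conjA g (fa i (Q⁻¹ • (rk β f f - rk β e e)))) =
        conjA g (conjA n (fa i (Q⁻¹ • (rk β f f - rk β e e)))) := fun n => by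
      rw [← conjA_mul, ← conjA_mul]
      congr 2
      group
    rw [show Y * Y = g * (fu i s * fu i s) * g⁻¹ by rw [hYdef]; group, hYdef, e1, e1, ← map_add, ← map_add,
      ← map_mul, acts_fu, acts_fu, ← map_add, ← map_add]
    have hw : ∀ w, conjA s (rk β w w) = rk β (s.val *ᵥ w) (s.val *ᵥ w) := fun w => by
      rw [conj_rk hf one_ne_zero (iso_sim hf hsI), inv_one, one_smul]
    have e2 : Q⁻¹ • (rk β f f - rk β e e) + conjA s (Q⁻¹ • (rk β f f - rk β e e))
        + conjA (s * s) (Q⁻¹ • (rk β f f - rk β e e)) = 1 := by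
      conv_rhs => rw [← trace_one hf D]
      simp only [map_smul, map_sub, conjA_mul, hw, ← smul_add]
      congr 1
      abel
    rw [e2, map_one, map_one]
  have hAm : Acts Y m m (A m) := by have := hA m; rwa [hm] at this
  obtain ⟨a, ha, Z₀, -, eY, ha3, -, -⟩ := split_unip hf (p := 3) hC.odd (by decide) hYI hY31 hAm
  rcases unip_struct C hf.h2 (by simpa using hk) ha ha3 with rfl | ⟨z, f', e', r, D', hr, rfl⟩
  · exact absurd (by rw [eY, map_one, one_mul]; exact com_psi m Z₀.val) hmc
  have hz := D'.hyp.singE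
  have hs : ∀ s : F, β z (s • e') = 0 := fun s => by rw [map_smul, D'.xe, smul_zero]
  set Λ : F → GL (Idx k (t + 1)) F := fun s => g⁻¹ * fu m (sGL (qf β) β z (s • e')) * g with hΛ
  have hΛG : ∀ s, Λ s ∈ G := fun s =>
    mul_mem (mul_mem (inv_mem hg) (hC.ov.sie m z _ hz (hs s))) hg
  have hΛadd : ∀ s s', Λ s * Λ s' = Λ (s + s') := fun s s' => by
    simp only [hΛ, add_smul, ← sGL_mul C hz (hs s) (hs s'), map_mul]
    group
  have hΛ0 : Λ 0 = 1 := by
    simp only [hΛ, zero_smul, SpTensor.sGL_zero_right C hz, map_one]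
    group
  have hx0 := D.x_ne
  have hr0 : -(2 * qf β e) ≠ 0 := neg_ne_zero.2 (mul_ne_zero hf.h2 D.ns)
  have hΛm : ∀ s, Λ s ∈ mst k (t + 1) F := fun s => by
    refine hM i x hx hx0 _ (hΛG s) (carry_of_commute hf hx0 ?_)
    have hc : Commute (fu m (sGL (qf β) β z (s • e'))) Y := by
      rw [eY]
      refine Commute.mul_right ?_ (fu_psiU_comm m _ _)
      show _ * _ = _ * _
      rw [← map_mul, ← map_mul, sGL_mul C hz (hs s) (hs r), sGL_mul C hz (hs r) (hs s), add_comm (s • e') (r • e')]
    have h1 : Commute (Λ s).val (fu i (sGL (qf β) β x e)).val := by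
      have h0 : Commute (Λ s) (fu i (sGL (qf β) β x e)) := by
        have h := hc.eq
        show _ * _ = _ * _
        calc Λ s * fu i (sGL (qf β) β x e) = g⁻¹ * (fu m (sGL (qf β) β z (s • e')) * Y) * g := by
              simp only [hΛ, hYdef]; group
          _ = g⁻¹ * (Y * fu m (sGL (qf β) β z (s • e'))) * g := by rw [h]
          _ = _ := by simp only [hΛ, hYdef]; group
      exact congrArg Units.val h0.eq
    have h2 := h1.sub_right (Commute.one_right _)
    have h3 := h2.mul_right h2
    rw [fu_val, ← map_one (fa i), ← map_sub, ← map_mul, (sgl_disp hf hx D.xe).1, map_smul] at h3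
    have h4 := h3.smul_right (-(2 * qf β e))⁻¹
    rwa [smul_smul, inv_mul_cancel₀ hr0, one_smul] at h4
  -- the matrices have degree two
  set MA := conjA g⁻¹ (fa m (wd β z e'))
  set MB := -qf β e' • conjA g⁻¹ (fa m (rk β z z))
  have hΛv : ∀ s, (Λ s).val = 1 + s • MA + (s * s) • MB := fun s => by
    have e0 : (Λ s).val = conjA g⁻¹ (fa m (sGL (qf β) β z (s • e')).val) := by
      rw [← fu_val, ← val_conj, inv_inv]
    have hw : wd β z (s • e') = s • wd β z e' := by
      simp only [wd, rk_smul_left, rk_smul_right, smul_sub]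
    rw [e0, sgl_val hf hz (hs s), hw, C.smul]
    simp only [map_sub, map_add, map_one, map_smul, MA, MB, neg_smul, smul_neg, smul_smul, sq]
    rw [sub_eq_add_neg]
  have hΛinv : ∀ s, ((Λ s)⁻¹).val = 1 + (-s) • MA + (s * s) • MB := fun s => by
    rw [inv_eq_of_mul_eq_one_right (show Λ s * Λ (-s) = 1 by rw [hΛadd, add_neg_cancel, hΛ0]), hΛv,
      neg_mul_neg]
  have hΛ3 : ∀ s, Λ s ^ 3 = 1 := fun s => by
    rw [pow_succ, pow_two, hΛadd, hΛadd, show s + s + s = (3 : F) * s by ring, three_zero, zero_mul, hΛ0]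
  choose σs hσs using fun s => hΛm s
  choose As hAs using hσs
  rw [Nat.card_eq_fintype_card] at hq
  -- the permutation is trivial
  have hpure : ∀ s j, σs s j = j := by
    intro s₀ j
    by_contra hne
    set l := σs s₀ j
    set n := σs s₀ l
    have h2 : Acts (Λ (s₀ + s₀)) j n (As s₀ l * As s₀ j) := by
      rw [← hΛadd]; exact (hAs s₀ l).mul (hAs s₀ j)
    have hlast : Acts (1 : GL (Idx k (t + 1)) F) j (σs s₀ n) (As s₀ n * (As s₀ l * As s₀ j)) := by
      rw [← hΛ3 s₀, show Λ s₀ ^ 3 = Λ s₀ * (Λ s₀ * Λ s₀) by rw [pow_succ', pow_two]]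
      exact (hAs s₀ n).mul ((hAs s₀ l).mul (hAs s₀ j))
    have hn : σs s₀ n = j := ((acts_one j).target_unique (by omega) hlast).symm
    have hjn : j ≠ n := fun e => hne (by
      show l = j
      rw [← hn, ← e])
    have hln : l ≠ n := fun e => hne ((σs s₀).injective e.symm)
    let R : Matrix (Fin k) (Fin k) F := sg ⟨0, hk0⟩ ⟨0, hk0⟩
    let co : Fin 5 → Matrix (Idx k (t + 1)) (Idx k (t + 1)) F :=
      ![fa j R, MA * fa j R - fa j R * MA, MB * fa j R + fa j R * MB - MA * fa j R * MA,
        MA * fa j R * MB - MB * fa j R * MA, MB * fa j R * MB]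
    have hexp : ∀ s : F, conjA (Λ s) (fa j R) = ∑ i : Fin 5, s ^ (i : ℕ) • co i := fun s => by
      rw [conjA_apply, hΛv, hΛinv]
      simp only [co, Fin.sum_univ_five, Matrix.cons_val_zero, Matrix.cons_val_one, Matrix.cons_val,
        Fin.val_zero, Fin.val_one, Fin.val_two, show ((3 : Fin 5) : ℕ) = 3 from rfl,
        show ((4 : Fin 5) : ℕ) = 4 from rfl, add_mul, mul_add, smul_mul_assoc, mul_smul_comm, one_mul,
        mul_one, smul_smul, smul_add, smul_sub, pow_zero, one_smul]
      match_scalars <;> ring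
    let S : Fin (t + 1) → Finset F := fun τ => Finset.univ.filter fun s => σs s j ≠ τ
    have hsmall : ∀ τ s₁ (A₁ : GL (Fin k) F), Acts (Λ s₁) j τ A₁ → (S τ).card ≤ 4 := by
      intro τ s₁ A₁ hA₁
      by_contra hbig
      push Not at hbig
      set W := conjA A₁ (sg ⟨0, hk0⟩ ⟨1, by omega⟩ : Matrix (Fin k) (Fin k) F)
      have hcoef := poly_vanish_matrix (S := S τ) (M := fun i => fa τ W * co i - co i * fa τ W)
        (by omega) (fun s hs => by
          have hs' : σs s j ≠ τ := (Finset.mem_filter.1 hs).2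
          have h0 : fa τ W * conjA (Λ s) (fa j R) - conjA (Λ s) (fa j R) * fa τ W = 0 := by
            rw [hAs s j R, (fa_comm (Ne.symm hs') W _).eq, sub_self]
          rw [hexp, Finset.mul_sum, Finset.sum_mul, ← Finset.sum_sub_distrib] at h0
          rw [← h0]
          refine Finset.sum_congr rfl fun i _ => ?_
          rw [smul_sub, mul_smul_comm, smul_mul_assoc])
      have h0 : fa τ W * conjA (Λ s₁) (fa j R) - conjA (Λ s₁) (fa j R) * fa τ W = 0 := by
        rw [hexp, Finset.mul_sum, Finset.sum_mul, ← Finset.sum_sub_distrib]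
        refine Finset.sum_eq_zero fun i _ => ?_
        rw [mul_smul_comm, smul_mul_assoc, ← smul_sub, hcoef i, smul_zero]
      rw [hA₁, ← map_mul, ← map_mul, ← map_mul, ← map_mul, ← map_sub, ← map_sub,
        sg_mul_ne _ _ (by simp [Fin.ext_iff]), sg_mul, zero_sub] at h0
      have h1 := (conjA A₁).injective ((fa_injective hk0 τ (h0.trans (map_zero _).symm)).trans
        (map_zero _).symm)
      simpa using congrFun (congrFun h1 ⟨0, hk0⟩) ⟨1, by omega⟩
    have hj := hsmall j 0 1 (by rw [hΛ0]; exact acts_one j)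
    have hl := hsmall l s₀ _ (hAs s₀ j)
    have hn' := hsmall n (s₀ + s₀) _ h2
    have hcov : (Finset.univ : Finset F) ⊆ S j ∪ S l := fun s _ => by
      simp only [S, Finset.mem_union, Finset.mem_filter, Finset.mem_univ, true_and]
      by_contra hc
      rw [not_or, not_ne_iff, not_ne_iff] at hc
      exact hne (hc.2.symm.trans hc.1)
    have := (Finset.card_le_card hcov).trans (Finset.card_union_le _ _)
    rw [Finset.card_univ] at this
    omega
  have hΛp : ∀ s j, Acts (Λ s) j j (As s j) := fun s j => by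
    have := hAs s j; rwa [hpure s j] at this
  have hsplit : ∀ s j, ∃ a ∈ isometryGroup F (qf β), a ^ 3 = 1 ∧ Acts (Λ s) j j a := fun s j => by
    obtain ⟨a, ha, Z, -, e, ha3, -, -⟩ := split_unip hf (p := 3) hC.odd (by decide) (hC.ov.le (hΛG s))
      (hΛ3 s) (hΛp s j)
    refine ⟨a, ha, ha3, ?_⟩
    intro X
    rw [e, conjA_mul]
    have h1 : conjA (psiU j Z) (fa j X) = fa j X := by
      rw [conjA_apply, psiU_val, ← map_inv, psiU_val, ← (com_psi j _ X).eq, mul_assoc, ← map_mul,
        Units.mul_inv, map_one, mul_one]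
    rw [h1, acts_fu]
  choose a haI ha3' haA using hsplit
  have hval : ∀ s, (Λ s).val = pureTens fun j => (a s j).val := by
    intro s
    set N := pureTens (fun j => ((a s j)⁻¹).val) * (Λ s).val with hN
    have hcom : ∀ j, Com j N := fun j X => by
      have h1 : (Λ s).val * fa j X = fa j (conjA (a s j) X) * (Λ s).val := by
        rw [← haA s j, conjA_apply, mul_assoc _ _ (Λ s).val, Units.inv_mul, mul_one]
      have h2 : pureTens (fun j => ((a s j)⁻¹).val) * fa j (conjA (a s j) X) =
          fa j X * pureTens (fun j => ((a s j)⁻¹).val) := by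
        rw [fa_apply, fa_apply, powStd, powStd, pureTens_mul, pureTens_mul]
        congr 1
        funext l
        rcases eq_or_ne l j with rfl | hl
        · rw [Function.update_self, Function.update_self, conjA_apply, ← mul_assoc, ← mul_assoc,
            Units.inv_mul, one_mul]
        · rw [Function.update_of_ne hl, Function.update_of_ne hl, mul_one, one_mul]
      show fa j X * N = N * fa j X
      rw [hN, mul_assoc, h1, ← mul_assoc, ← mul_assoc, h2]
    obtain ⟨r₀, hr₀⟩ := scalar_of_com hk0 hcom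
    have hΛs : (Λ s).val = r₀ • pureTens fun j => (a s j).val := by
      calc (Λ s).val = pureTens (fun j => (a s j).val) * N := by
            rw [hN, ← mul_assoc, pureTens_mul]
            simp [pureTens_one]
        _ = _ := by rw [hr₀, mul_smul_comm, mul_one]
    have h3 := congrArg Units.val (hΛ3 s)
    rw [Units.val_pow_eq_pow_val, hΛs, smul_pow, pow_succ (pureTens fun j => (a s j).val) 2,
      pow_two (pureTens fun j => (a s j).val), pureTens_mul, pureTens_mul,
      show (fun j => (a s j).val * (a s j).val * (a s j).val) = fun _ => 1 from funext fun j => by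
        rw [← pow_two, ← pow_succ, ← Units.val_pow_eq_pow_val, ha3', Units.val_one],
      pureTens_one, Units.val_one] at h3
    have hr3 : r₀ ^ 3 = 1 := by
      have h4 := congrFun (congrFun h3 (fun _ => ⟨0, hk0⟩)) (fun _ => ⟨0, hk0⟩)
      simpa using h4
    have hr1 : r₀ = 1 := frobenius_inj F 3 (by rw [frobenius_def, frobenius_def, hr3, one_pow])
    rw [hΛs, hr1, one_smul]
  -- one component
  suffices hone : ∃ s j, s ≠ 0 ∧ ∀ l, l ≠ j → a s l = 1 by
    obtain ⟨s, j, hs0, hl⟩ := hone
    have hΛj : (Λ s).val = fa j (a s j).val := by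
      rw [hval, fa_apply, powStd]
      congr 1
      funext l
      rcases eq_or_ne l j with rfl | h
      · rw [Function.update_self]
      · rw [Function.update_of_ne h, hl l h, Units.val_one]
    have hsq := (conj_cube hf (g := g⁻¹) (i := m) hz (hs s)).1
    rw [inv_inv] at hsq
    change ((Λ s).val - 1) * ((Λ s).val - 1) = _ at hsq
    rw [hΛj, ← map_one (fa j), ← map_sub, ← map_mul] at hsq
    obtain ⟨y, hy⟩ := carry_of_conj hf D'.x_ne (neg_ne_zero.2 (mul_ne_zero hf.h2 (by
      rw [C.smul]; exact mul_ne_zero (pow_ne_zero 2 hs0) D'.ns))) hsq.symm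
    simpa using inv_mem (Ctx.carry_mst hf hC hM (inv_mem hg) hz D'.x_ne hy)
  -- frames
  have hframe : ∀ j, ∃ zj fj ej, Three β zj fj ej ∧ ∀ s, ∃ φ : F, a s j = sGL (qf β) β zj (φ • ej) := by
    intro j
    by_cases hall : ∀ s, a s j = 1
    · obtain ⟨x₁, f₁, H₁⟩ := exists_frame hf (by omega : 3 ≤ k)
      obtain ⟨e₁, D₁⟩ := exists_three C hf.h2 (by simpa using hk) H₁
      exact ⟨x₁, f₁, e₁, D₁, fun s => ⟨0, by rw [hall, zero_smul, SpTensor.sGL_zero_right C D₁.hyp.singE]⟩⟩
    push Not at hall
    obtain ⟨s₁, hs₁⟩ := hall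
    rcases unip_struct C hf.h2 (by simpa using hk) (haI s₁ j) (ha3' s₁ j) with h | ⟨zj, fj, ej, r₁, Dj, hr₁, h⟩
    · exact absurd h hs₁
    refine ⟨zj, fj, ej, Dj, fun s => ?_⟩
    have hcomm : Commute (a s j) (a s₁ j) := by
      have h1 : ∀ X, conjA (a s j * a s₁ j) X = conjA (a s₁ j * a s j) X := fun X => fa_injective hk0 j (by
        rw [← (haA s j).mul (haA s₁ j), ← (haA s₁ j).mul (haA s j), hΛadd, hΛadd, add_comm s s₁])
      obtain ⟨r₂, hr₂⟩ := scalar_of_com hk0
        (Φ := fa (0 : Fin 1) (((a s₁ j * a s j)⁻¹).val * (a s j * a s₁ j).val)) fun l X => by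
          obtain rfl : l = 0 := Fin.ext (by omega)
          show _ * _ = _ * _
          rw [← map_mul, ← map_mul]
          congr 1
          have h2 := h1 X
          rw [conjA_apply, conjA_apply] at h2
          have h3 := congrArg (fun M => ((a s₁ j * a s j)⁻¹).val * M * (a s j * a s₁ j).val) h2
          simp only [mul_assoc, Units.inv_mul, mul_one] at h3
          rw [← mul_assoc ((a s₁ j * a s j)⁻¹).val (a s₁ j * a s j).val, Units.inv_mul, one_mul] at h3
          rw [mul_assoc]
          exact h3.symm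
      rw [show r₂ • (1 : Matrix (Idx k 1) (Idx k 1) F) = fa 0 (r₂ • 1) by rw [map_smul, map_one]] at hr₂
      have h4 := fa_injective hk0 _ hr₂
      have h5 : (a s j * a s₁ j).val = r₂ • (a s₁ j * a s j).val := by
        have := congrArg (fun M => (a s₁ j * a s j).val * M) h4
        simpa [← mul_assoc] using this
      -- the scalar is one
      have h6 : (a s j * a s₁ j * (a s j)⁻¹).val = r₂ • (a s₁ j).val := by
        rw [Units.val_mul (a s j * a s₁ j), h5, Units.val_mul, smul_mul_assoc, mul_assoc, Units.mul_inv,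
          mul_one]
      have h7 := congrArg (fun M => M ^ 3) h6
      simp only [smul_pow, ← Units.val_pow_eq_pow_val, conj_pow, ha3', mul_one, mul_inv_cancel,
        Units.val_one] at h7
      have hr3 : r₂ ^ 3 = 1 := by
        have h8 := congrFun (congrFun h7 ⟨0, hk0⟩) ⟨0, hk0⟩
        simpa using h8.symm
      have hr1 : r₂ = 1 := frobenius_inj F 3 (by rw [frobenius_def, frobenius_def, hr3, one_pow])
      exact Units.ext (by rw [h5, hr1, one_smul])
    have hc2 : ∀ w, (a s j).val *ᵥ ((a s₁ j).val *ᵥ w) = (a s₁ j).val *ᵥ ((a s j).val *ᵥ w) := fun w => by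
      rw [← mul_act, ← mul_act, hcomm.eq]
    set μ := β zj ((a s j).val *ᵥ fj)
    have hzz : (a s j).val *ᵥ zj = μ • zj := by
      have h1 : (-(2 * qf β ej) * (r₁ * r₁)) • ((a s j).val *ᵥ zj) =
          (-(2 * qf β ej) * (r₁ * r₁) * μ) • zj := by
        have e1 := Dj.sGL_sq r₁ fj
        have e2 := Dj.sGL_sq r₁ ((a s j).val *ᵥ fj)
        rw [← h] at e1 e2
        rw [Dj.hyp.pair, mul_one] at e1
        rw [← Matrix.mulVec_smul, ← e1, ← e2]
        simp only [Matrix.mulVec_sub, hc2]
      rw [← smul_smul (-(2 * qf β ej) * (r₁ * r₁)) μ] at h1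
      exact smul_right_injective _ (mul_ne_zero (neg_ne_zero.2 (mul_ne_zero hf.h2 Dj.ns))
        (mul_ne_zero hr₁ hr₁)) h1
    have hμ : μ = 1 := by
      have h1 : ((a s j) ^ 3).val *ᵥ zj = μ ^ 3 • zj := by
        rw [pow_succ, pow_two, mul_act, mul_act, hzz, Matrix.mulVec_smul, hzz, Matrix.mulVec_smul,
          Matrix.mulVec_smul, hzz, smul_smul, smul_smul]
        congr 1
        ring
      rw [ha3', Units.val_one, Matrix.one_mulVec] at h1
      have h2 : μ ^ 3 = 1 := smul_left_injective F Dj.x_ne (show μ ^ 3 • zj = (1 : F) • zj by rw [← h1, one_smul])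
      exact frobenius_inj F 3 (by rw [frobenius_def, frobenius_def, h2, one_pow])
    rw [hμ, one_smul] at hzz
    exact Dj.fix_struct (haI s j) (ha3' s j) hzz
  choose zs fs es hD φ hφ using hframe
  by_contra hcon
  push Not at hcon
  -- evaluation
  have heval : ∀ (P Q : Fin (t + 1) → Fin k → F), ∃ c₀ c₁ c₂ : F, ∀ s,
      ∏ l, β (Q l) ((a s l).val *ᵥ P l) = c₀ + c₁ * s + c₂ * (s * s) := by
    intro P Q
    obtain ⟨p', hp'⟩ : ∃ p' : Fin k → F, p' ≠ 0 := ⟨x, hx0⟩
    set L := pureTens fun l => rk β p' (Q l)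
    set R := pureTens fun l => rk β (P l) p'
    set E := pureTens fun _ : Fin (t + 1) => rk β p' p'
    have hE : E ≠ 0 := pureTens_ne_zero hk0 fun _ => rk_ne hf hp'
    obtain ⟨u, v, huv⟩ : ∃ u v, E u v ≠ 0 := by
      by_contra h; push Not at h; exact hE (Matrix.ext h)
    refine ⟨(L * R) u v / E u v, (L * MA * R) u v / E u v, (L * MB * R) u v / E u v, fun s => ?_⟩
    have h1 : L * (Λ s).val * R = (∏ l, β (Q l) ((a s l).val *ᵥ P l)) • E := by
      rw [hval, pureTens_mul, pureTens_mul, ← pureTens_smul]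
      congr 1
      funext l
      rw [mul_assoc, mul_rk, rk_mul_rk]
    have h2 := congrFun (congrFun h1 u) v
    rw [hΛv] at h2
    simp only [mul_add, add_mul, mul_one, mul_smul_comm, smul_mul_assoc, Matrix.add_apply,
      Matrix.smul_apply, smul_eq_mul] at h2
    field_simp
    linear_combination -h2
  have hzfix : ∀ s l, β (fs l) ((a s l).val *ᵥ zs l) = 1 := fun s l => by
    rw [hφ l s, (hD l).sGL_x, (hD l).hyp.pair' C]
  have hev1 : ∀ j, ∃ c₁ : F, ∀ s, φ j s = c₁ * s := by
    intro j
    obtain ⟨c₀, c₁, c₂, h⟩ := heval (Function.update zs j (fs j)) (Function.update fs j (es j))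
    have h' : ∀ s, φ j s * β (es j) (es j) = c₀ + c₁ * s + c₂ * (s * s) := fun s => by
      rw [← h, Finset.prod_eq_single j (fun l _ hl => by
        rw [Function.update_of_ne hl, Function.update_of_ne hl, hzfix]) (fun h => absurd (Finset.mem_univ _) h),
        Function.update_self, Function.update_self, hφ j s, (hD j).sGL_f]
      simp [(hD j).ef, (hD j).ex]
    have hadd : ∀ s s', φ j (s + s') = φ j s + φ j s' := fun s s' => by
      have h1 : ∀ X, conjA (a (s + s') j) X = conjA (a s j * a s' j) X := fun X => fa_injective hk0 j (by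
        rw [← (haA (s + s') j), ← (haA s j).mul (haA s' j), hΛadd])
      set w := sGL (qf β) β (zs j) ((φ j (s + s')) • es j) with hw
      have hje : ∀ r : F, β (zs j) (r • es j) = 0 := fun r => by rw [map_smul, (hD j).xe, smul_zero]
      rw [hφ j (s + s'), hφ j s, hφ j s', sGL_mul C (hD j).hyp.singE (hje _) (hje _), ← add_smul] at h1
      have h2 := congrArg (fun M => M *ᵥ (zs j)) (h1 (rk β (fs j) (fs j)))
      rw [conj_rk hf one_ne_zero (iso_sim hf (sGL_mem C (hD j).hyp.singE (hje _))),
        conj_rk hf one_ne_zero (iso_sim hf (sGL_mem C (hD j).hyp.singE (hje _))), inv_one, one_smul, one_smul,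
        rk_mulVec, rk_mulVec] at h2
      have h3 := congrArg (β (es j)) h2
      simp [(hD j).sGL_f, (hD j).ef, (hD j).ex, (hD j).hyp.pair' C, (hD j).xx, C.symm _ (zs j), (hD j).xe,
        (hD j).ee] at h3
      exact h3
    have h00 : φ j 0 = 0 := by have := hadd 0 0; rw [add_zero] at this; exact left_eq_add.1 this
    have hc0 : c₀ = 0 := by have := h' 0; rw [h00] at this; linear_combination -this
    have hc2 : c₂ = 0 := by
      have a1 := h' (1 + 1)
      rw [hadd] at a1
      have a2 := h' 1
      exact (mul_eq_zero.1 (show (2 : F) * c₂ = 0 by linear_combination 2 * a2 - a1 + hc0)).resolve_left hf.h2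
    refine ⟨c₁ / β (es j) (es j), fun s => ?_⟩
    have := (hD j).ee
    field_simp
    linear_combination h' s + hc0 + s * s * hc2
  choose c₁ hc₁ using hev1
  obtain ⟨j, hj⟩ : ∃ j, a 1 j ≠ 1 := by
    obtain ⟨j, -, hj⟩ := hcon 1 0 one_ne_zero
    exact ⟨j, hj⟩
  obtain ⟨l, hlj, hl⟩ := hcon 1 j one_ne_zero
  have hne : ∀ l, a 1 l ≠ 1 → c₁ l ≠ 0 := fun l hl e => hl (by
    rw [hφ l 1, hc₁, e, zero_mul, zero_smul, SpTensor.sGL_zero_right C (hD l).hyp.singE])
  obtain ⟨d₀, d₁, d₂, h⟩ := heval (Function.update (Function.update zs j (fs j)) l (fs l))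
    (Function.update fs l (es l))
  have h3 : ∀ s, ∑ i : Fin 4, (![-d₀, -d₁, -d₂,
      -(c₁ j * c₁ j * qf β (es j)) * (c₁ l * β (es l) (es l))] : Fin 4 → F) i * s ^ (i : ℕ) = 0 := fun s => by
    have h4 := h s
    rw [← Finset.mul_prod_erase _ _ (Finset.mem_univ j),
      Finset.prod_eq_single (s := Finset.univ.erase j) l (fun n hn hnl => by
        rw [Function.update_of_ne hnl, Function.update_of_ne hnl,
          Function.update_of_ne (Finset.ne_of_mem_erase hn), hzfix])
        (fun h => absurd (Finset.mem_erase.2 ⟨hlj, Finset.mem_univ _⟩) h),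
      Function.update_self, Function.update_self] at h4
    simp only [Function.update_self, Function.update_of_ne hlj.symm] at h4
    rw [hφ j s, hφ l s, (hD j).sGL_f, (hD l).sGL_f,
      hc₁, hc₁] at h4
    simp [(hD j).ff, (hD j).fe, (hD j).hyp.pair' C, (hD l).ef, (hD l).ex] at h4
    simp only [Fin.sum_univ_four, Matrix.cons_val_zero, Matrix.cons_val_one, Matrix.cons_val,
      Fin.val_zero, Fin.val_one, Fin.val_two, show ((3 : Fin 4) : ℕ) = 3 from rfl]
    linear_combination h4
  have h5 := poly_vanish (S := Finset.univ) (by rw [Finset.card_univ]; omega) (fun s _ => h3 s) 3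
  simp [(hD j).ns, (hD l).ee, hne j hj, hne l hl] at h5

end Cfsg.Lib.Linear.OTPow
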