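import Cfsg.Agent.Lib.Linear.OTPow.Single

/-!
# Conjugates of Siegel elements permuting the factors

An element conjugating a Siegel element of a factor to one permuting the factors maps a slab to a
slab, or permutes the factors itself.
-/

set_option autoImplicit false
set_option linter.unusedSectionVars false
set_option linter.unusedSimpArgs false

namespace Cfsg.Lib.Linear.OTPow

open Module Cfsg.Geo Cfsg.Lib.Linear.AschGen Cfsg.Lib.Linear.TWreath Cfsg.Lib.Linear.Orth
open Cfsg.Lib.Linear.OOTensor (qf Ten tn)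
open scoped Matrix MatrixGroups

variable {F : Type*} [Field F] {k t : ℕ} {β : LinearMap.BilinForm F (Fin k → F)} {c : F}

variable (hf : Fm β c)
include hf

theorem rk_ne {x : Fin k → F} (hx : x ≠ 0) : rk β x x ≠ 0 := rk_ne_zero hf hx hx

theorem wd_xx_zero {x a : Fin k → F} (hx : qf β x = 0) (hxa : β x a = 0) :
    wd β x a * rk β x x = 0 ∧ rk β x x * wd β x a = 0 ∧ rk β x x * rk β x x = 0 := by
  have hxx := (factor_space hf).self_zero hx
  simp [wd, sub_mul, mul_sub, rk_mul_rk, hxx, hxa, hf.sym a x]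

/-- The displacement of a Siegel element. -/
theorem sgl_disp {x a : Fin k → F} (hx : qf β x = 0) (hxa : β x a = 0) :
    ((sGL (qf β) β x a).val - 1) * ((sGL (qf β) β x a).val - 1) = (-(2 * qf β a)) • rk β x x ∧
      ((sGL (qf β) β x a).val - 1) * ((sGL (qf β) β x a).val - 1) * ((sGL (qf β) β x a).val - 1) = 0 := by
  obtain ⟨h1, h2, h3⟩ := wd_xx_zero hf hx hxa
  have e : (sGL (qf β) β x a).val - 1 = wd β x a - qf β a • rk β x x := by
    rw [sgl_val hf hx hxa]; abel
  have hsq : ((sGL (qf β) β x a).val - 1) * ((sGL (qf β) β x a).val - 1) =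
      (-(2 * qf β a)) • rk β x x := by
    rw [e]
    simp only [sub_mul, mul_sub, smul_mul_assoc, mul_smul_comm, h1, h2, h3, smul_zero, sub_zero,
      wd_mul_wd hf hx hxa hxa, (factor_space hf).self a, neg_smul]
  refine ⟨hsq, ?_⟩
  rw [hsq, e, smul_mul_assoc, mul_sub, h2, mul_smul_comm, h3]
  simp

omit hf in
theorem mulVec_fa {i : Fin (t + 1)} (M : Matrix (Fin k) (Fin k) F) :
    ∀ a w, Matrix.mulVecLin (fa i M) (tau i a w) = tau i a (Matrix.mulVecLin M w) := fun a w => fa_tau i M a w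

/-- The rank of a matrix in one factor. -/
theorem rank_fa (i : Fin (t + 1)) (M : Matrix (Fin k) (Fin k) F) :
    (fa i M).rank = Fintype.card (Idx k t) * M.rank := by
  rw [Matrix.rank, Matrix.rank, OOTensor.range_eq_tn (split hf i) (mulVec_fa M),
    OOTensor.finrank_tn (split hf i)]

theorem rank_rk_le (i : Fin (t + 1)) (r : F) (x : Fin k → F) :
    (fa i (r • rk β x x)).rank ≤ k ^ t := by
  rw [rank_fa hf, Fintype.card_pi, Finset.prod_const, Fintype.card_fin, Finset.card_univ, Fintype.card_fin]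
  refine (Nat.mul_le_mul_left _ (?_ : _ ≤ 1)).trans (by rw [mul_one])
  have h1 : LinearMap.range (Matrix.mulVecLin (r • rk β x x)) ≤ Submodule.span F {x} := by
    rintro _ ⟨v, rfl⟩
    rw [Matrix.mulVecLin_apply, Matrix.smul_mulVec, rk_mulVec]
    exact Submodule.smul_mem _ _ (Submodule.smul_mem _ _ (Submodule.mem_span_singleton_self x))
  exact (Submodule.finrank_mono h1).trans ((finrank_span_le_card _).trans (by simp))

/-- A conjugate of a rank one matrix of a factor lying in a factor gives a mapped slab. -/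
theorem carry_of_conj {g : GL (Idx k (t + 1)) F} {i j : Fin (t + 1)} {x : Fin k → F} (hx : x ≠ 0)
    {r : F} (hr : r ≠ 0) {M : Matrix (Fin k) (Fin k) F}
    (h : conjA g (fa i (r • rk β x x)) = fa j M) : ∃ y, Carry g i x j y := by
  obtain ⟨v, hv⟩ := (factor_space hf).exists_pair hx
  have hD : 0 < Fintype.card (Idx k t) := Fintype.card_pos_iff.2 ⟨fun _ => ⟨0, by
    rcases Nat.eq_zero_or_pos k with rfl | h'
    · exact absurd (funext fun a => a.elim0) hx
    · exact h'⟩⟩
  have hrk : M.rank ≤ 1 := by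
    have h1 : (fa j M).rank = (fa i (r • rk β x x)).rank := by rw [← h, rank_conjA]
    have h2 := rank_rk_le hf i r x
    rw [← h1, rank_fa hf, Fintype.card_pi, Finset.prod_const, Fintype.card_fin, Finset.card_univ,
      Fintype.card_fin] at h2
    rw [Fintype.card_pi, Finset.prod_const, Fintype.card_fin, Finset.card_univ, Fintype.card_fin] at hD
    exact Nat.le_of_mul_le_mul_left (by rwa [mul_one]) hD
  obtain ⟨⟨y, hy⟩, hy'⟩ := finrank_le_one_iff.1 hrk
  refine ⟨y, fun u => ?_⟩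
  have e : g.val *ᵥ tau i u x = r⁻¹ • (fa j M *ᵥ (g.val *ᵥ tau i u v)) := by
    rw [← h, conjA_apply, ← Matrix.mulVec_mulVec, ← Matrix.mulVec_mulVec, inv_act, fa_tau,
      Matrix.smul_mulVec, rk_mulVec, hv, one_smul, map_smul, Matrix.mulVec_smul, smul_smul,
      inv_mul_cancel₀ hr, one_smul]
  obtain ⟨l, hl⟩ : ∃ l : (Fin k → F) →ₗ[F] F, ∀ w, M *ᵥ w = l w • y := by
    rcases eq_or_ne y 0 with rfl | hy0
    · refine ⟨0, fun w => ?_⟩
      obtain ⟨d, hd⟩ := hy' ⟨_, ⟨w, rfl⟩⟩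
      have := congrArg Subtype.val hd
      simpa using this.symm
    obtain ⟨z, hz⟩ := (factor_space hf).exists_pair hy0
    refine ⟨β z ∘ₗ Matrix.mulVecLin M, fun w => ?_⟩
    obtain ⟨d, hd⟩ := hy' ⟨_, ⟨w, rfl⟩⟩
    have hd' : d • y = M *ᵥ w := congrArg Subtype.val hd
    rw [LinearMap.comp_apply, Matrix.mulVecLin_apply, ← hd', map_smul, hf.sym z y, hz, smul_eq_mul,
      mul_one]
  obtain ⟨b, hb⟩ := exists_functional hf l
  have hM : M = rk β y b := mat_ext fun w => by rw [hl, rk_mulVec, hb]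
  rw [e, hM, fa_rk_mulVec hf]
  exact ⟨r⁻¹ • _, by rw [map_smul, LinearMap.smul_apply]⟩

/-- An element commuting with a rank one matrix of a factor preserves its slab. -/
theorem carry_of_commute {g : GL (Idx k (t + 1)) F} {i : Fin (t + 1)} {x : Fin k → F} (hx : x ≠ 0)
    (h : Commute g.val (fa i (rk β x x))) : Carry g i x i x := fun u => by
  obtain ⟨v, hv⟩ := (factor_space hf).exists_pair hx
  have e : tau i u x = fa i (rk β x x) *ᵥ tau i u v := by rw [fa_tau, rk_mulVec, hv, one_smul]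
  exact ⟨(split hf i).ctr x (g.val *ᵥ tau i u v), by
    rw [e, Matrix.mulVec_mulVec, h.eq, ← Matrix.mulVec_mulVec, fa_rk_mulVec hf]⟩

omit hf in
theorem conj_disp {ι : Type} [Fintype ι] [DecidableEq ι] (g x : GL ι F) :
    (g * x * g⁻¹).val - 1 = conjA g (x.val - 1) := by rw [map_sub, map_one, val_conj]

omit hf in
/-- A unipotent element fixing all factors and not trivial has a non-trivial component. -/
theorem exists_comp (hk : 0 < k) {Y : GL (Idx k (t + 1)) F} (hne : Y ≠ 1) {d : ℕ}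
    (hd : (Y.val - 1) ^ d = 0) : ∃ j, ¬ Com j Y.val := by
  by_contra hc
  push Not at hc
  obtain ⟨r, hr⟩ := scalar_of_com hk hc
  haveI : Nonempty (Idx k (t + 1)) := ⟨fun _ => ⟨0, hk⟩⟩
  have hr1 : r = 1 := by
    rw [hr, show r • (1 : Matrix (Idx k (t + 1)) (Idx k (t + 1)) F) - 1 = (r - 1) • 1 by
      rw [sub_smul, one_smul], smul_pow, one_pow, smul_eq_zero] at hd
    exact sub_eq_zero.1 (eq_zero_of_pow_eq_zero (hd.resolve_right one_ne_zero))
  exact hne (Units.ext (by rw [hr, hr1, one_smul, Units.val_one]))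

theorem fixed_perp {a : GL (Fin k) F} (ha : a ∈ isometryGroup F (qf β)) {z : Fin k → F}
    (hz : a.val *ᵥ z = z) (v : Fin k → F) : β z ((a.val - 1) *ᵥ v) = 0 := by
  rw [Matrix.sub_mulVec, Matrix.one_mulVec, map_sub]
  conv_lhs => arg 1; arg 1; rw [← hz]
  rw [(factor_space hf).B_act ha, sub_self]

variable {p : ℕ} [Fact p.Prime] [CharP F p] {G : Subgroup (GL (Idx k (t + 1)) F)}

theorem Ctx.conj_iso (hC : Ctx hf G) {g : GL (Idx k (t + 1)) F} (hg : g ∈ G) {i : Fin (t + 1)}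
    {x a : Fin k → F} (hx : qf β x = 0) (hxa : β x a = 0) :
    g * fu i (sGL (qf β) β x a) * g⁻¹ ∈ isometryGroup F (qT β c (t + 1)) :=
  hC.ov.le (mul_mem (mul_mem hg (hC.ov.sie i x a hx hxa)) (inv_mem hg))

theorem conj_cube {g : GL (Idx k (t + 1)) F} {i : Fin (t + 1)}
    {x a : Fin k → F} (hx : qf β x = 0) (hxa : β x a = 0) :
    let Y := g * fu i (sGL (qf β) β x a) * g⁻¹
    (Y.val - 1) * (Y.val - 1) = conjA g (fa i ((-(2 * qf β a)) • rk β x x)) ∧
      (Y.val - 1) * (Y.val - 1) * (Y.val - 1) = 0 := by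
  intro Y
  obtain ⟨h1, h2⟩ := sgl_disp hf hx hxa
  have e : Y.val - 1 = conjA g (fa i ((sGL (qf β) β x a).val - 1)) := by
    rw [conj_disp, fu_val, map_sub (fa i), map_one]
  refine ⟨?_, ?_⟩
  · rw [e, ← map_mul, ← map_mul, h1]
  · rw [e, ← map_mul, ← map_mul, ← map_mul, ← map_mul, h2, map_zero, map_zero]

/-- Dimension three, characteristic above three. -/
theorem Ctx.conj_carry5 [Finite F] (hC : Ctx hf G) (hk : k = 3) (hp : 5 ≤ p) (h3 : (3 : F) ≠ 0)
    {g : GL (Idx k (t + 1)) F} (hg : g ∈ G) {i : Fin (t + 1)} {x a : Fin k → F} (hx : qf β x = 0)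
    (hx0 : x ≠ 0) (hxa : β x a = 0) (hqa : qf β a ≠ 0)
    (hY : g * fu i (sGL (qf β) β x a) * g⁻¹ ∈ mst k (t + 1) F) : ∃ j y, Carry g i x j y := by
  haveI : Nonempty (Idx k (t + 1)) := ⟨fun _ => ⟨0, by omega⟩⟩
  obtain ⟨hY2, hY3⟩ := conj_cube hf (g := g) (i := i) hx hxa
  set Y := g * fu i (sGL (qf β) β x a) * g⁻¹ with hYdef
  have hr : -(2 * qf β a) ≠ 0 := neg_ne_zero.2 (mul_ne_zero hf.h2 hqa)
  have hperm := fun j => no_perm (p := p) (F := F) (by omega) (by omega) hY hY3 (Or.inl hp) j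
  obtain ⟨j, hj⟩ := exists_comp (by omega) (Y := Y) (fun e => by
    rw [e, Units.val_one, sub_self, zero_mul, eq_comm] at hY2
    have h1 := fa_injective (by omega) i ((conjA g).injective (hY2.trans (map_zero _).symm) |>.trans
      (map_zero _).symm)
    exact hr ((smul_eq_zero.1 h1).resolve_right (rk_ne hf hx0))) (d := 3) (by
    rw [pow_succ, pow_two, hY3])
  obtain ⟨A, hA⟩ := hperm j
  obtain ⟨b, hb, Z, -, e, -, hbn, hZn⟩ := split_unip hf (p := p) hC.odd
    ((Fact.out (p := p.Prime)).odd_of_ne_two (by omega)) (Ctx.conj_iso hf hC hg hx hxa)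
    (pow_char (by omega) hY3) hA
  replace e : Y = _ := e
  rcases single_three hf hk h3 hb hbn hZn (by rw [← e]; exact hY3) with rfl | rfl
  · exact absurd (by rw [e, map_one, one_mul]; exact com_psi j Z.val) hj
  refine ⟨j, carry_of_conj hf hx0 hr (M := (b.val - 1) * (b.val - 1)) ?_⟩
  rw [← hY2, e, map_one, mul_one, fu_val, map_mul, map_sub, map_one]

/-- An element taking the plane slab of a long element to one fixes a slab of the plane. -/
theorem Ctx.conj_long [Finite F] (hC : Ctx hf G) (hM : SlabMst G β) (hk : 5 ≤ k) (hp : 3 ≤ p)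
    {g : GL (Idx k (t + 1)) F} (hg : g ∈ G) {i : Fin (t + 1)} {x w : Fin k → F}
    (P : OOTensor.Plane β x w) (hY : g * fu i (sGL (qf β) β x w) * g⁻¹ ∈ mst k (t + 1) F) :
    g ∈ mst k (t + 1) F := by
  have C := factor_space hf
  have hk0 : 0 < k := by omega
  haveI : Nonempty (Idx k (t + 1)) := ⟨fun _ => ⟨0, hk0⟩⟩
  obtain ⟨hY2, hY3⟩ := conj_cube hf (g := g) (i := i) P.singX P.orth
  rw [P.singY, mul_zero, neg_zero, zero_smul, map_zero, map_zero] at hY2
  set Y := g * fu i (sGL (qf β) β x w) * g⁻¹ with hYdef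
  have hperm := fun j => no_perm (p := p) (F := F) (by omega) hp hY hY3
    (Or.inr ⟨hk, by rw [hY2, Matrix.rank_zero]; exact Nat.zero_le _⟩) j
  have hYd : Y.val - 1 = conjA g (fa i (wd β x w)) := by
    rw [hYdef, conj_disp, fu_val, (long_val hf P.singX P.orth P.singY).1, map_add, map_one,
      add_sub_cancel_left]
  obtain ⟨w', hw1, hw2⟩ := OOTensor.exists_dual_plane (split hf i) P.indep'
  obtain ⟨v', hv1, hv2⟩ := OOTensor.exists_dual_plane (split hf i) P.indep
  obtain ⟨j, hj⟩ := exists_comp hk0 (Y := Y) (fun e => by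
    rw [e, Units.val_one, sub_self, eq_comm] at hYd
    have h1 := congrArg (fun M => M *ᵥ w') (fa_injective hk0 i
      (((conjA g).injective (hYd.trans (map_zero _).symm)).trans (map_zero _).symm))
    simp only [wd_mulVec, hw1, hw2, zero_smul, sub_zero, one_smul, Matrix.zero_mulVec] at h1
    exact P.indep (by rw [h1]; exact zero_mem _)) (d := 2) (by rw [pow_two, hY2])
  obtain ⟨A₀, hA₀⟩ := hperm j
  obtain ⟨b, hb, Z, -, e, -, hbn, hZn⟩ := split_unip hf (p := p) hC.odd
    ((Fact.out (p := p.Prime)).odd_of_ne_two (by omega)) (Ctx.conj_iso hf hC hg P.singX P.orth)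
    (pow_char hp hY3) hA₀
  replace e : Y = _ := e
  rcases single_long hk0 hf.h2 hbn hZn (by rw [← e]; exact hY2) with rfl | rfl
  · exact absurd (by rw [e, map_one, one_mul]; exact com_psi j Z.val) hj
  rw [map_one, mul_one] at e
  set A := b.val - 1 with hAdef
  have hAA : A * A = 0 := fa_injective hk0 j (by
    rw [map_zero, map_mul, hAdef, map_sub, map_one, ← fu_val, ← e]; exact hY2)
  have hAe : conjA g (fa i (wd β x w)) = fa j A := by
    rw [← hYd, e, fu_val, hAdef, map_sub, map_one]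
  have hA0 : A ≠ 0 := fun h0 => hj (by
    have : b = 1 := Units.ext (sub_eq_zero.1 h0)
    rw [e, this, map_one]; exact com_one j)
  obtain ⟨v, hv⟩ : ∃ v, A *ᵥ v ≠ 0 := by
    by_contra h; push Not at h
    exact hA0 (mat_ext fun v => by rw [h, Matrix.zero_mulVec])
  set z := A *ᵥ v with hz
  have hsing := sq_zero_sing hf hb hAA
  have hzs : qf β z = 0 := by rw [qf, hsing, mul_zero]
  -- an anisotropic fixed vector
  obtain ⟨d, hd, hQd⟩ := exists_nonsing_of_lt C (A := LinearMap.ker (Matrix.mulVecLin A)) (by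
    have h1 := LinearMap.finrank_range_add_finrank_ker (Matrix.mulVecLin A)
    have h2 : 2 * finrank F (LinearMap.range (Matrix.mulVecLin A)) ≤ Fintype.card (Fin k) :=
      ts_bound C (by rintro _ ⟨u, rfl⟩; rw [Matrix.mulVecLin_apply, qf, hsing, mul_zero])
    rw [finrank_fintype_fun_eq_card] at h1
    rw [Fintype.card_fin] at h1 h2 ⊢
    obtain ⟨n, rfl⟩ := hC.odd
    omega)
  rw [LinearMap.mem_ker, Matrix.mulVecLin_apply] at hd
  have hbd : b.val *ᵥ d = d := by
    rwa [hAdef, Matrix.sub_mulVec, Matrix.one_mulVec, sub_eq_zero] at hd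
  have hzd : β z d = 0 := by rw [hf.sym, hz]; exact fixed_perp hf hb hbd v
  set s := sGL (qf β) β z d
  have hsA : s.val * A = A := mat_ext fun u => by
    rw [← Matrix.mulVec_mulVec, sGL_act C hzs hzd, hz, hsing v u, fixed_perp hf hb hbd u]
    simp
  set n := g⁻¹ * fu j s * g with hn
  have hnG : n ∈ G := mul_mem (mul_mem (inv_mem hg) (hC.ov.sie j z d hzs hzd)) hg
  have hnfa : n.val * fa i (wd β x w) = fa i (wd β x w) := by
    refine (conjA g).injective ?_
    have e1 : conjA g n.val = (fu j s).val := by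
      rw [← val_conj, hn]
      congr 1
      group
    rw [map_mul, e1, hAe, fu_val, ← map_mul, hsA]
  have hfix : ∀ u, n.val *ᵥ tau i u x = tau i u x := fun u => by
    have h0 : wd β x w *ᵥ (-v') = x := by
      rw [wd_mulVec, map_neg, map_neg, hv1, hv2]; simp
    conv_lhs => rw [← h0, ← fa_tau, Matrix.mulVec_mulVec, hnfa, fa_tau, h0]
  obtain ⟨f, H⟩ := exists_hyp_at hf P.singX P.ne
  obtain ⟨σ, hσ⟩ := hM i x P.singX P.ne n hnG fun u => ⟨u, hfix u⟩
  obtain ⟨C₀, hC₀⟩ := hσ i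
  have hσi : σ i = i := by
    by_contra hne
    obtain ⟨l', hl'⟩ := Fin.exists_succAbove_eq hne
    have hall : ∀ u, ∃ u', n.val *ᵥ tau i u f = tau i u' x := fun u => by
      have h1 : n.val * fa i (rk β f f) = fa (σ i) (conjA C₀ (rk β f f)) * n.val := by
        rw [← hC₀, conjA_apply, mul_assoc _ _ n.val, Units.inv_mul, mul_one]
      refine ⟨fa l' (conjA C₀ (rk β f f)) *ᵥ u, ?_⟩
      have h2 : fa i (rk β f f) *ᵥ tau i u x = tau i u f := by
        rw [fa_tau, rk_mulVec, H.pair' C, one_smul]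
      rw [← h2, Matrix.mulVec_mulVec, h1, ← Matrix.mulVec_mulVec, hfix, ← hl', ← psi_fa, psi_tau]
    obtain ⟨u₀, hu₀⟩ := (split hf i).exists_aniso_left (Ctx.idx_pos hf hC)
    obtain ⟨u', hu'⟩ := hall u₀
    have h3 := Orth.act_injective n (hu'.trans (hfix u').symm)
    have h4 := congrArg ((split hf i).ctr x) h3
    rw [(split hf i).ctr_tau, (split hf i).ctr_tau, H.pair' C, C.self_zero P.singX, one_smul,
      zero_smul] at h4
    exact hu₀ (by rw [h4]; simp)
  rw [hσi] at hC₀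
  obtain ⟨r₀, hr₀, Z', hZ', en⟩ := split_iso hf hC.odd (hC.ov.le hnG) hC₀
  set μ := β (r₀.val *ᵥ x) f
  have hZs : ∀ u, μ • (Z'.val *ᵥ u) = u := fun u => by
    have h1 := congrArg ((split hf i).ctr f) (hfix u)
    rw [en, mul_act, psiU_val, psi_tau, fu_val, fa_tau, (split hf i).ctr_tau, (split hf i).ctr_tau,
      H.pair, one_smul] at h1
    exact h1
  have hμ : μ ≠ 0 := fun h0 => by
    obtain ⟨u₀, hu₀⟩ := (split hf i).exists_aniso_left (Ctx.idx_pos hf hC)
    exact hu₀ (by rw [← hZs u₀, h0, zero_smul]; simp)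
  have hZv : psi i Z'.val = μ⁻¹ • 1 := by
    rw [show Z'.val = μ⁻¹ • 1 from mat_ext fun u => by
      rw [Matrix.smul_mulVec, Matrix.one_mulVec]
      exact (eq_inv_smul_iff₀ hμ).2 (hZs u), map_smul, map_one]
  have hnv : n.val - 1 = fa i (μ⁻¹ • r₀.val - 1) := by
    rw [en, Units.val_mul, psiU_val, hZv, fu_val, mul_smul_comm, mul_one, map_sub, map_smul, map_one]
  have hsq : conjA g⁻¹ (fa j ((-(2 * qf β d)) • rk β z z)) =
      fa i ((μ⁻¹ • r₀.val - 1) * (μ⁻¹ • r₀.val - 1)) := by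
    have h1 := (conj_cube hf (g := g⁻¹) (i := j) hzs hzd).1
    rw [inv_inv, ← hn, hnv, ← map_mul] at h1
    exact h1.symm
  obtain ⟨y, hy⟩ := carry_of_conj hf hv (neg_ne_zero.2 (mul_ne_zero hf.h2 hQd)) hsq
  simpa using inv_mem (Ctx.carry_mst hf hC hM (inv_mem hg) hzs hv hy)

/-- A singular flag preserved by a unipotent isometry. -/
theorem exists_flag [Finite F] (hk : 5 ≤ k) {a : GL (Fin k) F} (ha : a ∈ isometryGroup F (qf β)) {n : ℕ}
    (hA : (a.val - 1) ^ n = 0) :
    ∃ z w, OOTensor.Plane β z w ∧ a.val *ᵥ z = z ∧ ∃ r : F, a.val *ᵥ w = w + r • z := by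
  classical
  have C := factor_space hf
  set A := a.val - 1 with hAdef
  have hav : ∀ v, a.val *ᵥ v = v + A *ᵥ v := fun v => by
    rw [hAdef, Matrix.sub_mulVec, Matrix.one_mulVec, add_sub_cancel]
  have hmk : ∀ z, qf β z = 0 → z ≠ 0 → a.val *ᵥ z = z →
      (∀ w, β z w = 0 → ∃ r : F, A *ᵥ w = r • z) →
      ∃ z w, OOTensor.Plane β z w ∧ a.val *ᵥ z = z ∧ ∃ r : F, a.val *ᵥ w = w + r • z := by
    intro z hz hz0 haz hall
    obtain ⟨f, H⟩ := exists_hyp_at hf hz hz0
    obtain ⟨y, y', G'⟩ := exists_pair2 hf hk H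
    obtain ⟨-, hzy, hfy⟩ := mem_perp2.1 G'.memE
    have hind : y ∉ Submodule.span F {z} := fun h => by
      obtain ⟨d, rfl⟩ := Submodule.mem_span_singleton.1 h
      rw [map_smul, H.pair' C, smul_eq_mul, mul_one] at hfy
      have := G'.pair
      rw [hfy, zero_smul] at this
      simp at this
    obtain ⟨r, hr⟩ := hall y hzy
    exact ⟨z, y, ⟨hz, G'.singE, hzy, hz0, hind⟩, haz, r, by rw [hav, hr]⟩
  by_cases hA0 : A = 0
  · obtain ⟨x, f, H⟩ := exists_frame hf (by omega)
    refine hmk x H.singE (fun e => by simpa [e] using H.pair) (by rw [hav, hA0]; simp)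
      fun w _ => ⟨0, by rw [hA0]; simp⟩
  obtain ⟨r, hr, hr0, hr1⟩ := exists_nilp_top hA hA0
  obtain ⟨v, hv⟩ : ∃ v, (A ^ r) *ᵥ v ≠ 0 := by
    by_contra h; push Not at h
    exact hr0 (mat_ext fun v => by rw [h, Matrix.zero_mulVec])
  set z := (A ^ r) *ᵥ v with hz
  have haz : a.val *ᵥ z = z := by
    rw [hav, hz, Matrix.mulVec_mulVec, ← pow_succ', hr1, Matrix.zero_mulVec, add_zero]
  have hperp : ∀ u, β z (A *ᵥ u) = 0 := fixed_perp hf ha haz
  have hzs : qf β z = 0 := by
    obtain ⟨r', rfl⟩ := Nat.exists_eq_add_of_le' hr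
    rw [qf, show β z z = 0 by
      have := hperp ((A ^ r') *ᵥ v)
      rwa [Matrix.mulVec_mulVec, ← pow_succ', ← hz] at this, mul_zero]
  by_cases hall : ∀ w, β z w = 0 → ∃ r : F, A *ᵥ w = r • z
  · exact hmk z hzs hv haz hall
  let Pr : ℕ → Prop := fun m => ∀ w, β z w = 0 → ∃ r : F, (A ^ m) *ᵥ w = r • z
  have hex : ∃ m, Pr m := ⟨n, fun w _ => ⟨0, by rw [hA, Matrix.zero_mulVec, zero_smul]⟩⟩
  have hm2 : 2 ≤ Nat.find hex := by
    refine (Nat.le_find_iff hex 2).2 fun m hm h => hall fun w hw => ?_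
    interval_cases m
    · obtain ⟨d, hd⟩ := h w hw
      rw [pow_zero, Matrix.one_mulVec] at hd
      refine ⟨0, ?_⟩
      rw [hd, Matrix.mulVec_smul, hz, Matrix.mulVec_mulVec, ← pow_succ', hr1]
      simp
    · simpa using h w hw
  obtain ⟨m, hm⟩ : ∃ m, Nat.find hex = m + 2 := ⟨Nat.find hex - 2, by omega⟩
  have hmin : ¬ Pr (m + 1) := Nat.find_min hex (by omega)
  simp only [Pr, not_forall, not_exists] at hmin
  obtain ⟨u, hu, hu'⟩ := hmin
  have hW : ∀ (l : ℕ), β z ((A ^ l) *ᵥ u) = 0 := fun l => by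
    cases l with
    | zero => simpa using hu
    | succ l => rw [pow_succ', ← Matrix.mulVec_mulVec]; exact hperp _
  set v' := (A ^ m) *ᵥ u with hv'
  set w := A *ᵥ v' with hw
  have hw' : w = (A ^ (m + 1)) *ᵥ u := by rw [hw, hv', Matrix.mulVec_mulVec, ← pow_succ']
  obtain ⟨d, hd⟩ : ∃ d : F, A *ᵥ w = d • z := by
    obtain ⟨d, hd⟩ := Nat.find_spec hex u hu
    exact ⟨d, by rw [hw', Matrix.mulVec_mulVec, ← pow_succ', ← hd, hm]⟩
  have hind : w ∉ Submodule.span F {z} := fun h => by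
    obtain ⟨e, he⟩ := Submodule.mem_span_singleton.1 h
    exact hu' e (by rw [← hw', he])
  have hzw : β z w = 0 := by rw [hw']; exact hW (m + 1)
  have hww : β w w = 0 := by
    have h1 := C.B_act ha v' w
    rw [hav v', hav w, hd] at h1
    simp only [map_add, LinearMap.add_apply, map_smul, smul_eq_mul, LinearMap.smul_apply] at h1
    rw [← hw, hf.sym v' z, hv', hW m, hf.sym w z, hzw] at h1
    linear_combination h1
  exact ⟨z, w, ⟨hzs, by rw [qf, hww, mul_zero], hzw, hv, hind⟩, haz, d, by rw [hav, hd]⟩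

/-- Dimension at least five. -/
theorem Ctx.conj_big [Finite F] (hC : Ctx hf G) (hM : SlabMst G β) (hk : 5 ≤ k) (hp : 3 ≤ p)
    {g : GL (Idx k (t + 1)) F} (hg : g ∈ G) {i : Fin (t + 1)} {x a : Fin k → F} (hx : qf β x = 0)
    (hx0 : x ≠ 0) (hxa : β x a = 0) (hqa : qf β a ≠ 0)
    (hY : g * fu i (sGL (qf β) β x a) * g⁻¹ ∈ mst k (t + 1) F) : g ∈ mst k (t + 1) F := by
  have C := factor_space hf
  have hk0 : 0 < k := by omega
  haveI : Nonempty (Idx k (t + 1)) := ⟨fun _ => ⟨0, hk0⟩⟩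
  obtain ⟨hY2, hY3⟩ := conj_cube hf (g := g) (i := i) hx hxa
  set Y := g * fu i (sGL (qf β) β x a) * g⁻¹ with hYdef
  have hr : -(2 * qf β a) ≠ 0 := neg_ne_zero.2 (mul_ne_zero hf.h2 hqa)
  obtain ⟨A₀, hA₀⟩ := no_perm (p := p) (F := F) (by omega) hp hY hY3 (Or.inr ⟨hk, by
    rw [hY2, rank_conjA]; exact rank_rk_le hf i _ x⟩) (0 : Fin (t + 1))
  obtain ⟨b, hb, Z, -, e, -, hbn, -⟩ := split_unip hf (p := p) hC.odd
    ((Fact.out (p := p.Prime)).odd_of_ne_two (by omega)) (Ctx.conj_iso hf hC hg hx hxa)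
    (pow_char hp hY3) hA₀
  replace e : Y = _ := e
  obtain ⟨z, w, P, hbz, r, hbw⟩ := exists_flag hf hk hb hbn
  set s := sGL (qf β) β z w with hsdef
  have hbs : Commute b.val s.val := by
    rw [hsdef, (long_val hf P.singX P.orth P.singY).1]
    refine (Commute.one_right _).add_right ?_
    have h1 : conjA b (wd β z w) = wd β z w := by
      rw [wd, map_sub, conj_rk hf one_ne_zero (iso_sim hf hb), conj_rk hf one_ne_zero (iso_sim hf hb),
        hbz, hbw, inv_one, one_smul, one_smul, rk_add_left, rk_add_right, rk_smul_left, rk_smul_right]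
      abel
    rw [conjA_apply] at h1
    show b.val * _ = _ * b.val
    conv_rhs => rw [← h1, mul_assoc _ _ b.val, Units.inv_mul, mul_one]
  have hcom : Commute Y (fu (0 : Fin (t + 1)) s) := by
    rw [e]
    exact Commute.mul_left (Units.ext (by rw [Units.val_mul, Units.val_mul, fu_val, fu_val, ← map_mul,
      ← map_mul, hbs.eq])) (fu_psiU_comm 0 s Z).symm
  set L := g⁻¹ * fu (0 : Fin (t + 1)) s * g with hL
  have hLG : L ∈ G := mul_mem (mul_mem (inv_mem hg) (hC.ov.sie 0 z w P.singX P.orth)) hg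
  have hLu : Commute L (fu i (sGL (qf β) β x a)) := by
    show L * _ = _ * L
    have h1 := hcom.eq
    calc L * fu i (sGL (qf β) β x a) = g⁻¹ * (fu 0 s * Y) * g := by rw [hL, hYdef]; group
      _ = g⁻¹ * (Y * fu 0 s) * g := by rw [h1]
      _ = _ := by rw [hL, hYdef]; group
  have hLr : Commute L.val (fa i (rk β x x)) := by
    have h1 : Commute L.val ((fu i (sGL (qf β) β x a)).val - 1) :=
      (congrArg Units.val hLu.eq : _).trans rfl |> fun h => Commute.sub_right h (Commute.one_right _)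
    have h2 := h1.mul_right h1
    rw [fu_val, ← map_one (fa i), ← map_sub, ← map_mul, (sgl_disp hf hx hxa).1, map_smul] at h2
    have h3 := h2.smul_right (-(2 * qf β a))⁻¹
    rwa [smul_smul, inv_mul_cancel₀ hr, one_smul] at h3
  have hLm := hM i x hx hx0 L hLG (carry_of_commute hf hx0 hLr)
  rw [hL] at hLm
  simpa using inv_mem (Ctx.conj_long hf hC hM hk hp (inv_mem hg) P (by rw [inv_inv]; exact hLm))

end Cfsg.Lib.Linear.OTPow
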