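import Cfsg.Agent.Lib.Linear.OOTensor.Ten
import Cfsg.Agent.Lib.Linear.OrthSpinorApp
import Cfsg.Agent.Lib.Linear.FrameNotMax

/-!
# Correcting an isometry by one factor

When both factors have odd dimension the lifted reflections of a factor take both spinor values on
the determinant `-1`.
-/

set_option autoImplicit false
set_option linter.unusedSectionVars false
set_option linter.unusedSimpArgs false
set_option linter.style.haveILetI false

namespace Cfsg.Lib.Linear.OTPow

open Module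
open scoped Matrix commutatorElement
open Cfsg.Lib.Linear.Orth
open Cfsg.Lib.Linear.OOTensor (qf Ten)

variable {ι κ μ : Type} [Fintype ι] [DecidableEq ι] [Fintype κ] [DecidableEq κ] [Fintype μ]
  [DecidableEq μ] {F : Type*} [Field F] [Fintype F] {Q : (ι → F) → F}
  {B : LinearMap.BilinForm F (ι → F)} {α : LinearMap.BilinForm F (κ → F)}
  {β : LinearMap.BilinForm F (μ → F)} {τ : (κ → F) →ₗ[F] (μ → F) →ₗ[F] (ι → F)}

theorem sqSign_pow_odd (h2 : (2 : F) ≠ 0) {z : F} (hz : z ≠ 0) {n : ℕ} (hn : Odd n) :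
    sqSign (z ^ n) = sqSign z := by
  obtain ⟨r, rfl⟩ := hn
  rw [pow_succ, sqSign_mul h2 (pow_ne_zero _ hz) hz, sqSign_eq_one.2 ⟨z ^ r, by ring⟩, one_mul]

variable (T : Ten Q B α β τ)
include T

/-- The spinor values of the lifted reflections. -/
theorem lift_refl (hκ : Odd (Fintype.card κ)) :
    ∃ s : ℤˣ, ∀ a, qf β a ≠ 0 → ∃ g : ↥(isometryGroup F Q), (g : GL ι F) = T.liftR (rGL (qf β) a) ∧
      (detSpin Q g).1 = -1 ∧ spin Q g = s * sqSign (qf β a) := by
  classical
  obtain ⟨b, -, hbQ, hbo⟩ := exists_orth_basis T.SU T.h2 (Fintype.card κ) ⊤ T.SU.ndeg_top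
    (by rw [finrank_top, finrank_fintype_fun_eq_card])
  have hαb : ∀ j, α (b j) (b j) ≠ 0 := fun j h => hbQ j (by rw [qf, h, mul_zero])
  refine ⟨-sqSign (∏ j, α (b j) (b j)), fun a ha => ?_⟩
  have hQv : ∀ j, Q (τ (b j) a) = α (b j) (b j) * qf β a := fun j => by rw [T.Q_tau, qf]; ring
  set L := (Finset.univ : Finset (Fin (Fintype.card κ))).toList
  obtain ⟨g, hg, hd, hs⟩ := exists_refl_prod T.space T.h2 (L.map fun j => τ (b j) a) (fun v hv => by
    obtain ⟨j, -, rfl⟩ := List.mem_map.1 hv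
    rw [hQv]; exact mul_ne_zero (hαb j) ha)
  have hact : ∀ L : List (Fin (Fintype.card κ)), L.Nodup → ∀ i w,
      ((L.map fun j => τ (b j) a).map fun v => Cfsg.reflectionMatrix Q v).prod *ᵥ τ (b i) w =
        if i ∈ L then τ (b i) ((rGL (qf β) a).val *ᵥ w) else τ (b i) w := by
    intro L
    induction L with
    | nil => intro _ i w; simp
    | cons j L ih =>
      intro hnd i w
      obtain ⟨hj, hL⟩ := List.nodup_cons.mp hnd
      have hne : Q (τ (b j) a) ≠ 0 := by rw [hQv]; exact mul_ne_zero (hαb j) ha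
      rw [List.map_cons, List.map_cons, List.prod_cons, ← Matrix.mulVec_mulVec, ih hL i w,
        ← rGL_val T.space hne]
      by_cases hij : i = j
      · subst hij
        rw [if_neg hj, if_pos List.mem_cons_self, rGL_act T.space hne, rGL_act T.SW ha, T.pair, map_sub,
          map_smul, hQv]
        congr 2
        have := hαb i
        field_simp
      · have h0 : ∀ z, (rGL Q (τ (b j) a)).val *ᵥ τ (b i) z = τ (b i) z := fun z =>
          rGL_fix T.space hne (by rw [T.pair, hbo j i (Ne.symm hij), zero_mul])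
        by_cases hi : i ∈ L
        · rw [if_pos hi, if_pos (List.mem_cons_of_mem _ hi), h0]
        · rw [if_neg hi, if_neg (by simp [hij, hi]), h0]
  have hli : LinearIndependent F b := by
    rw [Fintype.linearIndependent_iff]
    intro d hd i
    have h1 := congrArg (α (b i)) hd
    rw [map_sum, map_zero, Finset.sum_eq_single i (fun j _ hj => by
      rw [map_smul, hbo i j (Ne.symm hj), smul_zero]) (fun h => absurd (Finset.mem_univ i) h),
      map_smul, smul_eq_mul] at h1
    exact (mul_eq_zero.mp h1).resolve_right (hαb i)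
  have htop := hli.span_eq_top_of_card_eq_finrank'
    (by rw [Fintype.card_fin, finrank_fintype_fun_eq_card])
  have hval : (g : GL ι F) = T.liftR (rGL (qf β) a) := T.gl_ext fun u w => by
    have e : Matrix.mulVecLin (g : GL ι F).val ∘ₗ τ.flip w =
        τ.flip ((rGL (qf β) a).val *ᵥ w) := LinearMap.ext_on_range htop fun i => by
      simp only [LinearMap.comp_apply, LinearMap.flip_apply, Matrix.mulVecLin_apply]
      rw [hg, hact L (Finset.nodup_toList _) i w, if_pos (by simp [L])]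
    rw [T.liftR_act]
    exact LinearMap.congr_fun e u
  have hlen : (L.map fun j => τ (b j) a).length = Fintype.card κ := by simp [L]
  have hprod : ((L.map fun j => τ (b j) a).map fun v => Q v).prod =
      (∏ j, α (b j) (b j)) * qf β a ^ Fintype.card κ := by
    rw [List.map_map]
    refine (Finset.prod_map_toList Finset.univ _).trans ?_
    simp only [Function.comp_apply, hQv, Finset.prod_mul_distrib, Finset.prod_const, Finset.card_univ,
      Fintype.card_fin]
  refine ⟨g, hval, ?_, ?_⟩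
  · rw [hd, hlen, hκ.neg_one_pow]
  · rw [hs, hlen, hκ.neg_one_pow, hprod, sqSign_mul T.h2 (Finset.prod_ne_zero_iff.2 fun j _ => hαb j)
      (pow_ne_zero _ ha), sqSign_pow_odd T.h2 ha hκ]
    simp

/-- Correcting an isometry into the commutator subgroup. -/
theorem exists_correct (hκ : Odd (Fintype.card κ)) (hμ : 2 ≤ Fintype.card μ) (hn : 2 ≤ Fintype.card ι)
    {J : GL ι F} (hJ : J ∈ isometryGroup F Q) :
    ∃ r ∈ isometryGroup F (qf β),
      J * T.liftR r ∈ ⁅isometryGroup F Q, isometryGroup F Q⁆ := by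
  classical
  obtain ⟨s, hs⟩ := lift_refl T hκ
  have hchar : ringChar F ≠ 2 := fun hc => T.h2 (by
    haveI := ringChar.charP F
    have := CharP.cast_eq_zero F (ringChar F)
    rw [hc] at this
    exact_mod_cast this)
  obtain ⟨ν, hν⟩ := FiniteField.exists_nonsquare hchar
  have hν0 : ν ≠ 0 := fun h => hν (h ▸ ⟨0, (mul_zero 0).symm⟩)
  obtain ⟨a, ha⟩ := exists_value T.SW T.h2 hμ (one_ne_zero (α := F))
  obtain ⟨b, hb⟩ := exists_value T.SW T.h2 hμ hν0
  have ha0 : qf β a ≠ 0 := by rw [ha]; exact one_ne_zero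
  have hb0 : qf β b ≠ 0 := by rw [hb]; exact hν0
  obtain ⟨ga, hga, hda, hsa⟩ := hs a ha0
  obtain ⟨gb, hgb, hdb, hsb⟩ := hs b hb0
  rw [ha, sqSign_eq_one.2 IsSquare.one, mul_one] at hsa
  rw [hb, show sqSign ν = -1 by rw [sqSign, if_neg hν]] at hsb
  suffices h : ∃ r ∈ isometryGroup F (qf β), ∃ g : ↥(isometryGroup F Q),
      (g : GL ι F) = T.liftR r ∧ detSpin Q (⟨J, hJ⟩ * g) = 1 by
    obtain ⟨r, hr, g, hg, hd⟩ := h
    refine ⟨r, hr, ?_⟩
    have hk : (⟨J, hJ⟩ * g : ↥(isometryGroup F Q)) ∈ commutator ↥(isometryGroup F Q) := by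
      rw [(omega_odd T.space T.h2 hn).1]
      exact hd
    rw [← Subgroup.map_subtype_commutator]
    exact ⟨_, hk, by rw [← hg]; rfl⟩
  have hJd : (detSpin Q ⟨J, hJ⟩).1 = 1 ∨ (detSpin Q ⟨J, hJ⟩).1 = -1 :=
    (det_sq T.space hJ).imp (fun h => Units.ext h) fun h => Units.ext (show J.val.det = ((-1 : Fˣ) : F) by simpa using h)
  have hra := rGL_mem T.SW ha0
  have hrb := rGL_mem T.SW hb0
  have hsd : ∀ g, (detSpin Q g).2 = spin Q g := fun _ => rfl
  rcases hJd with hJd | hJd
  · rcases Int.units_eq_one_or (spin Q ⟨J, hJ⟩) with h | h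
    · refine ⟨1, one_mem _, 1, by simp, ?_⟩
      rw [mul_one]
      exact Prod.ext hJd (by rw [hsd, h]; rfl)
    · refine ⟨_, mul_mem hra hrb, ga * gb, by rw [map_mul, Subgroup.coe_mul, hga, hgb], ?_⟩
      refine Prod.ext ?_ ?_
      · rw [map_mul, map_mul, Prod.fst_mul, Prod.fst_mul, hJd, hda, hdb]; simp
      · rw [map_mul, map_mul, Prod.snd_mul, Prod.snd_mul, hsd, hsd, hsd, h, hsa, hsb]
        rcases Int.units_eq_one_or s with hσ | hσ <;> simp [hσ]
  · by_cases h : spin Q ⟨J, hJ⟩ = s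
    · refine ⟨_, hra, ga, hga, Prod.ext ?_ ?_⟩
      · rw [map_mul, Prod.fst_mul, hJd, hda]; simp
      · rw [map_mul, Prod.snd_mul, hsd, hsd, h, hsa]
        exact Int.units_mul_self s
    · refine ⟨_, hrb, gb, hgb, Prod.ext ?_ ?_⟩
      · rw [map_mul, Prod.fst_mul, hJd, hdb]; simp
      · rw [map_mul, Prod.snd_mul, hsd, hsd, hsb, (Int.units_ne_iff_eq_neg).1 h]
        rcases Int.units_eq_one_or s with hσ | hσ <;> simp [hσ]

end Cfsg.Lib.Linear.OTPow
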