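import Cfsg.Agent.Lib.Linear.OTPow.Ops
import Cfsg.Agent.Lib.Linear.OOTensor.Adjoint

/-!
# A piece of a factor in an invariant space

A matrix of an invariant space either commutes with a factor or leaves a non-zero coefficient times
every singular rank one map, or times every skew map, of that factor in the space.
-/

set_option autoImplicit false
set_option linter.unusedSectionVars false
set_option linter.unusedSimpArgs false

namespace Cfsg.Lib.Linear.OTPow

open Module Cfsg.Geo Cfsg.Lib.Linear.AschGen Cfsg.Lib.Linear.TWreath Cfsg.Lib.Linear.Orth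
open Cfsg.Lib.Linear.OOTensor (qf cj cj_apply Inv wdg wdg_apply)
open Cfsg.Lib.Linear.OOTensor.Square (Three exists_three exists_three_at no_plane)
open scoped Matrix MatrixGroups

variable {F : Type*} [Field F] {k t : ℕ} {β : LinearMap.BilinForm F (Fin k → F)} {c : F}

variable {M : Type*} [AddCommGroup M] [Module F M] (hf : Fm β c)
include hf

theorem exists_scalar [Finite F] (hb : Big F k) : 5 ≤ k ∨ ∃ s : F, s ≠ 0 ∧ s * s ≠ 1 := by
  rcases hb with h | ⟨-, hq⟩
  · exact Or.inl h
  refine Or.inr ?_
  haveI := Fintype.ofFinite F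
  classical
  by_contra hcon
  push Not at hcon
  have hall : ∀ s : F, s ∈ ({0, 1, -1} : Finset F) := fun s => by
    rcases eq_or_ne s 0 with rfl | hs
    · simp
    rcases mul_self_eq_one_iff.1 (hcon s hs) with rfl | rfl <;> simp
  have hle : Fintype.card F ≤ 3 :=
    (Finset.card_le_card (fun s _ => hall s : (Finset.univ : Finset F) ⊆ _)).trans Finset.card_le_three
  rw [Nat.card_eq_fintype_card] at hq
  omega

/-- A symmetric map vanishing on the cone is a multiple of the form. -/
theorem sym_cone [Finite F] (hb : Big F k) (g : (Fin k → F) →ₗ[F] (Fin k → F) →ₗ[F] M)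
    (hs : ∀ a b, g a b = g b a) (h0 : ∀ x, qf β x = 0 → g x x = 0) :
    ∃ A : M, ∀ a b, g a b = β a b • A := by
  have C := factor_space hf
  obtain ⟨x, f, H⟩ := exists_frame hf (big_three_le hb)
  refine ⟨g x f, ?_⟩
  have hWn := H.ndeg C C.ndeg_top
  -- the expansion on the cone
  have hexp : ∀ w ∈ perp2 β ⊤ x f,
      g w w = (2 * qf β w) • g x f ∧ g f w = qf β w • g x w := by
    intro w hw
    obtain ⟨-, h1, h2⟩ := mem_perp2.1 hw
    have a1 := h0 _ (sing_shift C H h1 h2)
    have a2 := h0 _ (sing_shift C H (w := -w) (by rw [map_neg, h1, neg_zero]) (by rw [map_neg, h2, neg_zero]))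
    rw [C.neg] at a2
    simp only [map_add, map_sub, map_neg, map_smul, LinearMap.add_apply, LinearMap.sub_apply,
      LinearMap.neg_apply, LinearMap.smul_apply, smul_add, smul_sub, smul_neg, smul_smul,
      h0 x H.singE, h0 f H.singF, smul_zero, hs w f, hs w x, hs f x] at a1 a2
    constructor
    · have h4 : (2 : F) • (g w w - (2 * qf β w) • g x f) = 0 := by
        linear_combination (norm := module) a1 + a2
      exact sub_eq_zero.1 ((smul_eq_zero.1 h4).resolve_left hf.h2)
    · have h4 : (2 * 2 : F) • (g f w - qf β w • g x w) = 0 := by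
        linear_combination (norm := module) a1 - a2
      exact sub_eq_zero.1 ((smul_eq_zero.1 h4).resolve_left (mul_ne_zero hf.h2 hf.h2))
  have hmix : ∀ w ∈ perp2 β ⊤ x f, g x w = 0 ∧ g f w = 0 := by
    suffices key : ∀ w ∈ perp2 β ⊤ x f, g f w = 0 ∧ (qf β w ≠ 0 → g x w = 0) by
      intro w hw
      refine ⟨?_, (key w hw).1⟩
      by_cases hQ : qf β w = 0
      · obtain ⟨d, hd, hQd⟩ := exists_nonsing C hWn (Cfsg.Lib.Linear.OOTensor.perp_ne_bot C H
          (by simpa using big_three_le hb))
        by_cases hsum : qf β (w + d) = 0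
        · have hsub : qf β (w - d) ≠ 0 := fun h => by
            rw [sub_eq_add_neg, C.add, C.neg, hQ, map_neg] at h
            rw [C.add, hQ] at hsum
            have : (2 : F) * qf β d = 0 := by linear_combination h + hsum
            exact hQd ((mul_eq_zero.1 this).resolve_left hf.h2)
          have := (key _ (sub_mem hw hd)).2 hsub
          rw [map_sub, (key d hd).2 hQd, sub_zero] at this
          exact this
        · have := (key _ (add_mem hw hd)).2 hsum
          rw [map_add, (key d hd).2 hQd, add_zero] at this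
          exact this
      · exact (key w hw).2 hQ
    intro w hw
    rcases exists_scalar hf hb with h5 | ⟨s, hs0, hs1⟩
    · -- the space is spanned by its cone
      have hW3 : 3 ≤ finrank F (perp2 β ⊤ x f) := by
        have := H.le_finrank C
        rw [finrank_top, finrank_fintype_fun_eq_card, Fintype.card_fin] at this
        omega
      have hz : g f w = 0 := LinearMap.mem_ker.1 ((span_sing C hWn hW3).trans
        (Submodule.span_le.2 fun v hv => LinearMap.mem_ker.2 (by
          rw [(hexp v hv.1).2, hv.2, zero_smul])) hw)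
      refine ⟨hz, fun hQ => ?_⟩
      have := (hexp w hw).2
      rw [hz] at this
      exact (smul_eq_zero.1 this.symm).resolve_left hQ
    · have a1 := (hexp w hw).2
      have a2 := (hexp (s • w) (Submodule.smul_mem _ _ hw)).2
      rw [map_smul, map_smul, C.smul, smul_smul] at a2
      have a3 : (qf β w * (s * (s * s - 1))) • g x w = 0 := by
        linear_combination (norm := module) s • a1 - a2
      by_cases hQ : qf β w = 0
      · exact ⟨by rw [a1, hQ, zero_smul], fun h => absurd hQ h⟩
      have hx0 := (smul_eq_zero.1 a3).resolve_left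
        (mul_ne_zero hQ (mul_ne_zero hs0 (sub_ne_zero.2 hs1)))
      exact ⟨by rw [a1, hx0, smul_zero], fun _ => hx0⟩
  have hdiag : ∀ v, g v v = β v v • g x f := fun v => by
    obtain ⟨r, hr, e⟩ := Cfsg.Lib.Linear.OOTensor.exists_split C H v
    obtain ⟨m1, m2⟩ := hmix r hr
    obtain ⟨-, r1, r2⟩ := mem_perp2.1 hr
    conv_lhs => rw [e]
    conv_rhs => rw [e]
    simp only [map_add, map_smul, LinearMap.add_apply, LinearMap.smul_apply, h0 x H.singE,
      h0 f H.singF, (hexp r hr).1, m1, m2, hs r x, hs r f, hs f x, H.pair, H.pair' C, r1, r2,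
      C.symm r x, C.symm r f, C.self_zero H.singE, C.self_zero H.singF, C.self r, smul_zero,
      add_zero, zero_add, smul_eq_mul, mul_zero, mul_one]
    module
  intro a b
  have h1 := hdiag (a + b)
  simp only [map_add, LinearMap.add_apply, hdiag a, hdiag b, hs b a, C.symm b a] at h1
  have h4 : (2 : F) • (g a b - β a b • g x f) = 0 := by linear_combination (norm := module) h1
  exact sub_eq_zero.1 ((smul_eq_zero.1 h4).resolve_left hf.h2)

/-- An alternating map vanishing on the planes of the cone vanishes. -/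
theorem skew_cone [Finite F] (h5 : 5 ≤ k) (g : (Fin k → F) →ₗ[F] (Fin k → F) →ₗ[F] M)
    (ha : ∀ a b, g a b = -g b a)
    (h0 : ∀ x y, qf β x = 0 → qf β y = 0 → β x y = 0 → g x y = 0) : g = 0 := by
  have C := factor_space hf
  obtain ⟨x, f, H⟩ := exists_frame hf (k := k) (by omega)
  have hWn := H.ndeg C C.ndeg_top
  have hW3 : 3 ≤ finrank F (perp2 β ⊤ x f) := by
    have := H.le_finrank C
    rw [finrank_top, finrank_fintype_fun_eq_card, Fintype.card_fin] at this
    omega
  have hself : ∀ v, g v v = 0 := fun v => by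
    have h4 : (2 : F) • g v v = 0 := by linear_combination (norm := module) ha v v
    exact (smul_eq_zero.1 h4).resolve_left hf.h2
  have hfw : ∀ v ∈ perp2 β ⊤ x f, g x v = 0 ∧ g f v = 0 := fun v hv =>
    (span_sing C hWn hW3).trans ((Submodule.span_le (p := LinearMap.ker (g x) ⊓ LinearMap.ker (g f))).2
      fun u hu => Submodule.mem_inf.2 ⟨LinearMap.mem_ker.2 (h0 x u H.singE hu.2 (mem_perp2.1 hu.1).2.1),
        LinearMap.mem_ker.2 (h0 f u H.singF hu.2 (mem_perp2.1 hu.1).2.2)⟩) hv |>
      fun h => ⟨LinearMap.mem_ker.1 (Submodule.mem_inf.1 h).1, LinearMap.mem_ker.1 (Submodule.mem_inf.1 h).2⟩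
  have hpair : ∀ y z, Hyp (qf β) β (perp2 β ⊤ x f) y z → g y z = g x f := by
    intro y z G
    obtain ⟨-, y1, y2⟩ := mem_perp2.1 G.memE
    obtain ⟨-, z1, z2⟩ := mem_perp2.1 G.memF
    have hu : qf β (x + y) = 0 := by rw [C.add, H.singE, G.singE, y1]; simp
    have hv : qf β (f - z) = 0 := by
      rw [sub_eq_add_neg, C.add, C.neg, H.singF, G.singF, map_neg, z2]; simp
    have huv : β (x + y) (f - z) = 0 := by
      simp [H.pair, z1, C.symm y f, y2, G.pair]
    have h := h0 _ _ hu hv huv
    simp only [map_add, map_sub, LinearMap.add_apply, (hfw z G.memF).1, ha y f, (hfw y G.memE).2,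
      neg_zero, add_zero, sub_zero, zero_add] at h
    linear_combination (norm := module) -h
  obtain ⟨y₀, z₀, G₀⟩ := exists_pair2 hf h5 H
  have hxf : g x f = 0 := by
    have h1 := hpair _ _ G₀
    have h2 := hpair _ _ (⟨G₀.memF, G₀.memE, G₀.singF, G₀.singE, G₀.pair' C⟩ : Hyp (qf β) β _ z₀ y₀)
    rw [ha z₀ y₀, h1] at h2
    have h4 : (2 : F) • g x f = 0 := by linear_combination (norm := module) -h2
    exact (smul_eq_zero.1 h4).resolve_left hf.h2
  have hWW : ∀ y ∈ perp2 β ⊤ x f, ∀ z ∈ perp2 β ⊤ x f, g y z = 0 := by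
    intro y hy z hz
    have key : ∀ y ∈ perp2 β ⊤ x f, qf β y = 0 → ∀ z ∈ perp2 β ⊤ x f, qf β z = 0 → g y z = 0 := by
      intro y hy hQy z hz hQz
      by_cases h : β y z = 0
      · exact h0 y z hQy hQz h
      have G : Hyp (qf β) β (perp2 β ⊤ x f) y ((β y z)⁻¹ • z) :=
        ⟨hy, Submodule.smul_mem _ _ hz, hQy, by rw [C.smul, hQz, mul_zero],
          by rw [map_smul, smul_eq_mul, inv_mul_cancel₀ h]⟩
      have h1 := hpair _ _ G
      rw [map_smul, hxf] at h1
      exact (smul_eq_zero.1 h1).resolve_left (inv_ne_zero h)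
    have h1 : ∀ y ∈ perp2 β ⊤ x f, qf β y = 0 → g y z = 0 := fun y hy hQy =>
      LinearMap.mem_ker.1 ((span_sing C hWn hW3).trans
        ((Submodule.span_le (p := LinearMap.ker (g y))).2 fun u hu =>
          LinearMap.mem_ker.2 (key y hy hQy u hu.1 hu.2)) hz)
    exact LinearMap.mem_ker.1 ((span_sing C hWn hW3).trans
      ((Submodule.span_le (p := LinearMap.ker (g.flip z))).2 fun u hu =>
        LinearMap.mem_ker.2 (h1 u hu.1 hu.2)) hy)
  refine LinearMap.ext₂ fun a b => ?_
  obtain ⟨r, hr, ea⟩ := Cfsg.Lib.Linear.OOTensor.exists_split C H a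
  obtain ⟨s, hs, eb⟩ := Cfsg.Lib.Linear.OOTensor.exists_split C H b
  rw [ea, eb]
  simp [hself, hxf, ha f x, ha r x, ha r f, (hfw r hr).1, (hfw r hr).2, (hfw s hs).1, (hfw s hs).2,
    hWW r hr s hs]

omit hf
variable {l : Fin t} {K : Submodule F (Matrix (Idx k t) (Idx k t) F)}

/-- The coefficient as a bilinear map. -/
noncomputable def slotL (β : LinearMap.BilinForm F (Fin k → F)) (l : Fin t)
    (X : Matrix (Idx k t) (Idx k t) F) :
    (Fin k → F) →ₗ[F] (Fin k → F) →ₗ[F] Matrix (Idx k t) (Idx k t) F :=
  LinearMap.mk₂ F (fun a b => slot β l a b X) (fun a a' b => slot_add_left l a a' b X)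
    (fun r a b => slot_smul_left l r a b X) (fun a b b' => slot_add_right l a b b' X)
    (fun r a b => slot_smul_right l r a b X)

include hf

theorem com_of_slot {X A : Matrix (Idx k t) (Idx k t) F}
    (h : ∀ a b, slot β l a b X = β a b • A) (hA : Com l A) : Com l X := by
  have hN : β.Nondegenerate :=
    ⟨hf.nondeg, fun y h => hf.nondeg y fun x => by rw [hf.sym]; exact h x⟩
  have hc : ∀ p q, comp l X p q = if p = q then A else 0 := fun p q => by
    set b := (β.toDual hN).symm (LinearMap.proj p) with hb
    have hbv : ∀ v, β b v = v p := fun v => LinearMap.BilinForm.apply_toDual_symm_apply _ _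
    have h1 := h b (Pi.single q 1)
    simp only [slot, cov, hbv, Pi.single_apply, mul_ite, ite_mul, mul_one, mul_zero, ite_smul,
      zero_smul, one_smul, one_mul, zero_mul, Finset.sum_ite_eq', Finset.sum_ite_eq, Finset.mem_univ,
      if_true] at h1
    exact h1
  rw [← sum_comp (i := l) (Φ := X)]
  simp only [hc, mul_ite, mul_zero, Finset.sum_ite_eq, Finset.mem_univ, if_true, ← Finset.sum_mul,
    ← map_sum, sum_sg, map_one, one_mul]
  exact hA

variable (hK : LInv β l K)
include hK

theorem rk_all [Finite F] (hb : Big F k) {x : Fin k → F} (hx : qf β x = 0) (hx0 : x ≠ 0)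
    {Z : Matrix (Idx k t) (Idx k t) F} (hZ : Com l Z) (h : fa l (rk β x x) * Z ∈ K)
    {w : Fin k → F} (hw : qf β w = 0) : fa l (rk β w w) * Z ∈ K := by
  have C := factor_space hf
  have step : ∀ {x w : Fin k → F}, qf β w = 0 → β w x ≠ 0 → fa l (rk β x x) * Z ∈ K →
      fa l (rk β w w) * Z ∈ K := by
    intro x w hw hwx h
    have h1 := opE hK hf hb hw h
    rw [← mul_assoc, ← map_mul, rk_mul_rk, mul_assoc, ← (hZ _).eq, ← mul_assoc, ← map_mul,
      smul_mul_assoc, rk_mul_rk, smul_smul, map_smul, smul_mul_assoc] at h1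
    refine (K.smul_mem_iff (mul_ne_zero hwx ?_)).1 h1
    rwa [C.symm]
  rcases eq_or_ne w 0 with rfl | hw0
  · rw [show rk β (0 : Fin k → F) 0 = 0 from mat_ext fun v => by simp [rk_mulVec], map_zero, zero_mul]
    exact K.zero_mem
  by_cases hwx : β w x ≠ 0
  · exact step hw hwx h
  push Not at hwx
  obtain ⟨f, H⟩ := exists_hyp_at hf hx hx0
  have hf' := step H.singF (by rw [H.pair' C]; exact one_ne_zero) h
  by_cases hwf : β w f ≠ 0
  · exact step hw hwf hf'
  push Not at hwf
  obtain ⟨u, G⟩ := exists_hyp C (H.ndeg C C.ndeg_top) (U := perp2 β ⊤ x f)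
    (mem_perp2.2 ⟨trivial, by rw [C.symm]; exact hwx, by rw [C.symm]; exact hwf⟩) hw0 hw
  obtain ⟨-, u1, u2⟩ := mem_perp2.1 G.memF
  have hy : qf β (f + u) = 0 := by rw [C.add, H.singF, G.singF, u2]; simp
  refine step (x := f + u) hw (by rw [map_add, hwf, G.pair, zero_add]; exact one_ne_zero)
    (step (x := x) hy ?_ h)
  rw [map_add, LinearMap.add_apply, H.pair' C, C.symm u x, u1, add_zero]
  exact one_ne_zero

theorem wd_all [Finite F] (hb : Big F k) {x y : Fin k → F} (hne : wd β x y ≠ 0)
    {Z : Matrix (Idx k t) (Idx k t) F} (hZ : Com l Z) (h : fa l (wd β x y) * Z ∈ K)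
    (a b : Fin k → F) : fa l (wd β a b) * Z ∈ K := by
  have C := factor_space hf
  obtain ⟨x₀, f₀, H⟩ := exists_frame hf (big_three_le hb)
  let Φ : Submodule F (Module.End F (Fin k → F)) :=
    { carrier := {T | (∀ a b, β (T a) b = -β a (T b)) ∧ fa l (LinearMap.toMatrix' T) * Z ∈ K}
      add_mem' := fun {S T} hS hT => ⟨fun a b => by simp [hS.1, hT.1]; ring,
        by rw [map_add, map_add, add_mul]; exact K.add_mem hS.2 hT.2⟩
      zero_mem' := ⟨fun a b => by simp, by simp⟩
      smul_mem' := fun r T hT => ⟨fun a b => by simp [hT.1],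
        by rw [map_smul, map_smul, smul_mul_assoc]; exact K.smul_mem r hT.2⟩ }
  have hwd : ∀ a b, LinearMap.toMatrix' (wdg β a b) = wd β a b := fun a b => mat_ext fun v => by
    rw [LinearMap.toMatrix'_mulVec, wd_mulVec, wdg_apply]
  have hsk : ∀ a b u v, β (wdg β a b u) v = -β u (wdg β a b v) := fun a b u v => by
    simp [wdg_apply, C.symm u a, C.symm u b, C.symm b v, C.symm a v]
    ring
  have hinv : Inv (qf β) β Φ := fun u a hu hua T hT => by
    have hg := sGL_mem C hu hua
    refine ⟨fun v w => ?_, ?_⟩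
    · rw [cj_apply (X := T), cj_apply (X := T), C.B_act_left hg, hT.1,
        ← C.B_act hg (((sGL (qf β) β u a)⁻¹ : GL (Fin k) F).val *ᵥ v), act_inv]
    · have h1 := conj_mem hK hu hua hT.2
      rw [mul_assoc, mul_assoc, ← (hZ _).eq, ← mul_assoc, ← mul_assoc, ← map_mul, ← map_mul] at h1
      rw [show LinearMap.toMatrix' (cj (sGL (qf β) β u a) T) = (sGL (qf β) β u a).val *
          LinearMap.toMatrix' T * ((sGL (qf β) β u a)⁻¹ : GL (Fin k) F).val from
        mat_ext fun v => by
          simp [LinearMap.toMatrix'_mulVec, cj_apply, ← Matrix.mulVec_mulVec]]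
      exact h1
  have hU : 5 ≤ Fintype.card (Fin k) ∨
      ∀ a b, qf β a = 0 → qf β b = 0 → β a b = 0 → a ≠ 0 → b ∈ Submodule.span F {a} := by
    rcases hb with h5 | ⟨h3, -⟩
    · exact Or.inl (by simpa using h5)
    · exact Or.inr fun a b ha hb hab ha0 => no_plane C hf.h2 (by simpa using h3) ha hb hab ha0
  have hfull := Cfsg.Lib.Linear.OOTensor.skew_full C hf.h2 H (by simpa using big_three_le hb) hU
    (Φ := Φ) (fun T hT => hT.1) hinv
    ⟨wdg β x y, ⟨hsk x y, by rw [hwd]; exact h⟩, fun e => hne (by rw [← hwd, e, map_zero])⟩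
    (hsk a b)
  have := hfull.2
  rwa [hwd] at this

/-- A piece of the factor. -/
theorem dichotomy [Finite F] (hb : Big F k) {X : Matrix (Idx k t) (Idx k t) F} (hX : X ∈ K) :
    Com l X ∨ ∃ Z, Com l Z ∧ Z ≠ 0 ∧
      ((∀ w, qf β w = 0 → fa l (rk β w w) * Z ∈ K) ∨ ∀ a b, fa l (wd β a b) * Z ∈ K) := by
  have C := factor_space hf
  by_contra hcon
  push Not at hcon
  obtain ⟨hnc, hno⟩ := hcon
  have hxx : ∀ x, qf β x = 0 → slot β l x x X = 0 := fun x hx => by
    rcases eq_or_ne x 0 with rfl | hx0
    · rw [show (0 : Fin k → F) = (0 : F) • 0 by simp, slot_smul_left, zero_smul]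
    by_contra hne
    obtain ⟨⟨w, hw, hw'⟩, -⟩ := hno _ (slot_com l x x X) hne
    refine hw' (rk_all hf hK hb hx hx0 (slot_com l x x X) ?_ hw)
    rw [← sandwich]
    exact opE hK hf hb hx hX
  obtain ⟨A, hA⟩ := sym_cone hf hb (slotL β l X + (slotL β l X).flip)
    (fun a b => by simp [add_comm]) fun x hx => by simp [slotL, hxx x hx]
  simp only [LinearMap.add_apply, LinearMap.flip_apply, slotL, LinearMap.mk₂_apply] at hA
  let σ := slotL β l X - (slotL β l X).flip
  have hσa : ∀ a b, σ a b = -σ b a := fun a b => by simp [σ]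
  have hσ0 : σ = 0 := by
    have hwN : ∀ {x y : Fin k → F}, qf β x = 0 → β x y = 0 → wd β x y ≠ 0 →
        fa l (wd β x y) * slot β l x y X ∈ K → slot β l x y X = 0 := by
      intro x y _ _ hne h
      by_contra h0
      obtain ⟨-, a, b, hab⟩ := hno _ (slot_com l x y X) h0
      exact hab (wd_all hf hK hb hne (slot_com l x y X) h a b)
    rcases hb with h5 | ⟨h3, hq⟩
    · refine skew_cone hf h5 σ hσa fun x y hx hy hxy => ?_
      have hyx : slot β l y x X = -slot β l x y X := by
        have := hA x y
        rw [hxy, zero_smul] at this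
        exact eq_neg_of_add_eq_zero_right this
      suffices slot β l x y X = 0 by simp [σ, slotL, hyx, this]
      rcases eq_or_ne (wd β x y) 0 with h0 | hne
      · -- dependent vectors
        rcases eq_or_ne x 0 with rfl | hx0
        · rw [show (0 : Fin k → F) = (0 : F) • 0 by simp, slot_smul_left, zero_smul]
        obtain ⟨f, H⟩ := exists_hyp_at hf hx hx0
        have h1 := congrArg (fun M => M *ᵥ f) h0
        simp only [wd_mulVec, H.pair, one_smul, Matrix.zero_mulVec, sub_eq_zero] at h1
        rw [h1, slot_smul_right, hxx x hx, smul_zero]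
      refine hwN hx hxy hne ?_
      have h1 := op_long hK hf hx hy hxy hX
      have e : fa l (wd β x y) * X * fa l (wd β x y) = fa l (wd β x y) * slot β l x y X := by
        simp only [wd, map_sub, sub_mul, mul_sub, sandwich, hxx x hx, hxx y hy, hyx, mul_zero, sub_zero,
          zero_sub, mul_neg, neg_neg]
      rwa [e] at h1
    · have hcard : Fintype.card (Fin k) = 3 := by simpa using h3
      have hD : ∀ {x f e : Fin k → F}, Three β x f e → slot β l e x X = -slot β l x e X := fun D => by
        refine eq_neg_of_add_eq_zero_right ?_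
        rw [hA, D.xe, zero_smul]
      have hpair : ∀ {x f e : Fin k → F}, Three β x f e → σ x e = 0 := by
        intro x f e D
        suffices slot β l x e X = 0 by simp [σ, slotL, hD D, this]
        refine hwN D.hyp.singE D.xe (fun h0 => D.ns ?_) ?_
        · have h1 := congrArg (fun M => M *ᵥ f) h0
          simp only [wd_mulVec, D.hyp.pair, D.ef, one_smul, zero_smul, sub_zero, Matrix.zero_mulVec] at h1
          rw [h1, D.C.zero]
        have h2 := (op_poly hK hf hq D.hyp.singE D.xe hX).2
        have h1 : (1 : Matrix (Fin k) (Fin k) F) =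
            rk β x f + rk β f x + (β e e)⁻¹ • rk β e e := mat_ext fun v => by
          rw [Matrix.one_mulVec, Matrix.add_mulVec, Matrix.add_mulVec, Matrix.smul_mulVec, rk_mulVec,
            rk_mulVec, rk_mulVec, smul_smul, inv_mul_eq_div]
          exact D.expand v
        have hsum : slot β l f x X + slot β l x f X = A := by
          have := hA f x
          rwa [D.hyp.pair' C, one_smul] at this
        have hee : slot β l e e X = qf β e • A := by
          have := hA e e
          rw [C.self, ← two_smul F, mul_smul] at this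
          exact (smul_right_injective _ hf.h2) this
        have e1 : fa l (rk β x x) * X = fa l (rk β x x) * slot β l x f X
            + (β e e)⁻¹ • (fa l (rk β x e) * slot β l x e X) := by
          conv_lhs => rw [← mul_one (fa l (rk β x x) * X), ← map_one (fa l), h1]
          simp [map_add, map_smul, mul_add, mul_smul_comm, sandwich, hxx x D.hyp.singE, add_comm]
        have e2 : X * fa l (rk β x x) = fa l (rk β x x) * slot β l f x X
            - (β e e)⁻¹ • (fa l (rk β e x) * slot β l x e X) := by
          conv_lhs => rw [← one_mul X, ← map_one (fa l), h1]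
          simp [map_add, map_smul, add_mul, smul_mul_assoc, sandwich, hxx x D.hyp.singE, hD D,
            sub_eq_add_neg]
        have e3 : fa l (wd β x e) * X * fa l (wd β x e) = fa l (wd β x e) * slot β l x e X
            - fa l (rk β x x) * slot β l e e X := by
          simp only [wd, map_sub, sub_mul, mul_sub, sandwich, hxx x D.hyp.singE, hD D, mul_zero,
            sub_zero, mul_neg]
          abel
        rw [e3, smul_add, e1, e2, hee] at h2
        have hq2 : qf β e * (β e e)⁻¹ = (2 : F)⁻¹ := by
          rw [C.self]; field_simp [D.ns]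
        rw [← hsum] at h2
        refine (K.smul_mem_iff (inv_ne_zero hf.h2)).1 ?_
        convert h2 using 1
        rw [wd, map_sub, sub_mul]
        simp only [mul_smul_comm, smul_add, smul_sub, smul_smul, mul_add, hq2]
        have h22 : (2 : F)⁻¹ + (2 : F)⁻¹ = 1 := by rw [← two_mul, mul_inv_cancel₀ hf.h2]
        match_scalars <;> field_simp [hf.h2] <;> ring
      obtain ⟨x, f, H⟩ := exists_frame hf (k := k) (by omega)
      obtain ⟨e, D⟩ := exists_three C hf.h2 hcard H
      have h1 := hpair D
      have h2 : σ f e = 0 := hpair (x := f) (f := x) (e := e)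
        ⟨D.C, D.h2, D.card, ⟨trivial, trivial, H.singF, H.singE, H.pair' C⟩,
          mem_perp2.2 ⟨trivial, D.fe, D.xe⟩, D.ns, fun r hr => D.line r
            (mem_perp2.2 ⟨trivial, (mem_perp2.1 hr).2.2, (mem_perp2.1 hr).2.1⟩)⟩
      set q := qf β e
      set z := f + e - q • x with hz
      set e' := e - (2 * q) • x with he'
      have hzs : qf β z = 0 := sing_shift C H D.xe D.fe
      have hQe' : qf β e' = q := by
        rw [he', sub_eq_add_neg, ← neg_smul, C.add, C.smul, H.singE, map_smul, D.ex]
        simp [q]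
      have Hz : Hyp (qf β) β ⊤ z x :=
        ⟨trivial, trivial, hzs, H.singE, by simp [hz, H.pair' C, D.ex, D.xx]⟩
      obtain ⟨e₂, D₂⟩ := exists_three C hf.h2 hcard Hz
      have hmem : e' ∈ perp2 β ⊤ z x := mem_perp2.2 ⟨trivial, by
        simp [hz, he', D.fe, D.xe, D.ex, D.xx, H.pair' C, D.ee, C.self, q], by
        simp [he', D.xe, D.xx]⟩
      have h3' : σ z e' = 0 := by
        rw [D₂.line e' hmem, map_smul, hpair D₂, smul_zero]
      have hself : ∀ v, σ v v = 0 := fun v => by
        have h4 : (2 : F) • σ v v = 0 := by linear_combination (norm := module) hσa v v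
        exact (smul_eq_zero.1 h4).resolve_left hf.h2
      have hxf : σ f x = 0 := by
        simp only [hz, he', map_add, map_sub, map_smul, LinearMap.add_apply, LinearMap.sub_apply,
          LinearMap.smul_apply, h1, h2, hself, hσa e x, smul_zero, neg_zero, sub_zero, add_zero,
          zero_sub, neg_eq_zero] at h3'
        exact (smul_eq_zero.1 h3').resolve_left (mul_ne_zero hf.h2 D.ns)
      refine LinearMap.ext₂ fun a b => ?_
      rw [D.expand a, D.expand b]
      simp [hself, h1, h2, hxf, hσa e x, hσa e f, hσa x f]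
  refine hnc (com_of_slot hf (l := l) (A := (2 : F)⁻¹ • A) (fun a b => ?_) ?_)
  · have h1 := hA a b
    have h2 := LinearMap.congr_fun₂ hσ0 a b
    simp only [σ, slotL, LinearMap.sub_apply, LinearMap.flip_apply, LinearMap.mk₂_apply,
      LinearMap.zero_apply] at h2
    rw [smul_comm, ← h1, sub_eq_zero.1 h2, ← two_smul F, smul_smul, inv_mul_cancel₀ hf.h2, one_smul]
  · obtain ⟨x, f, H⟩ := exists_frame hf (k := k) (big_three_le hb)
    have h1 := hA x f
    rw [H.pair, one_smul] at h1
    rw [← h1]
    exact ((slot_com l x f X).add (slot_com l f x X)).smul _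

end Cfsg.Lib.Linear.OTPow
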