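import Cfsg.Agent.Lib.Linear.OOTensor.Full

/-!
# All long elements give all Siegel elements of the product space

The Siegel elements of the first factor need not be assumed in the group.
-/

set_option autoImplicit false
set_option linter.unusedSectionVars false
set_option linter.unusedSimpArgs false

namespace Cfsg.Lib.Linear.OTPow

open Module
open scoped Matrix
open Cfsg.Lib.Linear.Orth
open Cfsg.Lib.Linear.OOTensor
open Cfsg.Lib.Linear.SpTensor (InA)

variable {ι κ μ : Type} [Fintype ι] [DecidableEq ι] [Fintype κ] [DecidableEq κ] [Fintype μ]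
  [DecidableEq μ] {F : Type*} [Field F] {Q : (ι → F) → F} {B : LinearMap.BilinForm F (ι → F)}
  {α : LinearMap.BilinForm F (κ → F)} {β : LinearMap.BilinForm F (μ → F)}
  {τ : (κ → F) →ₗ[F] (μ → F) →ₗ[F] (ι → F)} {L : Subgroup (GL ι F)} (T : Ten Q B α β τ)
include T

/-- All long elements give the whole group. -/
theorem root_of_long [Finite F] (hm : 3 ≤ Fintype.card κ) (hk : 3 ≤ Fintype.card μ) (hL : L ≤ isometryGroup F Q)
    (hlong : ∀ {x : μ → F}, qf β x = 0 → x ≠ 0 → ∀ {φ : Module.End F (κ → F)},
      (∀ a b, α (φ a) b = -α a (φ b)) → InA L (T.long x φ)) :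
    Root Q B ⊤ ≤ L := by
  have C := T.space
  have hpair : ∀ a b x, qf β x = 0 → sGL Q B (τ a x) (τ b x) ∈ L := fun a b x hx => by
    rcases eq_or_ne x 0 with rfl | hx0
    · rw [map_zero, map_zero, SpTensor.sGL_zero_left C]
      exact L.one_mem
    refine SpTensor.sGL_mem_of_inA C (T.sing a hx) (T.sing b hx)
      (by rw [T.pair, T.qf_zero.1 hx, mul_zero])
      (hlong hx hx0 (φ := wdg α a b) fun c d => ?_) fun v => ?_
    · simp only [wdg_apply, map_sub, map_smul, LinearMap.sub_apply, LinearMap.smul_apply,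
        smul_eq_mul, T.sα c a, T.sα c b]
      ring
    · rw [T.long_apply, wdg_apply, T.α_ctr', T.α_ctr', map_sub, map_smul, map_smul,
        LinearMap.sub_apply, LinearMap.smul_apply, LinearMap.smul_apply]
  -- the parameters available at one centre
  let P : ∀ (c : κ → F) (z : μ → F), qf β z = 0 → Submodule F (ι → F) := fun c z hz =>
    { carrier := {w | B (τ c z) w = 0 ∧ ∀ t : F, sGL Q B (τ c z) (t • w) ∈ L}
      add_mem' := fun {w w'} h h' => ⟨by rw [map_add, h.1, h'.1, add_zero], fun t => by
        rw [smul_add, ← sGL_mul C (T.sing c hz) (by rw [map_smul, h.1, smul_zero])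
          (by rw [map_smul, h'.1, smul_zero])]
        exact mul_mem (h.2 t) (h'.2 t)⟩
      zero_mem' := ⟨map_zero _, fun t => by
        rw [smul_zero, SpTensor.sGL_zero_right C (T.sing c hz)]; exact L.one_mem⟩
      smul_mem' := fun t w h => ⟨by rw [map_smul, h.1, smul_zero], fun t' => by
        rw [smul_smul]; exact h.2 _⟩ }
  have hline : ∀ c d z (hz : qf β z = 0), τ d z ∈ P c z hz := fun c d z hz =>
    ⟨by rw [T.pair, T.qf_zero.1 hz, mul_zero], fun t => by
      rw [← LinearMap.smul_apply, ← map_smul]; exact hpair c _ z hz⟩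
  have hmove : ∀ {c z} (hz : qf β z = 0) {h : GL ι F}, h ∈ L → h.val *ᵥ τ c z = τ c z →
      ∀ {v}, v ∈ P c z hz → h.val *ᵥ v - v ∈ P c z hz := fun {c z} hz {h} hh hfix {v} hv => by
    refine Submodule.sub_mem _ ⟨by rw [← hfix, C.B_act (hL hh)]; exact hv.1, fun t => ?_⟩ hv
    rw [← hfix, ← Matrix.mulVec_smul, ← sGL_conj C (T.sing c hz) (by rw [map_smul, hv.1, smul_zero])
      (hL hh)]
    exact mul_mem (mul_mem hh (hv.2 t)) (inv_mem hh)
  have hperp : ∀ {c : κ → F} {z : μ → F} (hz : qf β z = 0), c ≠ 0 → z ≠ 0 →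
      ∀ b, α c b = 0 → ∀ w, τ b w ∈ P c z hz := by
    intro c z hz hc hz0 b hb w
    obtain ⟨f, H⟩ := exists_hyp T.SW T.SW.ndeg_top trivial hz0 hz
    have key : ∀ x, qf β x = 0 → β x z = 1 → τ b x ∈ P c z hz := by
      intro x hx hxz
      rcases eq_or_ne b 0 with rfl | hb0
      · rw [map_zero, LinearMap.zero_apply]; exact Submodule.zero_mem _
      obtain ⟨a, hca, hab⟩ : ∃ a, α c a = 0 ∧ a ∉ Submodule.span F {b} := by
        by_contra hcon
        push Not at hcon
        have h1 := (Submodule.finrank_mono (show LinearMap.ker (α c) ≤ Submodule.span F {b} from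
          fun a ha => hcon a ha)).trans (finrank_span_singleton hb0).le
        have h2 := LinearMap.finrank_range_add_finrank_ker (α c)
        have h3 : finrank F (LinearMap.range (α c)) ≤ 1 :=
          (Submodule.finrank_le _).trans (Module.finrank_self F).le
        rw [finrank_fintype_fun_eq_card] at h2
        have := hm
        omega
      obtain ⟨g, hg, hgb⟩ := Submodule.exists_dual_map_eq_bot_of_notMem hab inferInstance
      set d := (α.toDual T.nα').symm ((g a)⁻¹ • g) with hd
      have hda : ∀ e, α e d = (g a)⁻¹ * g e := fun e => by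
        rw [T.sα, hd, LinearMap.BilinForm.apply_toDual_symm_apply]; rfl
      have hbd : α b d = 0 := by
        have h1 : g b ∈ (Submodule.span F {b}).map g :=
          ⟨b, Submodule.mem_span_singleton_self b, rfl⟩
        rw [hgb, Submodule.mem_bot] at h1
        rw [hda, h1, mul_zero]
      have had : α a d = 1 := by rw [hda, inv_mul_cancel₀ hg]
      have h0 : B (τ a x) (τ b x) = 0 := by rw [T.pair, T.qf_zero.1 hx, mul_zero]
      have h1 : (sGL Q B (τ a x) (τ b x)).val *ᵥ τ c z = τ c z := by
        rw [sGL_act C (T.sing a hx) h0, T.sing b hx, T.pair, T.pair, T.sα a, T.sα b, hca, hb]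
        simp
      have h2 := hmove hz (hpair a b x hx) h1 (hline c d z hz)
      rw [sGL_act C (T.sing a hx) h0, T.sing b hx, T.pair, T.pair, had, hbd, hxz] at h2
      simpa using h2
    obtain ⟨r, hr, ew⟩ := exists_split T.SW H w
    obtain ⟨-, hr1, hr2⟩ := mem_perp2.1 hr
    have hf : τ b f ∈ P c z hz := key f H.singF (H.pair' T.SW)
    have hr' : τ b (f + r + (-qf β r) • z) ∈ P c z hz := by
      refine key _ ?_ ?_
      · rw [T.SW.add, T.SW.add, T.SW.smul, hz, H.singF, map_add, LinearMap.add_apply, map_smul (β f),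
          map_smul (β r), H.pair' T.SW, T.sβ r z, hr1, hr2]
        simp
      · simp [H.pair' T.SW, T.sβ r z, hr1, T.qf_zero.1 hz]
    have hr'' : τ b r ∈ P c z hz := by
      have := Submodule.sub_mem _ (Submodule.sub_mem _ hr' hf)
        (Submodule.smul_mem _ (-qf β r) (hline c b z hz))
      convert this using 1
      simp only [map_add, map_smul]
      module
    rw [ew, map_add, map_add, map_smul, map_smul]
    exact add_mem (add_mem (Submodule.smul_mem _ _ (hline c b z hz)) (Submodule.smul_mem _ _ hf)) hr''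
  have hfull : ∀ {c : κ → F} {z : μ → F} (hz : qf β z = 0), c ≠ 0 → z ≠ 0 →
      ∀ w, B (τ c z) w = 0 → sGL Q B (τ c z) w ∈ L := by
    intro c z hz hc hz0 w hw
    obtain ⟨f, H⟩ := exists_hyp T.SW T.SW.ndeg_top trivial hz0 hz
    obtain ⟨c', hc'⟩ := T.SU.exists_pair hc
    have key : ∀ a x, qf β x = 0 → β z x = 0 → τ a x ∈ P c z hz := by
      intro a x hx hzx
      rcases eq_or_ne x 0 with rfl | hx0
      · rw [map_zero]; exact Submodule.zero_mem _
      rcases eq_or_ne a 0 with rfl | ha0
      · rw [map_zero, LinearMap.zero_apply]; exact Submodule.zero_mem _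
      obtain ⟨e, he, he0⟩ : ∃ e, e ∈ perp2 α ⊤ a c ∧ e ≠ 0 := by
        refine Submodule.exists_mem_ne_zero_of_ne_bot fun h => ?_
        have h1 := LinearMap.finrank_range_add_finrank_ker ((α a).prod (α c))
        have h2 := Submodule.finrank_le (LinearMap.range ((α a).prod (α c)))
        have h3 : LinearMap.ker ((α a).prod (α c)) = perp2 α ⊤ a c := by
          rw [LinearMap.ker_prod, perp2, top_inf_eq]
        rw [h3, h, finrank_bot, finrank_fintype_fun_eq_card] at h1
        rw [Module.finrank_prod, Module.finrank_self] at h2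
        have := hm
        omega
      obtain ⟨-, hae, hce⟩ := mem_perp2.1 he
      obtain ⟨d, hed⟩ := T.SU.exists_pair he0
      have h0 : B (τ a x) (τ e f) = 0 := by rw [T.pair, hae, zero_mul]
      have hmem : sGL Q B (τ a x) (τ e f) ∈ L := by
        simpa using (hperp hx ha0 hx0 e hae f).2 1
      have h1 : (sGL Q B (τ a x) (τ e f)).val *ᵥ τ c z = τ c z := by
        rw [sGL_act C (T.sing a hx) h0, T.pair, T.pair, T.sβ x z, hzx, T.sα e c, hce]
        simp
      have h2 := hmove hz hmem h1 (hline c d z hz)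
      rw [sGL_act C (T.sing a hx) h0, T.pair, T.pair, T.sβ x z, hzx, hed, H.pair' T.SW] at h2
      simpa using h2
    have hW : ∀ a, perp2 β ⊤ z f ≤ (P c z hz).comap (τ a) := fun a r hr => by
      show τ a r ∈ P c z hz
      obtain ⟨-, hzr, hfr⟩ := mem_perp2.1 hr
      obtain ⟨e', he', he'0⟩ : ∃ e' ∈ LinearMap.ker (α c), e' ≠ 0 := by
        refine Submodule.exists_mem_ne_zero_of_ne_bot fun h => ?_
        have h1 := LinearMap.finrank_range_add_finrank_ker (α c)
        have h2 := (Submodule.finrank_le (LinearMap.range (α c))).trans (Module.finrank_self F).le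
        rw [h, finrank_bot, finrank_fintype_fun_eq_card] at h1
        omega
      have hce' : α c e' = 0 := he'
      obtain ⟨e, hee⟩ := T.SU.exists_pair he'0
      have hb : ∀ b, α e b = 0 → τ b r ∈ P c z hz := fun b hb => by
        have he0 : e ≠ 0 := fun h => by rw [h, map_zero] at hee; exact zero_ne_one hee
        have h0 : B (τ e z) (τ b r) = 0 := by rw [T.pair, hzr, mul_zero]
        have hmem : sGL Q B (τ e z) (τ b r) ∈ L := by simpa using (hperp hz he0 hz0 b hb r).2 1
        have h1 : (sGL Q B (τ e z) (τ b r)).val *ᵥ τ c z = τ c z := by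
          rw [sGL_act C (T.sing e hz) h0, T.pair, T.pair, T.qf_zero.1 hz, T.sβ r z, hzr]
          simp
        have h2 := hmove hz hmem h1 (hperp hz hc hz0 e' hce' f)
        rw [sGL_act C (T.sing e hz) h0, T.pair, T.pair, H.pair, T.sα e e', hee, one_mul, one_smul] at h2
        have h3 := Submodule.add_mem _ h2 (Submodule.smul_mem _
          (α b e' * β r f + Q (τ b r) * 1) (hline c e z hz))
        convert h3 using 1
        abel
      have ea : a = (a - α e a • e') + α e a • e' := by abel
      rw [ea, map_add, LinearMap.add_apply, map_smul, LinearMap.smul_apply]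
      refine add_mem (hb _ ?_) (Submodule.smul_mem _ _ (hperp hz hc hz0 e' hce' r))
      rw [map_sub, map_smul, T.sα e e', hee, smul_eq_mul, mul_one, sub_self]
    let M : (ι → F) →ₗ[F] (ι → F) := LinearMap.id - (B (τ c z)).smulRight (τ c' f)
    have hM : (⊤ : Submodule F (ι → F)) ≤ (P c z hz).comap M := by
      rw [← T.span, Submodule.span_le]
      rintro _ ⟨⟨a, x⟩, rfl⟩
      show M (τ a x) ∈ P c z hz
      obtain ⟨r, hr, ex⟩ := exists_split T.SW H x
      have e : M (τ a x) = β f x • τ a z + β z x • τ (a - α c a • c') f + τ a r := by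
        have : τ a x = β f x • τ a z + β z x • τ a f + τ a r := by
          conv_lhs => rw [ex]
          simp only [map_add, map_smul]
        simp only [M, LinearMap.sub_apply, LinearMap.id_apply, LinearMap.smulRight_apply, T.pair,
          map_sub, map_smul, LinearMap.smul_apply]
        rw [this]
        module
      rw [e]
      refine add_mem (add_mem (Submodule.smul_mem _ _ (hline c a z hz))
        (Submodule.smul_mem _ _ (hperp hz hc hz0 _ ?_ f))) (hW a hr)
      simp [hc']
    have h1 : M w ∈ P c z hz := hM trivial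
    rw [show M w = w by simp [M, hw]] at h1
    simpa using h1.2 1
  obtain ⟨z, f, H⟩ := exists_hyp' T.SW T.SW.ndeg_top (by
    rw [finrank_top, finrank_fintype_fun_eq_card]; have := hk; omega)
  obtain ⟨c, hc⟩ := T.exists_aniso_left (by have := hm; omega)
  have hc0 : c ≠ 0 := fun e => hc (by simp [e])
  obtain ⟨c', hc'⟩ := T.SU.exists_pair hc0
  have hc'0 : c' ≠ 0 := fun e => by simp [e] at hc'
  have hz0 : z ≠ 0 := fun e => by simpa [e] using H.pair
  have hf0 : f ≠ 0 := fun e => by simpa [e] using H.pair
  exact SpTensor.root_le_of_two C hL (T.sing c H.singE) (T.sing c' H.singF)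
    (by rw [T.pair, hc', H.pair, one_mul]) (fun w hw => hfull H.singE hc0 hz0 w hw)
    fun w hw => hfull H.singF hc'0 hf0 w hw

end Cfsg.Lib.Linear.OTPow
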