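import Cfsg.Agent.Lib.Linear.OTPow.Pieces
import Cfsg.Agent.Lib.Linear.OTPow.RootLong

/-!
# The coefficients of long elements

The coefficients available at a singular vector of a factor contain a line as soon as they are not
all zero, and those forming lines are the same at every vector.
-/

set_option autoImplicit false
set_option linter.unusedSectionVars false
set_option linter.unusedSimpArgs false

namespace Cfsg.Lib.Linear.OTPow

open Module Cfsg.Geo Cfsg.Lib.Linear.AschGen Cfsg.Lib.Linear.TWreath Cfsg.Lib.Linear.Orth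
open Cfsg.Lib.Linear.OOTensor (qf)
open Cfsg.Lib.Linear.SpTensor (InA)
open Cfsg.Lib.Linear.OOTensor.Square (exists_three_at)
open scoped Matrix MatrixGroups

variable {F : Type*} [Field F] {k t : ℕ} {β : LinearMap.BilinForm F (Fin k → F)} {c : F}
  {G : Subgroup (GL (Idx k (t + 1)) F)}

variable (β) in
/-- The long element with the given centre and coefficient lies in the group. -/
def InL (G : Subgroup (GL (Idx k (t + 1)) F)) (i : Fin (t + 1)) (x : Fin k → F)
    (φ : Matrix (Idx k t) (Idx k t) F) : Prop :=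
  InM G (1 + fa i (rk β x x) * psi i φ)

theorem InL.zero (i : Fin (t + 1)) (x : Fin k → F) : InL β G i x 0 :=
  ⟨1, G.one_mem, by simp⟩

theorem InL.smul_vec {i : Fin (t + 1)} {x : Fin k → F} {φ : Matrix (Idx k t) (Idx k t) F} (r : F) :
    InL β G i (r • x) φ ↔ InL β G i x ((r * r) • φ) := by
  rw [InL, InL, rk_smul_left, rk_smul_right, smul_smul, map_smul, map_smul, smul_mul_assoc,
    mul_smul_comm]

variable (hf : Fm β c)
include hf

/-- No long element for the splitting lies in the group. -/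
def Lose (G : Subgroup (GL (Idx k (t + 1)) F)) (i : Fin (t + 1)) : Prop :=
  OOTensor.Losing (split hf i) G

theorem inL_iff {i : Fin (t + 1)} {x : Fin k → F} {φ : Matrix (Idx k t) (Idx k t) F} :
    InL β G i x φ ↔ InA G ((split hf i).long x (Matrix.mulVecLin φ)) := by
  constructor
  · rintro ⟨g, hg, hgv⟩
    exact ⟨g, hg, fun v => by rw [hgv, Matrix.add_mulVec, Matrix.one_mulVec, long_eq hf]⟩
  · rintro ⟨g, hg, hgv⟩
    exact ⟨g, hg, mat_ext fun v => by rw [hgv, Matrix.add_mulVec, Matrix.one_mulVec, long_eq hf]⟩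

theorem exists_inL {i : Fin (t + 1)} (hw : ¬ Lose hf G i) :
    ∃ x φ, qf β x = 0 ∧ x ≠ 0 ∧ InL β G i x φ ∧ φ ≠ 0 := by
  simp only [Lose, OOTensor.Losing, not_forall] at hw
  obtain ⟨x, φ, hx, hx0, h, hne⟩ := hw
  refine ⟨x, LinearMap.toMatrix' φ, hx, hx0, (inL_iff hf).2 (h.congr fun v => ?_), fun e => hne ?_⟩
  · simp only [(split hf i).long_apply, Matrix.mulVecLin_apply, LinearMap.toMatrix'_mulVec]
  · exact LinearMap.toMatrix'.injective (by rw [e, map_zero])

theorem InL.sub {i : Fin (t + 1)} {x : Fin k → F} (hx : qf β x = 0)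
    {φ ψ : Matrix (Idx k t) (Idx k t) F} (h : InL β G i x φ) (h' : InL β G i x ψ) :
    InL β G i x (φ - ψ) := by
  have h0 : ∀ φ ψ : Matrix (Idx k t) (Idx k t) F,
      fa i (rk β x x) * psi i φ * (fa i (rk β x x) * psi i ψ) = 0 := fun φ ψ => by
    rw [mul_assoc, ← mul_assoc (psi i φ), ← (com_psi i φ _).eq, mul_assoc, ← mul_assoc, ← map_mul,
      rk_mul_rk, (factor_space hf).self_zero hx, zero_smul, map_zero, zero_mul]
  have h1 := h.mul (h'.neg (h0 ψ ψ))
  rw [InL, map_sub, mul_sub]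
  convert h1 using 1
  rw [add_mul, mul_sub, mul_sub, one_mul, one_mul, mul_one, h0]
  abel

theorem InL.add {i : Fin (t + 1)} {x : Fin k → F} (hx : qf β x = 0)
    {φ ψ : Matrix (Idx k t) (Idx k t) F} (h : InL β G i x φ) (h' : InL β G i x ψ) :
    InL β G i x (φ + ψ) := by
  have h1 := InL.sub hf hx h (InL.sub hf hx (InL.zero i x) h')
  simpa using h1

theorem InL.skw (hle : G ≤ isometryGroup F (qT β c (t + 1))) {i : Fin (t + 1)} {x : Fin k → F}
    (hx : qf β x = 0) (hx0 : x ≠ 0) {φ : Matrix (Idx k t) (Idx k t) F} (h : InL β G i x φ) :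
    Skw β c φ := fun a b => by
  simpa using OOTensor.long_skew (split hf i) hle hx hx0 ((inL_iff hf).1 h) a b

theorem InL.conj {i : Fin (t + 1)} {x : Fin k → F} {φ : Matrix (Idx k t) (Idx k t) F}
    (h : InL β G i x φ) {a : GL (Fin k) F} (ha : a ∈ isometryGroup F (qf β)) {Y : GL (Idx k t) F}
    (hg : fu i a * psiU i Y ∈ G) : InL β G i (a.val *ᵥ x) (conjA Y φ) := by
  have h1 := InM.conj h hg
  rw [map_add, map_one, map_mul] at h1
  rw [conjA_mul, conjA_mul, conjA_psiU, conjA_fu_com (com_psi i _)] at h1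
  have e : conjA (psiU i Y) (fa i (rk β x x)) = fa i (rk β x x) := by
    rw [conjA_apply, psiU_val, ← map_inv, psiU_val, ← (com_psi _ _ _).eq, mul_assoc, ← map_mul,
      Units.mul_inv, map_one, mul_one]
  rwa [e, acts_fu, conj_rk hf one_ne_zero (iso_sim hf ha), inv_one, one_smul] at h1

omit hf in
/-- The coefficients forming lines. -/
def LineIn (β : LinearMap.BilinForm F (Fin k → F)) (G : Subgroup (GL (Idx k (t + 1)) F))
    (i : Fin (t + 1)) (x : Fin k → F) (φ : Matrix (Idx k t) (Idx k t) F) : Prop :=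
  ∀ r : F, InL β G i x (r • φ)

/-- The subspace of coefficients forming lines. -/
def KL (G : Subgroup (GL (Idx k (t + 1)) F)) (i : Fin (t + 1)) (x : Fin k → F) (hx : qf β x = 0) :
    Submodule F (Matrix (Idx k t) (Idx k t) F) where
  carrier := {φ | LineIn β G i x φ}
  add_mem' h h' r := by rw [smul_add]; exact InL.add hf hx (h r) (h' r)
  zero_mem' r := by rw [smul_zero]; exact InL.zero i x
  smul_mem' d φ h r := by rw [smul_smul]; exact h _

theorem mem_KL {i : Fin (t + 1)} {x : Fin k → F} {hx : qf β x = 0}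
    {φ : Matrix (Idx k t) (Idx k t) F} : φ ∈ KL hf G i x hx ↔ LineIn β G i x φ := Iff.rfl

theorem fu_psiU_one {i : Fin (t + 1)} {a : GL (Fin k) F} (h : fu i a ∈ G) :
    fu i a * psiU i (1 : GL (Idx k t) F) ∈ G := by rwa [map_one, mul_one]

variable (hG : Ov β c G)
include hG

theorem KL.linv {i : Fin (t + 1)} {x : Fin k → F} {hx : qf β x = 0} (j : Fin t) :
    LInv β j (KL hf G i x hx) := by
  intro u a hu hua φ hφ r
  have h1 := InL.conj hf (hφ r) (a := 1) (one_mem _) (Y := fu j (sGL (qf β) β u a))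
    (by rw [map_one, one_mul, psiU_fu]; exact hG.sie _ u a hu hua)
  rwa [Units.val_one, Matrix.one_mulVec, map_smul] at h1

theorem exists_move [Finite F] (hb : Big F k) {x y : Fin k → F} (hx : qf β x = 0) (hx0 : x ≠ 0)
    (hy : qf β y = 0) (hy0 : y ≠ 0) :
    ∃ h ∈ Root (qf β) β ⊤, ∃ r : F, r ≠ 0 ∧ h.val *ᵥ x = r • y := by
  rcases hb with h5 | ⟨h3, -⟩
  · obtain ⟨h, hh, e⟩ := Orth.trans (factor_space hf) (factor_space hf).ndeg_top
      (by rw [finrank_top, finrank_fintype_fun_eq_card, Fintype.card_fin]; exact h5) trivial trivial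
      hx0 hy0 (hx.trans hy.symm)
    exact ⟨h, hh, 1, one_ne_zero, by rw [one_smul, e]⟩
  · obtain ⟨f, e, D⟩ := exists_three_at (factor_space hf) hf.h2 (by simpa using h3) hx hx0
    exact D.line_trans hy hy0

theorem LineIn.move [Finite F] (hb : Big F k) {i : Fin (t + 1)} {x y : Fin k → F} (hx : qf β x = 0)
    (hx0 : x ≠ 0) (hy : qf β y = 0) (hy0 : y ≠ 0) {φ : Matrix (Idx k t) (Idx k t) F}
    (h : LineIn β G i x φ) : LineIn β G i y φ := by
  obtain ⟨g, hg, d, hd, e⟩ := exists_move hf hG hb hx hx0 hy hy0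
  intro r
  have h1 := InL.conj hf (h (r / (d * d))) (root_le_iso (factor_space hf) _ hg)
    (fu_psiU_one hf (hG.root i hg))
  rw [conjA_one, e, InL.smul_vec, smul_smul, mul_div_cancel₀ _ (mul_ne_zero hd hd)] at h1
  exact h1

/-- A long element gives a line of them at every vector. -/
theorem exists_line [Finite F] (hb : Big F k) {i : Fin (t + 1)} (hw : ¬ Lose hf G i) {y : Fin k → F}
    (hy : qf β y = 0) (hy0 : y ≠ 0) : ∃ φ, φ ≠ 0 ∧ LineIn β G i y φ := by
  have C := factor_space hf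
  obtain ⟨x, φ, hx, hx0, hφ, hne⟩ := exists_inL hf hw
  suffices h : ∃ ψ, ψ ≠ 0 ∧ LineIn β G i x ψ by
    obtain ⟨ψ, hψ, hl⟩ := h
    exact ⟨ψ, hψ, LineIn.move hf hG hb hx hx0 hy hy0 hl⟩
  have hscale : ∀ (d : F) (g : GL (Fin k) F), g ∈ Root (qf β) β ⊤ → g.val *ᵥ x = d • x →
      ∀ ψ, InL β G i x ψ → InL β G i x ((d * d) • ψ) := fun d g hg e ψ h => by
    have h1 := InL.conj hf h (root_le_iso C _ hg) (fu_psiU_one hf (hG.root i hg))
    rwa [conjA_one, e, InL.smul_vec] at h1
  rcases hb with h5 | ⟨h3, hq⟩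
  · refine ⟨φ, hne, fun r => ?_⟩
    have hsq : ∀ d : F, InL β G i x ((d * d) • φ) := fun d => by
      rcases eq_or_ne d 0 with rfl | hd
      · rw [mul_zero, zero_smul]; exact InL.zero i x
      obtain ⟨g, hg, e⟩ := Orth.trans C C.ndeg_top
        (by rw [finrank_top, finrank_fintype_fun_eq_card, Fintype.card_fin]; exact h5) (x := x)
        (y := d • x) trivial trivial hx0 (smul_ne_zero hd hx0) (by rw [C.smul, hx, mul_zero])
      exact hscale d g hg e φ hφ
    have h1 := InL.sub hf hx (hsq ((r + 1) / 2)) (hsq ((r - 1) / 2))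
    rw [← sub_smul] at h1
    convert h1 using 2
    field_simp [hf.h2]
    ring
  · obtain ⟨f, e, D⟩ := exists_three_at C hf.h2 (by simpa using h3) hx hx0
    obtain ⟨ψ, hψ, hl⟩ := full_line hf D hq (P := InL β G i x) (fun _ _ h h' => InL.sub hf hx h h')
      (fun r ψ hr h => by
        obtain ⟨g, hg, e', -⟩ := D.exists_torus hr
        exact hscale (r * r) g hg e' ψ h)
      (fun j h hh ψ hψ => by
        have h1 := InL.conj hf hψ (a := 1) (one_mem _) (Y := fu j h)
          (by rw [map_one, one_mul, psiU_fu]; exact hG.root _ hh)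
        rwa [Units.val_one, Matrix.one_mulVec] at h1)
      (fun ψ h => InL.skw hf hG.le hx hx0 h) hφ hne
    exact ⟨ψ, hψ, hl⟩

end Cfsg.Lib.Linear.OTPow
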