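import Cfsg.Agent.Lib.Linear.OTPow.Tensor4
import Mathlib.FieldTheory.ChevalleyWarning

/-!
# Sums of functions of small degree over a space

Functions of degree less than `n (q - 1)` on a space of dimension `n` sum to zero. Multilinear
functions of four vectors depending polynomially on a parameter have the sum of their degrees.
-/

set_option autoImplicit false
set_option linter.unusedSectionVars false
set_option linter.unusedSimpArgs false

namespace Cfsg.Lib.Linear.OTPow

open Module MvPolynomial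
open Cfsg.Lib.Linear.OOTensor.Square (Four4)

variable {F : Type*} [Field F] {W : Type*} [AddCommGroup W] [Module F W] {n : ℕ}
  (b : Basis (Fin n) F W)

/-- A function given by a polynomial of bounded degree in the coordinates. -/
def PolyLe (d : ℕ) (f : W → F) : Prop :=
  ∃ P : MvPolynomial (Fin n) F, P.totalDegree ≤ d ∧ ∀ r, f (b.equivFun.symm r) = eval r P

/-- A vector valued function with coordinates of bounded degree. -/
def PolyVec {ι : Type} (d : ℕ) (g : W → ι → F) : Prop := ∀ z, PolyLe b d fun a => g a z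

variable {b} {d e : ℕ} {f g : W → F}

theorem PolyLe.mono (h : PolyLe b d f) (hde : d ≤ e) : PolyLe b e f :=
  let ⟨P, hP, hf⟩ := h
  ⟨P, hP.trans hde, hf⟩

theorem PolyLe.const (r : F) : PolyLe b 0 fun _ => r :=
  ⟨C r, by rw [totalDegree_C], fun _ => by rw [eval_C]⟩

theorem PolyLe.add (h : PolyLe b d f) (h' : PolyLe b d g) : PolyLe b d fun a => f a + g a :=
  let ⟨P, hP, hf⟩ := h
  let ⟨Q, hQ, hg⟩ := h'
  ⟨P + Q, (totalDegree_add P Q).trans (max_le hP hQ), fun r => by simp only [eval_add, hf, hg]⟩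

theorem PolyLe.mul (h : PolyLe b d f) (h' : PolyLe b e g) : PolyLe b (d + e) fun a => f a * g a :=
  let ⟨P, hP, hf⟩ := h
  let ⟨Q, hQ, hg⟩ := h'
  ⟨P * Q, (totalDegree_mul P Q).trans (Nat.add_le_add hP hQ), fun r => by simp only [eval_mul, hf, hg]⟩

theorem PolyLe.const_mul (h : PolyLe b d f) (r : F) : PolyLe b d fun a => r * f a := by
  simpa using (PolyLe.const r).mul h

theorem PolyLe.neg (h : PolyLe b d f) : PolyLe b d fun a => -f a := by
  simpa using h.const_mul (-1)

theorem PolyLe.sub (h : PolyLe b d f) (h' : PolyLe b d g) : PolyLe b d fun a => f a - g a := by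
  simpa [sub_eq_add_neg] using h.add h'.neg

theorem PolyLe.sum {κ : Type*} (s : Finset κ) {f : κ → W → F} (h : ∀ i ∈ s, PolyLe b d (f i)) :
    PolyLe b d fun a => ∑ i ∈ s, f i a := by
  classical
  induction s using Finset.induction_on with
  | empty => simpa using (PolyLe.const (b := b) (0 : F)).mono (Nat.zero_le d)
  | insert i s hi ih =>
    simp only [Finset.sum_insert hi]
    exact (h i (Finset.mem_insert_self i s)).add (ih fun j hj => h j (Finset.mem_insert_of_mem hj))

theorem PolyLe.lin (ℓ : W →ₗ[F] F) : PolyLe b 1 fun a => ℓ a := by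
  refine ⟨∑ i, C (ℓ (b i)) * X i, ?_, fun r => ?_⟩
  · refine (totalDegree_finset_sum _ _).trans (Finset.sup_le fun i _ => ?_)
    refine (totalDegree_mul _ _).trans ?_
    rw [totalDegree_C, totalDegree_X]
  · simp [Basis.equivFun_symm_apply, map_sum, eval_sum, mul_comm]

/-- A polynomial of small degree sums to zero. -/
theorem PolyLe.sum_zero [Fintype F] [Fintype W] (h : PolyLe b d f)
    (hd : d < (Fintype.card F - 1) * n) : ∑ a, f a = 0 := by
  classical
  obtain ⟨P, hP, hf⟩ := h
  rw [← b.equivFun.symm.toEquiv.sum_comp]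
  show ∑ r, f (b.equivFun.symm r) = 0
  simp only [hf]
  exact P.sum_eval_eq_zero (by rw [Fintype.card_fin]; omega)

variable {ι : Type} {u v : W → ι → F}

theorem PolyVec.mono (h : PolyVec b d v) (hde : d ≤ e) : PolyVec b e v := fun z => (h z).mono hde

theorem PolyVec.const (w : ι → F) : PolyVec b 0 fun _ => w := fun z => PolyLe.const (w z)

theorem PolyVec.add (h : PolyVec b d u) (h' : PolyVec b d v) : PolyVec b d fun a => u a + v a :=
  fun z => (h z).add (h' z)

theorem PolyVec.sub (h : PolyVec b d u) (h' : PolyVec b d v) : PolyVec b d fun a => u a - v a :=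
  fun z => (h z).sub (h' z)

theorem PolyVec.smul (h : PolyLe b d f) (h' : PolyVec b e v) : PolyVec b (d + e) fun a => f a • v a :=
  fun z => h.mul (h' z)

theorem PolyVec.lin (L : W →ₗ[F] (ι → F)) : PolyVec b 1 fun a => L a := fun z =>
  PolyLe.lin ((LinearMap.proj z : (ι → F) →ₗ[F] F) ∘ₗ L)

/-- A linear image of a polynomial vector. -/
theorem PolyVec.map {κ : Type} [Fintype ι] [DecidableEq ι] (h : PolyVec b d v)
    (L : (ι → F) →ₗ[F] (κ → F)) : PolyVec b d fun a => L (v a) := fun z => by
  have e : (fun a => L (v a) z) = fun a => ∑ i, L (Pi.single i 1) z * v a i := funext fun a => by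
    conv_lhs => rw [pi_eq_sum_univ' (v a), map_sum, Finset.sum_apply]
    exact Finset.sum_congr rfl fun i _ => by
      rw [map_smul, Pi.smul_apply, smul_eq_mul, mul_comm]
  show PolyLe b d fun a => L (v a) z
  rw [e]
  exact PolyLe.sum _ fun i _ => (h i).const_mul _

/-- A form in four polynomial vectors has the sum of the degrees. -/
theorem PolyVec.four [Fintype ι] [DecidableEq ι] {d₁ d₂ d₃ d₄ : ℕ} {v₁ v₂ v₃ v₄ : W → ι → F}
    (h₁ : PolyVec b d₁ v₁) (h₂ : PolyVec b d₂ v₂) (h₃ : PolyVec b d₃ v₃) (h₄ : PolyVec b d₄ v₄)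
    (φ : Four4 ι F) : PolyLe b (d₁ + d₂ + d₃ + d₄) fun a => φ (v₁ a) (v₂ a) (v₃ a) (v₄ a) := by
  have e : (fun a => φ (v₁ a) (v₂ a) (v₃ a) (v₄ a)) = fun a => ∑ p, ∑ q, ∑ r, ∑ s,
      φ (Pi.single p 1) (Pi.single q 1) (Pi.single r 1) (Pi.single s 1) *
        (v₁ a p * v₂ a q * v₃ a r * v₄ a s) := funext fun a => by
    conv_lhs => rw [pi_eq_sum_univ' (v₁ a)]
    simp only [map_sum, map_smul, LinearMap.sum_apply, LinearMap.smul_apply, smul_eq_mul]
    refine Finset.sum_congr rfl fun p _ => ?_
    conv_lhs => rw [pi_eq_sum_univ' (v₂ a)]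
    simp only [map_sum, map_smul, LinearMap.sum_apply, LinearMap.smul_apply, smul_eq_mul, Finset.mul_sum]
    refine Finset.sum_congr rfl fun q _ => ?_
    conv_lhs => rw [pi_eq_sum_univ' (v₃ a)]
    simp only [map_sum, map_smul, LinearMap.sum_apply, LinearMap.smul_apply, smul_eq_mul, Finset.mul_sum]
    refine Finset.sum_congr rfl fun r _ => ?_
    conv_lhs => rw [pi_eq_sum_univ' (v₄ a)]
    simp only [map_sum, map_smul, LinearMap.sum_apply, LinearMap.smul_apply, smul_eq_mul, Finset.mul_sum]
    refine Finset.sum_congr rfl fun s _ => ?_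
    ring
  rw [e]
  exact PolyLe.sum _ fun p _ => PolyLe.sum _ fun q _ => PolyLe.sum _ fun r _ => PolyLe.sum _ fun s _ =>
    ((((h₁ p).mul (h₂ q)).mul (h₃ r)).mul (h₄ s)).const_mul _

end Cfsg.Lib.Linear.OTPow
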