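import Cfsg.Agent.Lib.Linear.OTPow.Pure

/-!
# A long element gives everything

If the group permutes the factors and contains a long element for one splitting, it contains all
Siegel elements of the tensor power.
-/

set_option autoImplicit false
set_option linter.unusedSectionVars false
set_option linter.unusedSimpArgs false

namespace Cfsg.Lib.Linear.OTPow

open Module Cfsg.Geo Cfsg.Lib.Linear.AschGen Cfsg.Lib.Linear.TWreath Cfsg.Lib.Linear.Orth
open Cfsg.Lib.Linear.OOTensor (qf cj cj_apply Inv)
open Cfsg.Lib.Linear.SpTensor (InA)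
open scoped Matrix MatrixGroups

variable {F : Type*} [Field F] {k t : ℕ} {β : LinearMap.BilinForm F (Fin k → F)} {c : F}
variable (hf : Fm β c)
include hf

theorem fu_iso_rev (hk : 0 < k) {i : Fin (t + 1)} {a : GL (Fin k) F} {Y : GL (Idx k t) F}
    (hY : Y ∈ isometryGroup F (qT β c t)) (h : fu i a * psiU i Y ∈ isometryGroup F (qT β c (t + 1))) :
    a ∈ isometryGroup F (qf β) := by
  have h1 : fu i a ∈ isometryGroup F (qT β c (t + 1)) := by
    have h2 : psiU i Y ∈ isometryGroup F (qT β c (t + 1)) := by
      rw [← liftL_eq hf]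
      exact (split hf i).swap.liftR_mem hY
    simpa using mul_mem h (inv_mem h2)
  obtain ⟨b, hb⟩ := (split hf i).exists_aniso_left (by
    rw [Fintype.card_pi, Finset.prod_const, Fintype.card_fin]; positivity)
  refine mem_iso.2 fun w => ?_
  have h2 := (qT_space hf).B_act h1 (tau i b w) (tau i b w)
  rw [fu_val, fa_tau, bT_tau, bT_tau] at h2
  simp only [qf, mul_left_cancel₀ hb h2]

/-- All skew coefficients give all Siegel elements. -/
theorem root_of_full [Finite F] (hk : 3 ≤ k) (ht : 1 ≤ t) {G : Subgroup (GL (Idx k (t + 1)) F)}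
    (hG : Ov β c G) (hb : Big F k) {i : Fin (t + 1)} {x : Fin k → F} (hx : qf β x = 0) (hx0 : x ≠ 0)
    (hfull : ∀ φ, Skw β c φ → LineIn β G i x φ) :
    Root (qT β c (t + 1)) (bT β c (t + 1)) ⊤ ≤ G := by
  refine root_of_long (split hf i) ?_ (by simpa using hk) hG.le fun {y} hy hy0 {φ} hφ => ?_
  · rw [Fintype.card_pi, Finset.prod_const, Fintype.card_fin, Finset.card_univ, Fintype.card_fin]
    exact le_trans hk (Nat.le_self_pow (by omega) k)
  have h1 := LineIn.move hf hG hb hx hx0 hy hy0 (hfull (LinearMap.toMatrix' φ) fun a b => by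
    simpa [LinearMap.toMatrix'_mulVec] using hφ a b) 1
  rw [one_smul] at h1
  refine ((inL_iff hf).1 h1).congr fun v => ?_
  simp only [(split hf i).long_apply, Matrix.mulVecLin_apply, LinearMap.toMatrix'_mulVec]

/-- **Without losing all Siegel elements are present.** -/
theorem rich_root [Finite F] (hk : Odd k) (hb : Big F k) :
    ∀ (t : ℕ) (G : Subgroup (GL (Idx k (t + 1)) F)), Ov β c G → Perms G →
      (∃ i, ¬ Lose hf G i) → Root (qT β c (t + 1)) (bT β c (t + 1)) ⊤ ≤ G := by
  have hk3 := big_three_le hb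
  intro t
  induction t with
  | zero =>
    intro G hG _ ⟨i, hi⟩
    exfalso
    obtain ⟨x, φ, hx, hx0, hφ, hne⟩ := exists_inL hf hi
    obtain ⟨r, rfl⟩ := scalar_of_com (by omega) (Φ := φ) fun l => l.elim0
    exact hne (skw_sadj_zero hf (InL.skw hf hG.le hx hx0 hφ) (SAdj.scalar r))
  | succ t ih =>
    intro G hG hP ⟨i, hi⟩
    obtain ⟨x, f, H⟩ := exists_frame hf hk3
    have hx0 : x ≠ 0 := fun e => by simpa [e] using H.pair
    have hxs := H.singE
    obtain ⟨φ₀, hφ₀, hl₀⟩ := exists_line hf hG hb hi hxs hx0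
    have hskw : ∀ φ, LineIn β G i x φ → Skw β c φ := fun φ h => by
      have := InL.skw hf hG.le hxs hx0 (h 1)
      rwa [one_smul] at this
    refine root_of_full hf hk3 (by omega) hG hb (i := i) hxs hx0 ?_
    -- a coefficient commuting with a factor gives all
    have hcom : ∀ (j : Fin (t + 1)) (φ : Matrix (Idx k (t + 1)) (Idx k (t + 1)) F), LineIn β G i x φ →
        φ ≠ 0 → Com j φ → ∀ ψ, Skw β c ψ → LineIn β G i x ψ := by
      intro j φ hl hne hjφ
      have ht : 1 ≤ t := by
        by_contra h0
        obtain rfl : t = 0 := by omega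
        obtain ⟨r, rfl⟩ := scalar_of_com (by omega) (Φ := φ) fun l => by
          rwa [show l = j from Fin.ext (by omega)]
        exact hne (skw_sadj_zero hf (hskw _ hl) (SAdj.scalar r))
      set l := i.succAbove j with hl'
      have hli : l ≠ i := Fin.succAbove_ne i j
      obtain ⟨g, hg, hσ⟩ := hP (Equiv.swap l i)
      obtain ⟨A₁, hA₁⟩ := hσ l
      obtain ⟨A, hA⟩ := hσ i
      rw [Equiv.swap_apply_left] at hA₁
      rw [Equiv.swap_apply_right] at hA
      obtain ⟨ν, hν, hAν⟩ := acts_sim hf (by omega) (hG.le hg) hA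
      set Ψ := ν⁻¹ • conjA g (psi i φ) with hΨ
      have hΨl : Com l Ψ := (hA.com (com_psi i φ)).smul _
      have hΨi : Com i Ψ := by
        refine (hA₁.com ?_).smul _
        intro X
        rw [hl', ← psi_fa]
        exact (hjφ X).map (psi i)
      obtain ⟨Ψ₀, hΨ₀⟩ := exists_psi (by omega) i hΨi
      have hΨ₀j : Com j Ψ₀ := fun X => by
        refine psi_injective (by omega : 0 < k) i ?_
        rw [map_mul, map_mul, psi_fa, hΨ₀, ← hl']
        exact (hΨl X).eq
      obtain ⟨φ', hφ'⟩ := exists_psi (by omega) j hΨ₀j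
      set R := rk β (A.val *ᵥ x) (A.val *ᵥ x) with hR
      have h1 := InM.conj (hl 1) hg
      rw [one_smul, map_add, map_one, map_mul, hA, conj_rk hf hν hAν, map_smul, smul_mul_assoc,
        ← mul_smul_comm, ← hΨ, ← hΨ₀, hl', ← psi_fa, ← map_mul] at h1
      obtain ⟨g', hg', hgv⟩ := h1
      have hact : Acts g' i i 1 := fun X => by
        have hc : Commute (fa i X) g'.val := by
          rw [hgv]
          exact (Commute.one_right _).add_right (com_psi i _ X)
        rw [conjA_one, conjA_apply, ← hc.eq, mul_assoc, Units.mul_inv, mul_one]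
      obtain ⟨Y, hY⟩ := exists_split (by omega) hact
      rw [map_one, one_mul] at hY
      have hYv : Y.val = 1 + fa j R * Ψ₀ := psi_injective (by omega : 0 < k) i (by
        rw [map_add, map_one, ← hgv, hY, psiU_val])
      have hYc : Y ∈ cutI β c G i :=
        ⟨⟨1, by rw [map_one, one_mul, ← hY]; exact hg'⟩,
          psiU_iso hf (i := i) (hY ▸ hG.le hg') (by omega)⟩
      have hroot : Root (qT β c (t + 1)) (bT β c (t + 1)) ⊤ ≤ cutI β c G i := by
        refine ih _ (Ov.cutI hf hG (by omega) i) (Perms.cutI hf hG hk hP i) ⟨j, fun hlose => hne ?_⟩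
        have hin : InL β (cutI β c G i) j (A.val *ᵥ x) φ' := ⟨Y, hYc, by rw [hYv, hφ']⟩
        have hsing : qf β (A.val *ᵥ x) = 0 := by
          rw [qf, hAν, (factor_space hf).self_zero hxs, mul_zero, mul_zero]
        have h0 : φ' = 0 := by
          have := hlose _ _ hsing (Orth.act_ne_zero hx0) ((inL_iff hf).1 hin)
          refine mat_ext fun v => ?_
          rw [Matrix.zero_mulVec]
          exact LinearMap.congr_fun this v
        rw [h0, map_zero] at hφ'
        rw [← hφ', map_zero, hΨ, eq_comm, smul_eq_zero] at hΨ₀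
        have h2 : conjA g (psi i φ) = 0 := hΨ₀.resolve_left (inv_ne_zero hν)
        exact psi_injective (by omega : 0 < k) i (by
          rw [map_zero]
          exact (conjA g).injective (by rw [h2, map_zero]))
      let Φ : Submodule F (Module.End F (Idx k (t + 1) → F)) :=
        (KL hf G i x hxs).comap LinearMap.toMatrix'.toLinearMap
      have hmem : ∀ X : Module.End F (Idx k (t + 1) → F),
          X ∈ Φ ↔ LineIn β G i x (LinearMap.toMatrix' X) := fun X => Iff.rfl
      have hinv : Inv (qT β c (t + 1)) (bT β c (t + 1)) Φ := by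
        intro u a hu hua X hX
        rw [hmem] at hX ⊢
        set S := sGL (qT β c (t + 1)) (bT β c (t + 1)) u a
        have hS : S ∈ cutI β c G i := hroot (sGL_mem_root trivial trivial hu hua)
        obtain ⟨⟨b, hb'⟩, hSI⟩ := hS
        have hbI := fu_iso_rev hf (by omega) hSI (hG.le hb')
        refine LineIn.move hf hG hb (x := b.val *ᵥ x) (y := x)
          (by rw [mem_iso.1 hbI, hxs]) (Orth.act_ne_zero hx0) hxs hx0 fun r => ?_
        have h2 := InL.conj hf (hX r) hbI hb'
        convert h2 using 1
        rw [map_smul]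
        congr 1
        exact mat_ext fun v => by
          simp [LinearMap.toMatrix'_mulVec, cj_apply, conjA_apply, ← Matrix.mulVec_mulVec]
      have hcard : 5 ≤ Fintype.card (Idx k (t + 1)) := by
        rw [Fintype.card_pi, Finset.prod_const, Fintype.card_fin, Finset.card_univ, Fintype.card_fin]
        calc 5 ≤ 3 ^ 2 := by norm_num
          _ ≤ k ^ 2 := Nat.pow_le_pow_left hk3 2
          _ ≤ k ^ (t + 1) := Nat.pow_le_pow_right (by omega) (by omega)
      obtain ⟨ν₀, ν₁, HU⟩ := exists_hyp' (qT_space hf) (qT_space (t := t + 1) hf).ndeg_top (by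
        rw [finrank_top, finrank_fintype_fun_eq_card]; omega)
      intro ψ hψ
      have hfull := OOTensor.skew_full (qT_space hf) hf.h2 HU (by omega) (Or.inl hcard) (Φ := Φ)
        (fun X hX a b => by
          have := hskw _ ((hmem X).1 hX) a b
          simpa [LinearMap.toMatrix'_mulVec] using this) hinv
        ⟨Matrix.mulVecLin φ, (hmem _).2 (by rwa [← Matrix.toLin'_apply', LinearMap.toMatrix'_toLin']),
          fun e => hne (mat_ext fun v => by
            rw [Matrix.zero_mulVec]; exact LinearMap.congr_fun e v)⟩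
        (φ := Matrix.mulVecLin ψ) hψ
      rw [hmem, ← Matrix.toLin'_apply', LinearMap.toMatrix'_toLin'] at hfull
      exact hfull
    rcases com_or_pure hf hb (K := KL hf G i x hxs) (fun l => KL.linv hf hG l) (X := φ₀) hl₀ hφ₀ with
      ⟨j, φ, hφ, hne, hj⟩ | ⟨kind, hkind⟩
    · exact hcom j φ hφ hne hj
    rcases Nat.eq_zero_or_pos t with rfl | ht
    swap
    · obtain ⟨j, φ, hφ, hne, hj⟩ := pure_com hf hG hb (by omega) H hkind
      exact hcom j φ hφ hne hj
    intro ψ hψ
    have hone : ∀ A : Fin 1 → Matrix (Fin k) (Fin k) F, (pureTens A : Matrix (Idx k 1) (Idx k 1) F) =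
        fa 0 (A 0) := fun A => by
      rw [fa_apply, powStd]
      congr 1
      funext l
      obtain rfl : l = 0 := Fin.ext (by omega)
      simp
    cases hk' : kind 0 with
    | true =>
      exfalso
      let A : Fin 1 → Matrix (Fin k) (Fin k) F := fun _ => rk β x x
      have hA := hkind A fun l => by
        obtain rfl : l = 0 := Fin.ext (by omega)
        rw [hk']
        exact ⟨x, 0, hxs, (factor_space hf).zero, by
          rw [show rk β (0 : Fin k → F) 0 = 0 from mat_ext fun v => by simp [rk_mulVec], add_zero]⟩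
      have h0 := skw_sadj_zero hf (hskw _ hA) (sadj_pureTens hf fun _ => rk_adj hf x)
      rw [hone] at h0
      exact rk_ne_zero hf hx0 hx0 (fa_injective (by omega) 0 (by rw [h0, map_zero]))
    | false =>
      obtain ⟨N, hN⟩ : ∃ N, fa 0 N = ψ := by
        refine mem_range_of_commute (by omega) fun Φ hΦ => ?_
        obtain ⟨r, rfl⟩ := scalar_of_com (by omega) (Φ := Φ) fun l => by
          rwa [show l = 0 from Fin.ext (by omega)]
        exact (Commute.one_left ψ).smul_left r
      have hNs : ∀ v w, β (N *ᵥ v) w = -β v (N *ᵥ w) := fun v w => by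
        obtain ⟨a, ha⟩ := (split hf (t := 0) 0).exists_aniso_left (by simp [Idx])
        have h1 := hψ (tau 0 a v) (tau 0 a w)
        rw [← hN, fa_tau, fa_tau, bT_tau, bT_tau] at h1
        exact mul_left_cancel₀ ha (by linear_combination h1)
      obtain ⟨u, v, huv⟩ := wedge_sum hf hNs
      have h2 : (2 : F) • ψ ∈ KL hf G i x hxs := by
        rw [← hN, ← map_smul, huv, map_sum]
        refine Submodule.sum_mem _ fun q _ => ?_
        have := hkind (fun _ => wd β (u q) (v q)) fun l => by
          obtain rfl : l = 0 := Fin.ext (by omega)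
          rw [hk']
          exact ⟨_, _, rfl⟩
        rwa [hone] at this
      exact (Submodule.smul_mem_iff _ hf.h2).1 h2

end Cfsg.Lib.Linear.OTPow
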