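import Cfsg.Agent.Lib.Linear.OTPow.Orbit
import Cfsg.Agent.Lib.Linear.OTPow.Rich
import Cfsg.Agent.Lib.Linear.SpWreath.Cut

/-!
# An overgroup permutes the factors or contains all Siegel elements

Induction on the number of factors.  A long element which is a Siegel element of a pair of
products shows that the smaller powers lose when the whole does, and that all Siegel elements
together do not permute the factors.
-/

set_option autoImplicit false
set_option linter.unusedSectionVars false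
set_option linter.unusedSimpArgs false

namespace Cfsg.Lib.Linear.OTPow

open Module Cfsg.Geo Cfsg.Lib.Linear.AschGen Cfsg.Lib.Linear.TWreath Cfsg.Lib.Linear.Orth
open Cfsg.Lib.Linear.OOTensor (qf wdg wdg_apply)
open scoped Matrix MatrixGroups

variable {F : Type*} [Field F] {k t : ℕ} {β : LinearMap.BilinForm F (Fin k → F)} {c : F}
variable (hf : Fm β c)
include hf

/-- A Siegel element of two products with a common singular component is long. -/
theorem pair_long (i : Fin (t + 1)) {x : Fin k → F} (hx : qf β x = 0) (u v : Idx k t → F) :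
    (sGL (qT β c (t + 1)) (bT β c (t + 1)) (tau i u x) (tau i v x)).val =
      1 + fa i (rk β x x) * psi i (LinearMap.toMatrix' (wdg (bT β c t) u v)) := by
  have T := split hf i
  refine mat_ext fun z => ?_
  rw [sGL_act T.space (T.sing u hx) (by rw [T.pair, T.qf_zero.1 hx, mul_zero]), T.sing v hx, zero_mul,
    add_zero, Matrix.add_mulVec, Matrix.one_mulVec, long_eq hf, T.long_apply, Matrix.mulVecLin_apply,
    LinearMap.toMatrix'_mulVec, wdg_apply, T.α_ctr', T.α_ctr', map_sub, map_smul, map_smul,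
    LinearMap.sub_apply, LinearMap.smul_apply, LinearMap.smul_apply]
  abel

theorem pair_root (i : Fin (t + 1)) {x : Fin k → F} (hx : qf β x = 0) (u v : Idx k t → F) :
    sGL (qT β c (t + 1)) (bT β c (t + 1)) (tau i u x) (tau i v x) ∈
      Root (qT β c (t + 1)) (bT β c (t + 1)) ⊤ :=
  sGL_mem_root trivial trivial ((split hf i).sing u hx)
    (by rw [(split hf i).pair, (split hf i).qf_zero.1 hx, mul_zero])

/-- A product frame. -/
theorem exists_prod_frame [Finite F] (hk : 3 ≤ k) :
    ∃ (x f e : Fin k → F) (b : Idx k t → F), Hyp (qf β) β ⊤ x f ∧ β x e = 0 ∧ β f e = 0 ∧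
      β e e ≠ 0 ∧ bT β c t b b ≠ 0 := by
  obtain ⟨x, f, H⟩ := exists_frame hf hk
  obtain ⟨e, hxe, hfe, hqe⟩ := exists_aniso_perp hf hk H
  obtain ⟨b, hb⟩ := (split hf (0 : Fin (t + 1))).exists_aniso_left (by
    rw [Fintype.card_pi, Finset.prod_const, Fintype.card_fin]
    have : 0 < k := by omega
    positivity)
  exact ⟨x, f, e, b, H, hxe, hfe, fun h => hqe (by rw [qf, h, mul_zero]), hb⟩

/-- All Siegel elements do not permute the factors. -/
theorem root_not_mst [Finite F] (hk : 3 ≤ k) :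
    ¬ Root (qT β c (t + 2)) (bT β c (t + 2)) ⊤ ≤ mst k (t + 2) F := by
  intro hle
  have C := factor_space hf
  have hk0 : 0 < k := by omega
  obtain ⟨x, f, e, b, H, hxe, hfe, hee, hb⟩ := exists_prod_frame hf (t := t) hk
  have hxs := H.singE
  have hx0 : x ≠ 0 := fun h => by simpa [h] using H.pair
  have he0 : e ≠ 0 := fun h => hee (by rw [h, map_zero])
  have hxx := C.self_zero hxs
  set u : Idx k (t + 1) → F := tau 0 b x
  set v : Idx k (t + 1) → F := tau 0 b e
  set φ := LinearMap.toMatrix' (wdg (bT β c (t + 1)) u v)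
  set g := sGL (qT β c (t + 2)) (bT β c (t + 2)) (tau (0 : Fin (t + 2)) u x) (tau 0 v x)
  obtain ⟨σ, hσ⟩ := hle (pair_root hf 0 hxs u v)
  obtain ⟨A, hA⟩ := hσ 0
  have hφ2 : φ *ᵥ tau 0 b f = bT β c t b b • v := by
    rw [LinearMap.toMatrix'_mulVec, wdg_apply, bT_tau, bT_tau, H.pair, hf.sym e f, hfe, mul_one,
      mul_zero, zero_smul, sub_zero]
  set N := fa (0 : Fin (t + 2)) (rk β x x) * psi 0 φ
  have hv : g.val = 1 + N := pair_long hf 0 hxs u v
  have hNN : N * N = 0 := by
    rw [mul_assoc, ← mul_assoc (psi 0 φ), ← (com_psi 0 φ _).eq, mul_assoc, ← mul_assoc, ← map_mul,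
      rk_mul_rk, hxx, zero_smul, map_zero, zero_mul]
  have hi : (g⁻¹).val = 1 - N := (left_inv_eq_right_inv (Units.inv_mul g) (by
    rw [hv, show (1 + N) * (1 - N) = 1 - N * N by noncomm_ring, hNN, sub_zero]))
  set R := rk β e x
  have hXR : rk β e f * rk β x x = R := by rw [rk_mul_rk, H.pair' C, one_smul]
  have hRX : rk β x x * rk β e f = 0 := by rw [rk_mul_rk, hxe, zero_smul]
  have hconj : conjA g (fa 0 (rk β e f)) = fa 0 (rk β e f) - fa 0 R * psi 0 φ := by
    rw [conjA_apply, hv, hi, add_mul, one_mul, mul_assoc _ (psi 0 φ), ← (com_psi 0 φ _).eq,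
      ← mul_assoc, ← map_mul, hRX, map_zero, zero_mul, add_zero, mul_sub, mul_one, ← mul_assoc,
      ← map_mul, hXR]
  have h1 := hA (rk β e f)
  rw [hconj] at h1
  rcases eq_or_ne (σ 0) 0 with h0 | h0
  · rw [h0] at h1
    have key : ∀ M, φ * M = M * φ := fun M => by
      have h2 := (com_psi (0 : Fin (t + 2)) M (conjA A (rk β e f))).eq
      rw [← h1, sub_mul, mul_sub, (com_psi 0 M (rk β e f)).eq, mul_assoc, ← map_mul, ← mul_assoc,
        ← (com_psi 0 M R).eq, mul_assoc, ← map_mul, sub_right_inj] at h2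
      exact sub_eq_zero.1 (fa_psi_eq_zero hk0 (X := R) (by rw [map_sub, mul_sub, h2, sub_self])
        (rk_ne_zero hf he0 hx0))
    have hv0 : v ≠ 0 := (split hf 0).tau_ne_zero (fun h => hb (by rw [h, map_zero])) he0
    obtain ⟨ℓ, hℓ⟩ := (qT_space hf (t := t + 1)).exists_pair hv0
    have h2 := congrArg (fun M => M *ᵥ tau 0 b f)
      (key (LinearMap.toMatrix' ((bT β c (t + 1) ℓ).smulRight (tau 0 b f))))
    simp only [← Matrix.mulVec_mulVec, LinearMap.toMatrix'_mulVec, LinearMap.smulRight_apply,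
      Matrix.mulVec_smul, hφ2, map_smul, smul_eq_mul, bT_sym hf ℓ v, hℓ, smul_smul, mul_one] at h2
    have h3 := congrArg (bT β c (t + 1) (tau 0 b x)) h2
    rw [map_smul, map_smul, bT_tau, bT_tau, hxe, mul_zero, smul_zero, H.pair, mul_one, smul_eq_mul] at h3
    exact mul_ne_zero hb hb h3.symm
  · have h2 := (fa_comm (Ne.symm h0) (rk β x x) (conjA A (rk β e f))).eq
    rw [← h1, mul_sub, sub_mul, ← map_mul, hRX, map_zero, ← mul_assoc, ← map_mul,
      show rk β x x * R = 0 by rw [rk_mul_rk, hxe, zero_smul], map_zero, zero_mul, sub_zero,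
      ← map_mul, hXR, mul_assoc, ← (com_psi 0 φ _).eq, ← mul_assoc, ← map_mul,
      show R * rk β x x = 0 by rw [rk_mul_rk, hxx, zero_smul], map_zero, zero_mul, sub_zero] at h2
    exact rk_ne_zero hf he0 hx0 (fa_injective hk0 (0 : Fin (t + 2)) (h2.symm.trans (map_zero _).symm))

/-- The smaller powers lose with the whole. -/
theorem cutI_not_root [Finite F] (hk : 3 ≤ k) {G : Subgroup (GL (Idx k (t + 3)) F)} (hG : Ov β c G)
    (hlose : ∀ i, Lose hf G i) (i : Fin (t + 3)) :
    ¬ Root (qT β c (t + 2)) (bT β c (t + 2)) ⊤ ≤ cutI β c G i := by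
  intro hle
  have C := factor_space hf
  have hk0 : 0 < k := by omega
  obtain ⟨x, f, e, b, H, hxe, hfe, hee, hb⟩ := exists_prod_frame hf (t := t) hk
  have hxs := H.singE
  have hx0 : x ≠ 0 := fun h => by simpa [h] using H.pair
  set v₀ : Idx k (t + 1) → F := tau 0 b x with hv₀
  set u₀ : Idx k (t + 1) → F := tau 0 b f with hu₀
  set d : Idx k (t + 1) → F := tau 0 b (e - qf β e • x) with hd
  set W : GL (Idx k (t + 2)) F := psiU 0 (fu 0 (sGL (qf β) β x e)) with hW
  set V := tau (0 : Fin (t + 2)) v₀ x with hV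
  have act : ∀ a w, W.val *ᵥ tau (0 : Fin (t + 2)) (tau 0 a w) x =
      tau 0 (tau 0 a ((sGL (qf β) β x e).val *ᵥ w)) x := fun a w => by
    rw [hW, psiU_val, psi_tau, fu_val, fa_tau]
  have hWV : W.val *ᵥ V = V := by
    rw [hV, hv₀, act, sGL_act C hxs hxe, C.self_zero hxs, hf.sym e x, hxe]
    simp
  have hWU : W.val *ᵥ tau (0 : Fin (t + 2)) u₀ x = tau 0 u₀ x + tau 0 d x := by
    rw [hu₀, act, sGL_act C hxs hxe, H.pair, hf.sym e f, hfe, ← LinearMap.add_apply, ← map_add, hd,
      ← map_add]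
    congr 3
    simp
    abel
  have hWmem : psiU i W ∈ G := by
    rw [hW, psiU_fu]
    exact (hG.cut0 hf hk0 i).sie _ x e hxs hxe
  have hQ : ∀ a, bT β c (t + 2) V (tau 0 a x) = 0 := fun a => by
    rw [hV, bT_tau, C.self_zero hxs, mul_zero]
  have hWiso : W ∈ isometryGroup F (qT β c (t + 2)) := psiU_iso hf (hG.le hWmem) hk0
  set Y := sGL (qT β c (t + 2)) (bT β c (t + 2)) V (tau 0 u₀ x) with hY
  have hVs : qT β c (t + 2) V = 0 := (split hf 0).sing v₀ hxs
  have hconj : W * Y * W⁻¹ = Y * sGL (qT β c (t + 2)) (bT β c (t + 2)) V (tau 0 d x) := by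
    rw [hY, sGL_conj (qT_space hf) hVs (hQ _) hWiso, hWV, hWU, sGL_mul (qT_space hf) hVs (hQ _) (hQ _)]
  obtain ⟨⟨a, ha⟩, -⟩ := hle (pair_root hf 0 hxs v₀ u₀)
  have hh : psiU i (sGL (qT β c (t + 2)) (bT β c (t + 2)) V (tau 0 d x)) ∈ G := by
    have h1 := mul_mem (inv_mem ha) (mul_mem (mul_mem hWmem ha) (inv_mem hWmem))
    rw [← mul_assoc (psiU i W), ← (fu_psiU_comm i a W).eq, mul_inv_rev, mul_assoc (fu i a),
      mul_assoc (fu i a), mul_assoc _ (fu i a)⁻¹, inv_mul_cancel_left, ← map_inv, ← map_inv,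
      ← map_mul, ← map_mul, ← map_mul, hconj, inv_mul_cancel_left] at h1
    exact h1
  set l := i.succAbove (0 : Fin (t + 2))
  set Φ := LinearMap.toMatrix' (wdg (bT β c (t + 1)) v₀ d) with hΦ
  have hcom : Com l (psi i (psi 0 Φ)) := fun X => by
    rw [← psi_fa]
    exact (com_psi 0 Φ X).map (psi i)
  obtain ⟨φ', hφ'⟩ := exists_psi hk0 l hcom
  have hin : InL β G l x φ' := ⟨_, hh, by
    rw [psiU_val, hV, pair_long hf 0 hxs, map_add, map_one, map_mul, psi_fa, hφ']⟩
  have h0 := hlose l x (Matrix.mulVecLin φ') hxs hx0 ((inL_iff hf).1 hin)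
  have h1 : φ' = 0 := mat_ext fun z => by
    simpa using LinearMap.congr_fun h0 z
  rw [h1, map_zero] at hφ'
  have h2 : Φ = 0 := psi_injective hk0 0 (by
    rw [map_zero]
    exact psi_injective hk0 i (by rw [map_zero, hφ']))
  have h3 := congrArg (fun M => bT β c (t + 1) (tau 0 b f) (M *ᵥ tau 0 b e)) h2
  simp only [hΦ] at h3
  rw [LinearMap.toMatrix'_mulVec, wdg_apply, hv₀, hd] at h3
  simp only [bT_tau, hxe, mul_zero, zero_smul,
    zero_sub, Matrix.zero_mulVec, map_zero, map_neg, map_sub, map_smul, LinearMap.sub_apply,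
    LinearMap.smul_apply, smul_eq_mul, sub_zero, H.pair' C, mul_one, neg_eq_zero] at h3
  exact mul_ne_zero (mul_ne_zero hb hee) hb h3

/-- **An overgroup permutes the factors or contains all Siegel elements.** -/
theorem le_mst_or_root [Finite F] (hk : Odd k) (hb : Big F k) :
    ∀ (t : ℕ) (G : Subgroup (GL (Idx k (t + 1)) F)), Ov β c G → Perms G →
      G ≤ mst k (t + 1) F ∨ Root (qT β c (t + 1)) (bT β c (t + 1)) ⊤ ≤ G := by
  have hk3 := big_three_le hb
  intro t
  induction t with
  | zero => exact fun G _ _ => Or.inl fun g _ => SpWreath.Std.mem_mst_one (by omega) g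
  | succ t ih =>
    intro G hG hP
    by_cases hl : ∀ i, Lose hf G i
    swap
    · exact Or.inr (rich_root hf hk hb _ G hG hP (not_forall.1 hl))
    refine Or.inl (Ctx.le_mst hf ⟨hG, hP, hl, hk, hb, fun i => ?_⟩)
    rcases ih _ (hG.cutI hf hk.pos i) (hP.cutI hf hG hk i) with h | h
    · exact h
    · cases t with
      | zero => exact fun g _ => SpWreath.Std.mem_mst_one (by omega) g
      | succ t => exact absurd h (cutI_not_root hf hk3 hG hl i)

end Cfsg.Lib.Linear.OTPow
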