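import Cfsg.Agent.Lib.Linear.OTPow.Main
import Cfsg.Agent.Lib.Linear.OTPow.Correct
import Cfsg.Agent.Lib.Linear.OOTensor.Max
import Cfsg.Agent.Lib.Linear.OrthOdd

/-!
# The stabiliser of an orthogonal tensor power in odd dimension is maximal
-/

set_option autoImplicit false
set_option linter.unusedSectionVars false
set_option linter.unusedSimpArgs false

namespace Cfsg.Lib.Linear.OTPow

open Module Cfsg.Geo Cfsg.Lib.Linear.AschGen Cfsg.Lib.Linear.TWreath Cfsg.Lib.Linear.Orth
open Cfsg.Lib.Linear.OOTensor (qf liftR_mem_comm)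
open scoped Matrix MatrixGroups commutatorElement

variable {F : Type*} [Field F] {k t : ℕ} {β : LinearMap.BilinForm F (Fin k → F)} {c : F}

theorem omega_comm {ι : Type} [Fintype ι] [DecidableEq ι] (Q : (ι → F) → F) :
    omegaGL Q = ⁅isometryGroup F Q, isometryGroup F Q⁆ := by
  rw [omegaGL, Subgroup.map_subtype_commutator]

variable (hf : Fm β c)
include hf

theorem permGL_iso (σ : Equiv.Perm (Fin t)) :
    (permGL σ : GL (Idx k t) F) ∈ isometryGroup F (qT β c t) := by
  refine mem_iso.2 fun v => ?_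
  have hv : (permGL σ : GL (Idx k t) F).val *ᵥ v = fun a => v (a ∘ σ) := funext fun a => by
    show ∑ b, permMat σ a b * v b = _
    simp [permMat]
  let E : Idx k t ≃ Idx k t := σ.symm.arrowCongr (Equiv.refl (Fin k))
  have hE : ∀ a, E a = a ∘ σ := fun a => rfl
  simp only [qT, qf, bT_apply, hv]
  congr 2
  conv_rhs => rw [← E.sum_comp]
  refine Finset.sum_congr rfl fun a _ => ?_
  conv_rhs => rw [← E.sum_comp]
  refine Finset.sum_congr rfl fun b _ => ?_
  simp only [hE, Function.comp_apply]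
  rw [Equiv.prod_comp σ (fun l => gram β (a l) (b l))]

/-- **Maximality in standard coordinates.** -/
theorem std_maximal [Fintype F] (hk : Odd k) (hb : Big F k) (s : ℕ) :
    IsMaximalIn (omegaGL (qT β c (s + 2))) (mst k (s + 2) F ⊓ omegaGL (qT β c (s + 2))) := by
  classical
  have hk3 := big_three_le hb
  have C := qT_space hf (t := s + 2)
  have h5 : 5 ≤ Fintype.card (Idx k (s + 2)) := by
    rw [Fintype.card_pi, Finset.prod_const, Fintype.card_fin, Finset.card_univ, Fintype.card_fin]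
    calc 5 ≤ 3 ^ 2 := by norm_num
      _ ≤ k ^ 2 := Nat.pow_le_pow_left hk3 2
      _ ≤ k ^ (s + 2) := Nat.pow_le_pow_right (by omega) (by omega)
  have hΩ : omegaGL (qT β c (s + 2)) = Root (qT β c (s + 2)) (bT β c (s + 2)) ⊤ := omegaGL_eq C h5
  refine ⟨lt_of_le_of_ne inf_le_right fun h => ?_, fun M hM hMΩ => ?_⟩
  · exact root_not_mst hf hk3 (hΩ ▸ h ▸ inf_le_left)
  have hG : Ov β c M := by
    refine ⟨(hMΩ.trans hΩ.le).trans (root_le_iso C ⊤), fun l u a hu hua => hM ⟨fu_mem_mst l _, ?_⟩⟩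
    rw [← liftR_eq hf, SetLike.mem_coe, omega_comm]
    exact liftR_mem_comm (split hf l) (by simpa using hk3) hu hua
  have hP : Perms M := by
    intro σ
    obtain ⟨r, -, hr⟩ := exists_correct (split hf (0 : Fin (s + 2))) (by
        rw [Fintype.card_pi, Finset.prod_const, Fintype.card_fin]; exact hk.pow)
      (by rw [Fintype.card_fin]; omega) (le_trans (by norm_num) h5) (permGL_iso hf σ)
    rw [liftR_eq hf, ← omega_comm] at hr
    refine ⟨_, hM ⟨mul_mem (permGL_mem_mst σ) (fu_mem_mst 0 r), hr⟩, fun i => ?_⟩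
    rcases eq_or_ne i 0 with rfl | hi
    · exact ⟨_, (acts_permGL σ 0).mul (acts_fu 0 r)⟩
    · exact ⟨_, (acts_permGL σ i).mul (acts_fu_ne hi r)⟩
  rcases le_mst_or_root hf hk hb (s + 1) M hG hP with h | h
  · exact Or.inl (le_antisymm (le_inf h hMΩ) hM)
  · exact Or.inr (le_antisymm hMΩ (hΩ ▸ h))

omit hf in
theorem isMaximalIn_map {G G' : Type*} [Group G] [Group G'] (f : G ≃* G') {K H : Subgroup G}
    (h : IsMaximalIn K H) : IsMaximalIn (K.map f.toMonoidHom) (H.map f.toMonoidHom) := by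
  have hcm : ∀ M : Subgroup G', (M.comap f.toMonoidHom).map f.toMonoidHom = M := fun M =>
    Subgroup.map_comap_eq_self_of_surjective f.surjective M
  have hmc : ∀ L : Subgroup G, (L.map f.toMonoidHom).comap f.toMonoidHom = L := fun L =>
    Subgroup.comap_map_eq_self_of_injective f.injective L
  refine ⟨(Subgroup.map_lt_map_iff_of_injective f.injective).2 h.1, fun M h1 h2 => ?_⟩
  have h1' := Subgroup.comap_mono (f := f.toMonoidHom) h1
  have h2' := Subgroup.comap_mono (f := f.toMonoidHom) h2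
  rw [hmc] at h1' h2'
  rcases h.2 _ h1' h2' with e | e
  · exact Or.inl (by rw [← e, hcm])
  · exact Or.inr (by rw [← e, hcm])

omit hf in
/-- **Maximality of the stabiliser.** -/
theorem isMaximalIn [Fintype F] {ι : Type} [Fintype ι] [DecidableEq ι] {Q : (ι → F) → F}
    (hQ : IsNondegenerateQuadraticForm Q) (hodd : Odd (Fintype.card F)) (hn : Odd (Fintype.card ι))
    (hk3 : 3 ≤ k) (ht : 2 ≤ t) (hex : ¬ (Fintype.card F = 3 ∧ k = 3)) (e : ι ≃ (Fin t → Fin k))
    (P : GL ι F) {f₁ : (Fin k → F) → (Fin k → F) → F} (hf₁ : IsSymmetricForm f₁)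
    (hT : IsTensorPowerFormStructure id (QuadraticMap.polar Q) f₁ e P) :
    IsMaximalIn (omegaGL Q) (tensorWreathSubgroup k t e P ⊓ omegaGL Q) := by
  classical
  obtain ⟨s, rfl⟩ : ∃ s, t = s + 2 := ⟨t - 2, by omega⟩
  obtain ⟨B, C⟩ := exists_space hQ
  obtain ⟨c, hc0, hc⟩ := hT
  have h2 : (2 : F) ≠ 0 := two_ne_zero_of_odd_card hodd
  have hk : Odd k := by
    rw [Fintype.card_congr e, Fintype.card_pi, Finset.prod_const, Fintype.card_fin, Finset.card_univ,
      Fintype.card_fin] at hn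
    exact (Nat.odd_pow_iff (by omega)).1 hn
  have hb : Big F k := by
    by_cases h : k = 3
    · refine Or.inr ⟨h, ?_⟩
      have hq : Fintype.card F ≠ 3 := fun e => hex ⟨e, h⟩
      have := Fintype.one_lt_card (α := F)
      rw [Nat.card_eq_fintype_card]
      rw [Nat.odd_iff] at hodd
      omega
    · exact Or.inl (by rw [Nat.odd_iff] at hk; omega)
  let β : LinearMap.BilinForm F (Fin k → F) := LinearMap.mk₂ F f₁ hf₁.bilinear.add_left
    hf₁.bilinear.smul_left hf₁.bilinear.add_right hf₁.bilinear.smul_right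
  have hf : Fm β c := ⟨h2, hf₁.symm, fun v hv => by
    by_contra hne
    obtain ⟨x, hx⟩ := (hf₁.nondegenerate v hne).2
    exact hx (hv x), hc0⟩
  have hbT : ∀ x y : Idx k (s + 2) → F,
      B (P.val *ᵥ (x ∘ e)) (P.val *ᵥ (y ∘ e)) = bT β c (s + 2) x y := fun x y => by
    rw [← C.polar, hc, bT_apply]
    simp only [id_eq, gram_apply, β, LinearMap.mk₂_apply, gramMatrix, Matrix.of_apply]
  have hQT : ∀ x : Idx k (s + 2) → F, Q (P.val *ᵥ (x ∘ e)) = qT β c (s + 2) x := fun x => by
    rw [qT, qf, ← hbT, C.self]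
    field_simp
  let Θ : GL (Idx k (s + 2)) F ≃* GL ι F := (glReindex e.symm).trans (MulAut.conj P)
  have hΘ : ∀ (g : GL (Idx k (s + 2)) F) (x : Idx k (s + 2) → F),
      (Θ g).val *ᵥ (P.val *ᵥ (x ∘ e)) = P.val *ᵥ ((g.val *ᵥ x) ∘ e) := fun g x => by
    show (P.val * g.val.submatrix e e * (P⁻¹).val) *ᵥ _ = _
    rw [← Matrix.mulVec_mulVec, inv_act, ← Matrix.mulVec_mulVec, Matrix.submatrix_mulVec_equiv]
    congr 2
    exact congrArg (fun z => g.val *ᵥ z) (funext fun i => by simp)
  have hiso : isometryGroup F Q = (isometryGroup F (qT β c (s + 2))).map Θ.toMonoidHom := by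
    ext g
    obtain ⟨h, rfl⟩ := Θ.surjective g
    rw [show Θ h = Θ.toMonoidHom h from rfl, Subgroup.mem_map_iff_mem Θ.injective, mem_iso, mem_iso]
    constructor
    · intro hh x
      have := hh (P.val *ᵥ (x ∘ e))
      rwa [show (Θ.toMonoidHom h) = Θ h from rfl, hΘ, hQT, hQT] at this
    · intro hh v
      obtain ⟨x, rfl⟩ : ∃ x : Idx k (s + 2) → F, P.val *ᵥ (x ∘ e) = v :=
        ⟨((P⁻¹).val *ᵥ v) ∘ e.symm, by
          rw [Function.comp_assoc, Equiv.symm_comp_self, Function.comp_id, Matrix.mulVec_mulVec,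
            Units.mul_inv, Matrix.one_mulVec]⟩
      rw [show (Θ.toMonoidHom h) = Θ h from rfl, hΘ, hQT, hQT, hh]
  have hΩ : omegaGL Q = (omegaGL (qT β c (s + 2))).map Θ.toMonoidHom := by
    rw [omega_comm, omega_comm, Subgroup.map_commutator, hiso]
  have hW : tensorWreathSubgroup k (s + 2) e P = (mst k (s + 2) F).map Θ.toMonoidHom := by
    rw [mst_eq_standard (by omega) (by omega), tensorWreathSubgroup, Subgroup.map_map]
    rfl
  rw [hW, hΩ, ← Subgroup.map_inf _ _ _ Θ.injective]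
  exact isMaximalIn_map Θ (std_maximal hf hk hb s)

end Cfsg.Lib.Linear.OTPow
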