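import Cfsg.Agent.Lib.Linear.OTPow.Rk

/-!
# Operators preserved by spaces invariant under the Siegel elements of one factor
-/

set_option autoImplicit false
set_option linter.unusedSectionVars false
set_option linter.unusedSimpArgs false

namespace Cfsg.Lib.Linear.OTPow

open Module Cfsg.Geo Cfsg.Lib.Linear.AschGen Cfsg.Lib.Linear.TWreath Cfsg.Lib.Linear.Orth
open Cfsg.Lib.Linear.OOTensor (qf)
open Cfsg.Lib.Linear.OOTensor.Square (Three)
open scoped Matrix MatrixGroups

variable {F : Type*} [Field F] {k t : ℕ} {β : LinearMap.BilinForm F (Fin k → F)} {c : F}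

/-- The space is invariant under the Siegel elements of the `l`-th factor. -/
def LInv (β : LinearMap.BilinForm F (Fin k → F)) (l : Fin t)
    (K : Submodule F (Matrix (Idx k t) (Idx k t) F)) : Prop :=
  ∀ u a : Fin k → F, qf β u = 0 → β u a = 0 → ∀ X ∈ K, conjA (fu l (sGL (qf β) β u a)) X ∈ K

/-- The coefficient of a matrix between two vectors of the `l`-th factor. -/
def slot (β : LinearMap.BilinForm F (Fin k → F)) (l : Fin t) (b d : Fin k → F)
    (X : Matrix (Idx k t) (Idx k t) F) : Matrix (Idx k t) (Idx k t) F :=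
  ∑ p, ∑ q, (cov β b p * d q) • comp l X p q

theorem slot_add_left (l : Fin t) (b b' d : Fin k → F) (X : Matrix (Idx k t) (Idx k t) F) :
    slot β l (b + b') d X = slot β l b d X + slot β l b' d X := by
  simp only [slot, cov, map_add, LinearMap.add_apply, add_mul, add_smul, Finset.sum_add_distrib]

theorem slot_add_right (l : Fin t) (b d d' : Fin k → F) (X : Matrix (Idx k t) (Idx k t) F) :
    slot β l b (d + d') X = slot β l b d X + slot β l b d' X := by
  simp only [slot, Pi.add_apply, mul_add, add_smul, Finset.sum_add_distrib]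

theorem slot_smul_left (l : Fin t) (r : F) (b d : Fin k → F) (X : Matrix (Idx k t) (Idx k t) F) :
    slot β l (r • b) d X = r • slot β l b d X := by
  simp only [slot, cov, map_smul, LinearMap.smul_apply, smul_eq_mul, Finset.smul_sum, smul_smul,
    mul_assoc]

theorem slot_smul_right (l : Fin t) (r : F) (b d : Fin k → F) (X : Matrix (Idx k t) (Idx k t) F) :
    slot β l b (r • d) X = r • slot β l b d X := by
  simp only [slot, Pi.smul_apply, smul_eq_mul, Finset.smul_sum, smul_smul, mul_left_comm r]

theorem slot_com (l : Fin t) (b d : Fin k → F) (X : Matrix (Idx k t) (Idx k t) F) :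
    Com l (slot β l b d X) := fun Y =>
  Commute.sum_right _ _ _ fun p _ => Commute.sum_right _ _ _ fun q _ =>
    (comp_com (i := l) (Φ := X) p q Y).smul_right _

theorem slot_com_other {l j : Fin t} (hj : j ≠ l) (b d : Fin k → F)
    {X : Matrix (Idx k t) (Idx k t) F} (h : Com j X) : Com j (slot β l b d X) := fun Y =>
  Commute.sum_right _ _ _ fun p _ => Commute.sum_right _ _ _ fun q _ =>
    (comp_com_other l X hj h p q Y).smul_right _

/-- Between two rank one maps of a factor only one coefficient remains. -/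
theorem sandwich (l : Fin t) (a b d e : Fin k → F) (X : Matrix (Idx k t) (Idx k t) F) :
    fa l (rk β a b) * X * fa l (rk β d e) = fa l (rk β a e) * slot β l b d X := by
  conv_lhs => rw [← sum_comp (i := l) (Φ := X)]
  simp only [slot, Finset.mul_sum, Finset.sum_mul, mul_smul_comm]
  refine Finset.sum_congr rfl fun p _ => Finset.sum_congr rfl fun q _ => ?_
  rw [mul_assoc, mul_assoc (fa l (sg p q)), ← (comp_com (i := l) (Φ := X) p q _).eq, ← mul_assoc,
    ← mul_assoc, ← map_mul, ← map_mul, ← smul_mul_assoc, ← map_smul]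
  congr 2
  refine mat_ext fun v => ?_
  simp only [← Matrix.mulVec_mulVec, Matrix.smul_mulVec, rk_mulVec, Matrix.mulVec_smul,
    Matrix.single_mulVec, one_mul]
  rw [show β b (Function.update 0 p (d q)) = cov β b p * d q by
    rw [show Function.update (0 : Fin k → F) p (d q) = d q • Pi.single p 1 by
      ext i; rcases eq_or_ne i p with rfl | h <;> simp [*], map_smul, smul_eq_mul, cov, mul_comm]]
  rw [smul_smul, mul_comm, smul_smul]

variable {l : Fin t} {K : Submodule F (Matrix (Idx k t) (Idx k t) F)} (hK : LInv β l K)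
include hK

theorem conj_mem {u a : Fin k → F} (hu : qf β u = 0) (hua : β u a = 0)
    {X : Matrix (Idx k t) (Idx k t) F} (hX : X ∈ K) :
    fa l (sGL (qf β) β u a).val * X * fa l ((sGL (qf β) β u a)⁻¹).val ∈ K := by
  have := hK u a hu hua X hX
  rwa [conjA_apply, fu_val, fu_inv_val] at this

variable (hf : Fm β c)
include hf

/-- The sandwich by a root element of a plane. -/
theorem op_long {x y : Fin k → F} (hx : qf β x = 0) (hy : qf β y = 0) (hxy : β x y = 0)
    {X : Matrix (Idx k t) (Idx k t) F} (hX : X ∈ K) :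
    fa l (wd β x y) * X * fa l (wd β x y) ∈ K := by
  have hy' : qf β (-y) = 0 := by rw [(factor_space hf).neg, hy]
  have hxy' : β x (-y) = 0 := by rw [map_neg, hxy, neg_zero]
  have h1 := conj_mem hK hx hxy hX
  have h2 := conj_mem hK hx hxy' hX
  rw [(long_val hf hx hxy hy).1, (long_val hf hx hxy hy).2] at h1
  rw [(long_val hf hx hxy' hy').1, (long_val hf hx hxy' hy').2, wd_neg] at h2
  have h3 := K.sub_mem (K.smul_mem (2 : F) hX) (K.add_mem h1 h2)
  simp only [map_add, map_sub, map_one, map_neg] at h3
  refine (K.smul_mem_iff hf.h2).1 ?_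
  convert h3 using 1
  simp only [two_smul]
  noncomm_ring

omit hK hf in
theorem sum_pow_eq [Fintype F] (n : ℕ) :
    ∑ s : F, s ^ n = if n ≠ 0 ∧ (Fintype.card F - 1) ∣ n then -1 else 0 := by
  classical
  rcases eq_or_ne n 0 with rfl | hn
  · simp [FiniteField.cast_card_eq_zero]
  have e : ∑ s : F, s ^ n = ∑ s : Fˣ, (s : F) ^ n := by
    rw [← Fintype.sum_subtype_add_sum_subtype (fun s : F => s ≠ 0)]
    have h0 : ∑ s : { s : F // ¬ s ≠ 0 }, (s : F) ^ n = 0 :=
      Finset.sum_eq_zero fun s _ => by rw [not_not.1 s.2, zero_pow hn]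
    rw [h0, add_zero]
    exact (Fintype.sum_equiv unitsEquivNeZero _ _ fun s => rfl).symm
  rw [e, FiniteField.sum_pow_units]
  simp [hn]

/-- The coefficients of conjugates by a one-parameter Siegel group of an anisotropic vector. -/
theorem op_poly [Finite F] (hq : 5 ≤ Nat.card F) {x e : Fin k → F} (hx : qf β x = 0) (hxe : β x e = 0)
    {X : Matrix (Idx k t) (Idx k t) F} (hX : X ∈ K) :
    (qf β e * qf β e) • (fa l (rk β x x) * X * fa l (rk β x x)) ∈ K ∧
      qf β e • (fa l (rk β x x) * X + X * fa l (rk β x x))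
        + fa l (wd β x e) * X * fa l (wd β x e) ∈ K := by
  haveI := Fintype.ofFinite F
  classical
  set A := fa l (wd β x e)
  set B := qf β e • fa l (rk β x x)
  have hs : ∀ s : F, β x (s • e) = 0 := fun s => by rw [map_smul, hxe, smul_zero]
  let co : ℕ → Matrix (Idx k t) (Idx k t) F := fun j =>
    if j = 0 then X else if j = 1 then A * X - X * A else if j = 2 then -(B * X + X * B + A * X * A)
    else if j = 3 then B * X * A - A * X * B else B * X * B
  have hexp : ∀ s : F, fa l (sGL (qf β) β x (s • e)).val * X * fa l ((sGL (qf β) β x (s • e))⁻¹).val =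
      ∑ j ∈ Finset.range 5, s ^ j • co j := fun s => by
    have hw : wd β x (s • e) = s • wd β x e := by
      simp only [wd, rk_smul_left, rk_smul_right, smul_sub]
    rw [sgl_inv hf hx (hs s), sgl_val hf hx (hs s), sgl_val hf hx (by rw [map_neg, hs s, neg_zero]),
      wd_neg, (factor_space hf).neg, (factor_space hf).smul, hw]
    set_option maxRecDepth 4000 in simp only [map_sub, map_add, map_neg, map_one, map_smul, Finset.sum_range_succ, Finset.sum_range_zero,
      zero_add, co, A, B, Nat.one_ne_zero, if_false, if_true, reduceIte, OfNat.ofNat_ne_zero,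
      OfNat.ofNat_ne_one, pow_zero, one_smul, pow_one, smul_mul_assoc, mul_smul_comm,
      add_mul, sub_mul, mul_add, mul_sub, one_mul, mul_one, neg_mul, mul_neg, smul_add, smul_sub,
      smul_neg, smul_smul, Nat.reduceEqDiff]
    match_scalars <;> ring
  have hmem : ∀ j, ∀ m : ℕ, j < 5 → (∀ i, i < 5 → i ≠ j → ¬ (m + i ≠ 0 ∧ (Fintype.card F - 1) ∣ (m + i))) →
      (m + j ≠ 0 ∧ (Fintype.card F - 1) ∣ (m + j)) → co j ∈ K := by
    intro j m hj ho hm
    have h1 : ∑ s : F, s ^ m • (∑ i ∈ Finset.range 5, s ^ i • co i) ∈ K :=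
      K.sum_mem fun s _ => K.smul_mem _ (hexp s ▸ conj_mem hK hx (hs s) hX)
    simp only [Finset.smul_sum, smul_smul, ← pow_add] at h1
    rw [Finset.sum_comm, Finset.sum_eq_single j] at h1
    · rw [← Finset.sum_smul, sum_pow_eq, if_pos hm, neg_one_smul] at h1
      exact (K.neg_mem_iff).1 h1
    · intro i hi hne
      rw [← Finset.sum_smul, sum_pow_eq, if_neg (ho i (Finset.mem_range.1 hi) hne), zero_smul]
    · exact fun h => absurd (Finset.mem_range.2 hj) h
  rw [Nat.card_eq_fintype_card] at hq
  set n := Fintype.card F - 1 with hn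
  have hdvd : ∀ a, 0 < a → a < 2 * n → n ∣ a → a = n := by
    rintro a h0 h2 ⟨r, rfl⟩
    rcases r with _ | _ | r
    · simp at h0
    · simp
    · exfalso; nlinarith
  constructor
  · have h4 : co 4 ∈ K := by
      refine hmem 4 (n - 4) (by omega) (fun i hi hne h => ?_) ⟨by omega, by rw [Nat.sub_add_cancel (by omega)]⟩
      have := hdvd _ (by omega) (by omega) h.2
      omega
    simpa [co, B, smul_mul_assoc, mul_smul_comm, smul_smul] using h4
  · have h2 : co 2 ∈ K := by
      refine hmem 2 (n - 2) (by omega) (fun i hi hne h => ?_) ⟨by omega, by rw [Nat.sub_add_cancel (by omega)]⟩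
      have := hdvd _ (by omega) (by omega) h.2
      omega
    convert K.neg_mem h2 using 1
    simp [co, A, B, smul_mul_assoc, mul_smul_comm, smul_add]

/-- The sandwich by a singular rank one map. -/
theorem opE [Finite F] (hb : Big F k) {x : Fin k → F} (hx : qf β x = 0)
    {X : Matrix (Idx k t) (Idx k t) F} (hX : X ∈ K) :
    fa l (rk β x x) * X * fa l (rk β x x) ∈ K := by
  rcases eq_or_ne x 0 with rfl | hx0
  · rw [show rk β (0 : Fin k → F) 0 = 0 from mat_ext fun v => by simp [rk_mulVec], map_zero, zero_mul,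
      zero_mul]
    exact K.zero_mem
  obtain ⟨f, H⟩ := exists_hyp_at hf hx hx0
  rcases hb with h5 | ⟨h3, hq⟩
  · obtain ⟨y, z, G⟩ := exists_pair2 hf h5 H
    obtain ⟨-, hy1, -⟩ := mem_perp2.1 G.memE
    obtain ⟨-, hz1, -⟩ := mem_perp2.1 G.memF
    have h := op_long hK hf hx G.singF hz1 (op_long hK hf hx G.singE hy1 hX)
    have e1 := wd_mul_wd hf hx hy1 hz1
    have e2 := wd_mul_wd hf hx hz1 hy1
    rw [hf.sym z y, G.pair, neg_one_smul] at e1
    rw [G.pair, neg_one_smul] at e2
    simp only [← mul_assoc] at h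
    rw [← map_mul, e1, mul_assoc, ← map_mul, e2] at h
    simpa using h
  · obtain ⟨e, he, hQe⟩ := exists_nonsing (factor_space hf)
      (H.ndeg (factor_space hf) (factor_space hf).ndeg_top) (fun h => by
        have h1 := H.le_finrank (factor_space hf)
        rw [h, finrank_bot, finrank_top, finrank_fintype_fun_eq_card, Fintype.card_fin] at h1
        omega)
    exact (K.smul_mem_iff (mul_ne_zero hQe hQe)).1 (op_poly hK hf hq hx (mem_perp2.1 he).2.1 hX).1

end Cfsg.Lib.Linear.OTPow
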