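import Cfsg.Agent.Lib.Linear.OTPow.Conj

/-!
# Slabs in dimension three over the field with five elements

The long parts of the elements preserving a slab form a finite set permuted by the group. Either its
sum shows that they vanish, or a group of Siegel elements fixes a non-zero one, whose element maps
every slab to a slab and therefore has no long part.
-/

set_option autoImplicit false
set_option linter.unusedSectionVars false
set_option linter.unusedSimpArgs false

namespace Cfsg.Lib.Linear.OTPow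

open Module Cfsg.Geo Cfsg.Lib.Linear.AschGen Cfsg.Lib.Linear.TWreath Cfsg.Lib.Linear.Orth
open Cfsg.Lib.Linear.OOTensor (qf Ten cj cj_apply)
open scoped Matrix MatrixGroups

variable {F : Type*} [Field F] {k t : ℕ} {β : LinearMap.BilinForm F (Fin k → F)} {c : F}
  {G : Subgroup (GL (Idx k (t + 1)) F)}

variable (hf : Fm β c)
include hf

theorem mkGL_one (i : Fin (t + 1)) (P : GL (Idx k t) F) : (split hf i).mkGL P 1 = psiU i P :=
  (split hf i).gl_ext fun a w => by
    rw [(split hf i).mkGL_act, Units.val_one, Matrix.one_mulVec, psiU_val, psi_tau]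

/-- The long parts of the elements preserving a slab. -/
def Kap (G : Subgroup (GL (Idx k (t + 1)) F)) (i : Fin (t + 1)) (x : Fin k → F)
    (φ : Module.End F (Idx k t → F)) : Prop :=
  ∃ (p : GL (Idx k t) F) (q : GL (Fin k) F) (ν : F) (n l : GL (Idx k (t + 1)) F),
    n ∈ G ∧ ν ≠ 0 ∧ q.val *ᵥ x = x ∧
    (∀ w w', β (q.val *ᵥ w) (q.val *ᵥ w') = ν * β w w') ∧
    (∀ a b, bT β c t (p.val *ᵥ a) (p.val *ᵥ b) = ν⁻¹ * bT β c t a b) ∧
    (∀ a b, bT β c t (φ a) b = -bT β c t a (φ b)) ∧
    (∀ v, l.val *ᵥ v = v + (split hf i).long x φ v) ∧ n = (split hf i).mkGL p q * l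

/-- The action on the long parts by right multiplication with a factorwise element. -/
theorem long_conj {i : Fin (t + 1)} {x : Fin k → F} {p : GL (Idx k t) F} {q : GL (Fin k) F} {ν : F}
    (hqx : q.val *ᵥ x = x) (hq : ∀ w w', β (q.val *ᵥ w) (q.val *ᵥ w') = ν * β w w')
    {φ : Module.End F (Idx k t → F)} {l : GL (Idx k (t + 1)) F}
    (hl : ∀ v, l.val *ᵥ v = v + (split hf i).long x φ v) (v : Idx k (t + 1) → F) :
    (((split hf i).mkGL p q)⁻¹ * l * (split hf i).mkGL p q).val *ᵥ v =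
      v + (split hf i).long x (ν • cj p⁻¹ φ) v := by
  set T := split hf i
  apply Orth.act_injective (T.mkGL p q)
  show (T.mkGL p q).val *ᵥ _ = (T.mkGL p q).val *ᵥ _
  rw [mul_act, mul_act, act_inv, hl, Matrix.mulVec_add]
  congr 1
  refine LinearMap.congr_fun (T.hom_ext (f := T.long x φ ∘ₗ Matrix.mulVecLin (T.mkGL p q).val)
    (g := Matrix.mulVecLin (T.mkGL p q).val ∘ₗ T.long x (ν • cj p⁻¹ φ)) fun a w => ?_) v
  simp only [LinearMap.comp_apply, Matrix.mulVecLin_apply, T.mkGL_act, T.long_tau, LinearMap.smul_apply,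
    map_smul, Matrix.mulVec_smul, cj_apply, inv_inv, act_inv, hqx, smul_smul]
  congr 1
  conv_lhs => arg 2; rw [← hqx]
  rw [hq, mul_comm]

theorem Kap.trans {i : Fin (t + 1)} {x : Fin k → F} (hx : qf β x = 0) {p₀ : GL (Idx k t) F}
    {q₀ : GL (Fin k) F} {ν₀ : F} {φ₀ : Module.End F (Idx k t → F)} {n₀ l₀ : GL (Idx k (t + 1)) F}
    (hn : n₀ ∈ G) (hν : ν₀ ≠ 0) (hqx : q₀.val *ᵥ x = x)
    (hq : ∀ w w', β (q₀.val *ᵥ w) (q₀.val *ᵥ w') = ν₀ * β w w')
    (hp : ∀ a b, bT β c t (p₀.val *ᵥ a) (p₀.val *ᵥ b) = ν₀⁻¹ * bT β c t a b)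
    (hφ : ∀ a b, bT β c t (φ₀ a) b = -bT β c t a (φ₀ b))
    (hl : ∀ v, l₀.val *ᵥ v = v + (split hf i).long x φ₀ v) (e : n₀ = (split hf i).mkGL p₀ q₀ * l₀)
    {φ : Module.End F (Idx k t → F)} (h : Kap hf G i x φ) :
    Kap hf G i x (ν₀ • cj p₀⁻¹ φ + φ₀) := by
  obtain ⟨p, q, ν, n, l, hnG, hν', hqx', hq', hp', hφ', hl', e'⟩ := h
  set T := split hf i
  refine ⟨p * p₀, q * q₀, ν * ν₀, n * n₀, ((T.mkGL p₀ q₀)⁻¹ * l * T.mkGL p₀ q₀) * l₀,
    mul_mem hnG hn, mul_ne_zero hν' hν, by rw [mul_act, hqx, hqx'], fun w w' => ?_, fun a b => ?_,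
    fun a b => ?_, fun v => ?_, ?_⟩
  · rw [mul_act, mul_act, hq', hq, mul_assoc]
  · rw [mul_act, mul_act, hp', hp, mul_inv, mul_assoc]
  · have h1 : ∀ a b, bT β c t ((cj p₀⁻¹ φ) a) b = -bT β c t a ((cj p₀⁻¹ φ) b) := fun a b => by
      simp only [cj_apply, inv_inv]
      refine mul_left_cancel₀ (inv_ne_zero hν) ?_
      rw [mul_neg, ← hp, ← hp, act_inv, act_inv, hφ']
    simp only [LinearMap.add_apply, LinearMap.smul_apply, map_add, map_smul, smul_eq_mul, h1, hφ]
    ring
  · rw [mul_act, hl, long_conj hf hqx hq hl']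
    simp only [map_add, T.long_apply, map_smul, LinearMap.add_apply, LinearMap.smul_apply, T.ctr_tau,
      T.qf_zero.1 hx, zero_smul, smul_zero, map_zero, LinearMap.zero_apply, add_zero]
    abel
  · rw [e', e, ← T.mkGL_mul]
    group

/-- A long element acting factorwise is trivial. -/
theorem long_pure {i : Fin (t + 1)} (hk : 0 < k) {x f : Fin k → F} (H : Hyp (qf β) β ⊤ x f)
    {φ : Module.End F (Idx k t → F)} (hφ : ∀ a b, bT β c t (φ a) b = -bT β c t a (φ b))
    {l : GL (Idx k (t + 1)) F} (hl : ∀ v, l.val *ᵥ v = v + (split hf i).long x φ v)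
    (hp : OOTensor.Pure (tau i) l) : φ = 0 := by
  obtain ⟨P, Q, hPQ⟩ := hp
  set T := split hf i
  have C := factor_space hf
  have h1 : ∀ a, tau i a x = tau i (P.val *ᵥ a) (Q.val *ᵥ x) := fun a => by
    rw [← hPQ, hl, T.long_tau, C.self_zero H.singE, zero_smul, add_zero]
  have h2 : ∀ a, tau i a f + tau i (φ a) x = tau i (P.val *ᵥ a) (Q.val *ᵥ f) := fun a => by
    rw [← hPQ, hl, T.long_tau, H.pair' C, one_smul]
  set μ := β (Q.val *ᵥ x) f
  have hP : ∀ a, μ • (P.val *ᵥ a) = a := fun a => by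
    have := congrArg (T.ctr f) (h1 a)
    rw [T.ctr_tau, T.ctr_tau, H.pair, one_smul] at this
    exact this.symm
  obtain ⟨u, hu⟩ := T.exists_aniso_left (Fintype.card_pos_iff.2 ⟨fun _ => ⟨0, hk⟩⟩)
  have hμ : μ ≠ 0 := fun e => hu (by rw [← hP u, e, zero_smul]; simp)
  set s := μ⁻¹ * β (Q.val *ᵥ f) f
  have hs : ∀ a, φ a = s • a := fun a => by
    have := congrArg (T.ctr f) (h2 a)
    rw [map_add, T.ctr_tau, T.ctr_tau, T.ctr_tau, H.pair, C.self_zero H.singF, zero_smul, one_smul,
      zero_add] at this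
    rw [this, show P.val *ᵥ a = μ⁻¹ • a from (eq_inv_smul_iff₀ hμ).2 (hP a), smul_smul, mul_comm]
  have h3 := hφ u u
  rw [hs, map_smul, LinearMap.smul_apply, map_smul, smul_eq_mul] at h3
  have hs0 : s = 0 := by
    have h4 : (2 : F) * (s * bT β c t u u) = 0 := by linear_combination h3
    exact (mul_eq_zero.1 ((mul_eq_zero.1 h4).resolve_left hf.h2)).resolve_right hu
  exact LinearMap.ext fun a => by rw [hs, hs0, zero_smul, LinearMap.zero_apply]

/-- An element permuting the factors and preserving a slab fixes the factor. -/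
theorem acts_of_fix (hk : 2 ≤ k) {i : Fin (t + 1)} {x : Fin k → F} (hx : qf β x = 0) (hx0 : x ≠ 0)
    {g : GL (Idx k (t + 1)) F} (hg : g ∈ mst k (t + 1) F) (hc : Carry g i x i x) :
    ∃ A, Acts g i i A := by
  obtain ⟨σ, hσ⟩ := hg
  obtain ⟨A, hA⟩ := hσ i
  by_cases hne : σ i = i
  · exact ⟨A, by rwa [hne] at hA⟩
  exfalso
  set y := A.val *ᵥ x with hy
  have hinv := carry_acts hf (by omega) hA.inv y
  rw [hy, inv_act] at hinv
  have hprod : fa i (rk β x x) * fa (σ i) (rk β y y) = 0 := mat_ext fun v => by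
    rw [Matrix.zero_mulVec, ← Matrix.mulVec_mulVec, fa_rk_mulVec hf (σ i)]
    obtain ⟨u', hu'⟩ := hinv ((split hf (σ i)).ctr y v)
    obtain ⟨u'', hu''⟩ := hc u'
    rw [← act_inv g (tau (σ i) ((split hf (σ i)).ctr y v) y), hu', hu'', fa_tau, rk_mulVec,
      (factor_space hf).self_zero hx, zero_smul, map_zero]
  exact rk_ne hf (Orth.act_ne_zero hx0) (fa_injective (by omega) _
    ((eq_zero_of_fa_mul (rk_ne hf hx0) (com_fa (Ne.symm hne) _) hprod).trans (map_zero _).symm))

variable {p : ℕ} [Fact p.Prime] [CharP F p]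

/-- **Preserving a slab means permuting the factors**, in dimension three when minus one is a square. -/
theorem Ctx.slab_five [Finite F] (hC : Ctx hf G) (hk : k = 3) (hp : 5 ≤ p) (hq : ∃ s : F, s ≠ 0 ∧ s * s = -1)
    (h3 : (3 : F) ≠ 0) : SlabMst G β := by
  classical
  intro i x hx hx0 g hg hcar
  have C := factor_space hf
  have hk0 : 0 < k := by omega
  obtain ⟨f, e, D⟩ := OOTensor.Square.exists_three_at C hf.h2 (by simpa using hk) hx hx0
  have H : Hyp (qf β) β ⊤ x f := D.hyp
  set T := split hf i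
  obtain ⟨s₂, hs₂0, hs₂⟩ := hq
  have hb : 5 ≤ Fintype.card (Fin k) ∨ (Fintype.card (Fin k) = 3 ∧ ∃ r : F, r ≠ 0 ∧ r * r ≠ 1) :=
    Or.inr ⟨by simpa using hk, s₂, hs₂0, fun e' => by
      rw [hs₂] at e'
      exact hf.h2 (by linear_combination -e')⟩
  have hstab : ∀ {j : Fin (t + 1)} {n : GL (Idx k (t + 1)) F}, n ∈ G → Carry n j x j x →
      ∃ φ, Kap hf G j x φ ∧ ∃ (p₀ : GL (Idx k t) F) (q₀ : GL (Fin k) F) (ν₀ : F) (l₀ : GL (Idx k (t + 1)) F),
        ν₀ ≠ 0 ∧ q₀.val *ᵥ x = x ∧ (∀ w w', β (q₀.val *ᵥ w) (q₀.val *ᵥ w') = ν₀ * β w w') ∧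
        (∀ a b, bT β c t (p₀.val *ᵥ a) (p₀.val *ᵥ b) = ν₀⁻¹ * bT β c t a b) ∧
        (∀ a b, bT β c t (φ a) b = -bT β c t a (φ b)) ∧
        (∀ v, l₀.val *ᵥ v = v + (split hf j).long x φ v) ∧ n = (split hf j).mkGL p₀ q₀ * l₀ := by
    intro j n hn hc
    obtain ⟨p₀, q₀, ν₀, φ, l₀, a1, a2, a3, a4, a5, a6, a7⟩ := stab_form (split hf j) H
      (Ctx.side hf hC j) (Ctx.idx_pos hf hC) hb (fun hg hu => Ctx.uni hf hC H hg hu) hn hc
    exact ⟨φ, ⟨p₀, q₀, ν₀, n, l₀, hn, a1, a2, a3, a4, a5, a6, a7⟩, p₀, q₀, ν₀, l₀, a1, a2, a3, a4, a5,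
      a6, a7⟩
  -- the set of long parts
  haveI : Finite (Module.End F (Idx k t → F)) := Finite.of_injective _ LinearMap.toMatrix'.injective
  haveI := Fintype.ofFinite (Module.End F (Idx k t → F))
  let K : Finset (Module.End F (Idx k t → F)) := Finset.univ.filter fun φ => Kap hf G i x φ
  have memK : ∀ {φ}, φ ∈ K ↔ Kap hf G i x φ := fun {φ} => by simp [K]
  have hroot : ∀ (j : Fin t) (h : GL (Fin k) F), h ∈ Root (qf β) β ⊤ → ∀ φ ∈ K, cj (fu j h) φ ∈ K := by
    intro j h hh φ hφ
    have h1 := Kap.trans hf (p₀ := fu j h⁻¹) (q₀ := 1) (ν₀ := 1) (φ₀ := 0) (l₀ := 1) hx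
      (hC.ov.root (i.succAbove j) (inv_mem hh)) one_ne_zero (by simp) (by simp) (fun a b => by
        rw [inv_one, one_mul]
        refine (qT_space hf).B_act ((Ov.cut0 hf hC.ov hk0 i).le ?_) a b
        show psiU i _ ∈ G
        rw [psiU_fu]
        exact hC.ov.root _ (inv_mem hh)) (by simp) (fun v => by simp [(split hf i).long_apply]) (by
        rw [mkGL_one hf, psiU_fu, mul_one]) (memK.1 hφ)
    rw [one_smul, add_zero, map_inv, inv_inv] at h1
    exact memK.2 h1
  have h0K : (0 : Module.End F (Idx k t → F)) ∈ K := memK.2 ⟨1, 1, 1, 1, 1, one_mem _, one_ne_zero,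
    by simp, by simp, by simp, by simp, fun v => by simp [(split hf i).long_apply], by
      rw [mkGL_one hf, map_one, one_mul]⟩
  obtain ⟨φg, -, pg, qg, νg, lg, b1, b2, b3, b4, b5, b6, b7⟩ := hstab hg hcar
  suffices hall : ∀ φ ∈ K, φ = 0 by
    have hφ0 := hall φg (memK.2 ⟨pg, qg, νg, g, lg, hg, b1, b2, b3, b4, b5, b6, b7⟩)
    refine Ctx.mem_mst_of_pure hf hC (i := i) hg ⟨pg, qg, fun a w => ?_⟩
    rw [b7, mul_act, b6, hφ0, T.long_apply]
    simp [T.mkGL_act]
  by_cases hcard : (K.card : F) = 0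
  swap
  · -- the sum
    set S := ∑ φ ∈ K, φ with hS
    have hSinv : ∀ (j : Fin t) (h : GL (Fin k) F), h ∈ Root (qf β) β ⊤ → cj (fu j h) S = S := by
      intro j h hh
      rw [hS, map_sum]
      refine Finset.sum_bij' (fun φ _ => cj (fu j h) φ) (fun φ _ => cj (fu j h⁻¹) φ)
        (fun φ hφ => hroot j h hh φ hφ) (fun φ hφ => hroot j _ (inv_mem hh) φ hφ)
        (fun φ _ => ?_) (fun φ _ => ?_) fun φ _ => rfl
      · rw [← Module.End.mul_apply, ← OOTensor.cj_mul, ← map_mul, inv_mul_cancel, map_one]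
        exact LinearMap.ext fun v => by simp [cj_apply]
      · rw [← Module.End.mul_apply, ← OOTensor.cj_mul, ← map_mul, mul_inv_cancel, map_one]
        exact LinearMap.ext fun v => by simp [cj_apply]
    have hS0 : S = 0 := by
      set M := LinearMap.toMatrix' S with hM
      obtain ⟨r, hr⟩ := scalar_of_com hk0 (Φ := M) fun j X => by
        have hmem := big_alg_top hf (by omega) (Subalgebra.centralizer F {M}) (fun l u a hu hua => by
          rw [Subalgebra.mem_centralizer_iff]
          rintro _ rfl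
          have h1 := hSinv l _ (sGL_mem_root trivial trivial hu hua)
          refine mat_ext fun v => ?_
          have h2 := LinearMap.congr_fun h1 ((fu l (sGL (qf β) β u a)).val *ᵥ v)
          rw [OOTensor.cj_act, fu_val] at h2
          simp only [← Matrix.mulVec_mulVec, hM, LinearMap.toMatrix'_mulVec]
          exact h2.symm) (fa j X)
        rw [Subalgebra.mem_centralizer_iff] at hmem
        exact (hmem M rfl).symm
      have hskew : ∀ a b, bT β c t (S a) b = -bT β c t a (S b) := fun a b => by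
        simp only [hS, LinearMap.coe_sum, Finset.sum_apply, map_sum, LinearMap.sum_apply,
          ← Finset.sum_neg_distrib]
        refine Finset.sum_congr rfl fun φ hφ => ?_
        obtain ⟨_, _, _, _, _, -, -, -, -, -, h, -, -⟩ := memK.1 hφ
        exact h a b
      obtain ⟨u, hu⟩ := T.exists_aniso_left (Ctx.idx_pos hf hC)
      have hSa : ∀ a, S a = r • a := fun a => by
        rw [← LinearMap.toMatrix'_mulVec S, ← hM, hr, Matrix.smul_mulVec, Matrix.one_mulVec]
      have h4 := hskew u u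
      rw [hSa, map_smul, LinearMap.smul_apply, map_smul, smul_eq_mul] at h4
      have h5 : (2 : F) * (r * bT β c t u u) = 0 := by linear_combination h4
      have hr0 := (mul_eq_zero.1 ((mul_eq_zero.1 h5).resolve_left hf.h2)).resolve_right hu
      exact LinearMap.ext fun a => by rw [hSa, hr0, zero_smul, LinearMap.zero_apply]
    intro φ₀ hφ₀
    obtain ⟨p₀, q₀, ν₀, n₀, l₀, a0, a1, a2, a3, a4, a5, a6, a7⟩ := memK.1 hφ₀
    let T₀ : Module.End F (Idx k t → F) → Module.End F (Idx k t → F) := fun φ => ν₀ • cj p₀⁻¹ φ + φ₀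
    have hinj : Function.Injective T₀ := fun φ ψ h => by
      have h1 := smul_right_injective _ a1 (add_right_cancel h)
      refine LinearMap.ext fun v => Orth.act_injective p₀⁻¹ ?_
      show (p₀⁻¹).val *ᵥ φ v = (p₀⁻¹).val *ᵥ ψ v
      rw [← OOTensor.cj_act, ← OOTensor.cj_act, h1]
    have himg : K.image T₀ = K := Finset.eq_of_subset_of_card_le
      (fun φ hφ => by
        obtain ⟨ψ, hψ, rfl⟩ := Finset.mem_image.1 hφ
        exact memK.2 (Kap.trans hf hx a0 a1 a2 a3 a4 a5 a6 a7 (memK.1 hψ)))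
      (le_of_eq (Finset.card_image_of_injective _ hinj).symm)
    have h6 : S = ν₀ • cj p₀⁻¹ S + (K.card : F) • φ₀ := by
      conv_lhs => rw [hS, ← himg, Finset.sum_image hinj.injOn]
      simp only [T₀, Finset.sum_add_distrib, ← Finset.smul_sum, Finset.sum_const,
        Nat.cast_smul_eq_nsmul]
      rw [hS, map_sum]
    rw [hS0, map_zero, smul_zero, zero_add, eq_comm, smul_eq_zero] at h6
    exact h6.resolve_left hcard
  -- the fixed points
  exfalso
  set u := fun j : Fin t => fu j (sGL (qf β) β x e) with hu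
  have hs : sGL (qf β) β x e ∈ Root (qf β) β ⊤ := sGL_mem_root trivial trivial hx D.xe
  have hpow : ∀ n : ℕ, sGL (qf β) β x e ^ n = sGL (qf β) β x ((n : F) • e) := fun n => by
    induction n with
    | zero => rw [pow_zero, Nat.cast_zero, zero_smul, SpTensor.sGL_zero_right C hx]
    | succ n ih =>
      rw [pow_succ, ih, sGL_mul C hx (by rw [map_smul, D.xe, smul_zero]) D.xe, Nat.cast_succ,
        add_smul, one_smul]
  let fix : Finset (Fin t) → Finset (Module.End F (Idx k t → F)) :=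
    fun J => K.filter fun φ => ∀ j ∈ J, cj (u j) φ = φ
  have hfix : ∀ J, (fix J).card ≡ K.card [MOD p] := by
    intro J
    induction J using Finset.induction_on with
    | empty => simp [fix, Nat.ModEq.refl]
    | insert j J _ ih =>
      refine Nat.ModEq.trans ?_ ih
      have hmap : ∀ φ, φ ∈ fix J ↔ cj (u j) φ ∈ fix J := by
        have hcomm : ∀ j', cj (u j') * cj (u j) = (cj (u j) * cj (u j') :
            Module.End F (Module.End F (Idx k t → F))) := fun j' => by
          rw [← OOTensor.cj_mul, ← OOTensor.cj_mul]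
          congr 1
          rcases eq_or_ne j' j with rfl | h
          · rfl
          · exact Units.ext (fa_comm h _ _).eq
        have hinjc : Function.Injective (cj (u j)) := fun φ ψ h => LinearMap.ext fun v => by
          refine Orth.act_injective (u j) ?_
          show (u j).val *ᵥ φ v = (u j).val *ᵥ ψ v
          rw [← OOTensor.cj_act, ← OOTensor.cj_act, h]
        intro φ
        simp only [fix, Finset.mem_filter]
        constructor
        · rintro ⟨hφ, hJ⟩
          exact ⟨hroot j _ hs φ hφ, fun j' hj' => by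
            rw [← Module.End.mul_apply, hcomm, Module.End.mul_apply, hJ j' hj']⟩
        · rintro ⟨hφ, hJ⟩
          refine ⟨?_, fun j' hj' => hinjc ?_⟩
          · have h1 := hroot j _ (inv_mem hs) _ hφ
            rw [← Module.End.mul_apply, ← OOTensor.cj_mul, hu, ← map_mul, inv_mul_cancel, map_one] at h1
            convert h1 using 1
            exact LinearMap.ext fun v => by simp [cj_apply]
          · rw [← Module.End.mul_apply, ← hcomm, Module.End.mul_apply, hJ j' hj']
      let ce : Module.End F (Idx k t → F) ≃ Module.End F (Idx k t → F) :=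
        { toFun := cj (u j)
          invFun := cj (u j)⁻¹
          left_inv := fun φ => LinearMap.ext fun v => by simp [cj_apply]
          right_inv := fun φ => LinearMap.ext fun v => by simp [cj_apply] }
      let σ : Equiv.Perm {φ // φ ∈ fix J} := ce.subtypeEquiv hmap
      have hσn : ∀ (n : ℕ) (φ : {φ // φ ∈ fix J}), ((σ ^ n) φ).1 = cj (u j ^ n) φ.1 := fun n => by
        induction n with
        | zero => intro φ; exact LinearMap.ext fun v => by simp [cj_apply]
        | succ n ih =>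
          intro φ
          rw [pow_succ', Equiv.Perm.mul_apply, pow_succ', OOTensor.cj_mul, Module.End.mul_apply, ← ih]
          rfl
      have hσ : σ ^ p ^ 1 = 1 := Equiv.ext fun φ => Subtype.ext <| by
        rw [pow_one, hσn, hu, ← map_pow, hpow, CharP.cast_eq_zero, zero_smul,
          SpTensor.sGL_zero_right C hx, map_one]
        exact LinearMap.ext fun v => by simp [cj_apply]
      have h1 := Equiv.Perm.card_compl_support_modEq hσ
      rw [Fintype.card_coe] at h1
      convert h1 using 1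
      refine Finset.card_bij (fun φ hφ => ⟨φ, ?_⟩) (fun φ hφ => ?_) (fun a _ b _ h => congrArg Subtype.val h)
        fun φ hφ => ⟨φ.1, ?_, rfl⟩
      · simp only [fix, Finset.mem_filter, Finset.mem_insert] at hφ ⊢
        exact ⟨hφ.1, fun j' hj' => hφ.2 j' (Or.inr hj')⟩
      · simp only [fix, Finset.mem_filter, Finset.mem_insert] at hφ
        rw [Finset.mem_compl, Equiv.Perm.notMem_support]
        exact Subtype.ext (hφ.2 j (Or.inl rfl))
      · rw [Finset.mem_compl, Equiv.Perm.notMem_support] at hφ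
        have h3' := φ.2
        simp only [fix, Finset.mem_filter, Finset.mem_insert] at h3' ⊢
        refine ⟨h3'.1, fun j' hj' => ?_⟩
        rcases hj' with rfl | hj'
        · exact congrArg Subtype.val hφ
        · exact h3'.2 j' hj'
  obtain ⟨φ, hφ, hφ0⟩ : ∃ φ ∈ fix Finset.univ, φ ≠ 0 := by
    have hz : (0 : Module.End F (Idx k t → F)) ∈ fix Finset.univ := by simp [fix, h0K]
    have hd : p ∣ (fix Finset.univ).card :=
      Nat.modEq_zero_iff_dvd.1 ((hfix _).trans (Nat.modEq_zero_iff_dvd.2 ((CharP.cast_eq_zero_iff F p _).1 hcard)))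
    have : 1 < (fix Finset.univ).card := by
      have h1 := Nat.le_of_dvd (Finset.card_pos.2 ⟨0, hz⟩) hd
      omega
    exact Finset.exists_mem_ne this 0
  simp only [fix, Finset.mem_filter, Finset.mem_univ, forall_true_left] at hφ
  obtain ⟨hφK, hφu⟩ := hφ
  obtain ⟨p₀, q₀, ν₀, n, l, hn, a1, a2, a3, a4, a5, a6, a7⟩ := memK.1 hφK
  have hcn : Carry n i x i x := fun v => ⟨p₀.val *ᵥ v, by
    rw [a7, mul_act, a6, T.long_tau, C.self_zero hx, zero_smul, add_zero, T.mkGL_act, a2]⟩
  have hlh : ∀ (h : GL (Idx k t) F), cj h φ = φ → l * psiU i h = psiU i h * l := fun h hh =>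
    T.gl_ext fun a w => by
      rw [mul_act, mul_act, psiU_val, psi_tau, a6, a6, T.long_tau, T.long_tau, Matrix.mulVec_add,
        Matrix.mulVec_smul, psi_tau, psi_tau]
      congr 3
      conv_lhs => rw [← hh]
      rw [OOTensor.cj_act]
  have hpsiG : ∀ h, psiU i h = T.mkGL h 1 := fun h => (mkGL_one hf i h).symm
  have hmkconj : ∀ h, T.mkGL p₀ q₀ * psiU i h * (T.mkGL p₀ q₀)⁻¹ = psiU i (p₀ * h * p₀⁻¹) := fun h => by
    rw [mul_inv_eq_iff_eq_mul, hpsiG, hpsiG, T.mkGL_mul, T.mkGL_mul, mul_one, one_mul,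
      inv_mul_cancel_right]
  have hU : ∀ j, n * psiU i (u j) * n⁻¹ ∈ mst k (t + 1) F := fun j => by
    have hG' : psiU i (u j) ∈ G := by rw [hu, psiU_fu]; exact hC.ov.root _ hs
    have e1 : n * psiU i (u j) * n⁻¹ = psiU i (p₀ * u j * p₀⁻¹) := by
      rw [← hmkconj, a7, mul_assoc _ l, hlh _ (hφu j)]
      group
    refine Ctx.mem_mst_of_pure hf hC (i := i) (mul_mem (mul_mem hn hG') (inv_mem hn)) ?_
    rw [e1, hpsiG]
    exact ⟨_, _, T.mkGL_act _ _⟩
  obtain ⟨τ₀, hτ, hτx, hτe⟩ := D.exists_torus hs₂0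
  rw [hs₂, neg_one_smul] at hτx
  have hT : ∀ j, cj (fu j τ₀) φ = φ := by
    intro j
    set l' := i.succAbove j with hl'
    obtain ⟨l'', y, hy⟩ := Ctx.conj_carry5 hf hC hk hp h3 hn (i := l') hx hx0 D.xe D.ns (by
      have := hU j; rwa [hu, psiU_fu] at this)
    obtain ⟨m, hm, hmm, hc'⟩ := Ctx.exists_back hf hC hn hx hx0 hy
    obtain ⟨φ', -, p', q', ν', l₁, c1, c2, c3, c4, c5, c6, c7⟩ := hstab (mul_mem hm hn) hc'
    set T' := split hf l'
    have hl₁ : l₁ * fu l' τ₀ = fu l' τ₀ * l₁ := T'.gl_ext fun a w => by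
      rw [mul_act, mul_act, fu_val, fa_tau, c6, c6, T'.long_tau, T'.long_tau, Matrix.mulVec_add,
        Matrix.mulVec_smul, fa_tau, fa_tau, hτx, map_neg, smul_neg, ← neg_smul]
      congr 2
      have h1 := C.B_act (root_le_iso C _ hτ) x w
      rw [hτx, map_neg, LinearMap.neg_apply] at h1
      rw [C.symm (τ₀.val *ᵥ w) x, C.symm w x]
      linear_combination -h1
    have hTin : (m * n) * fu l' τ₀ * (m * n)⁻¹ ∈ mst k (t + 1) F := by
      rw [c7, mul_assoc _ l₁, hl₁]
      have e1 : T'.mkGL p' q' * (fu l' τ₀ * l₁) * (T'.mkGL p' q' * l₁)⁻¹ =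
          fu l' (q' * τ₀ * q'⁻¹) := by
        have e2 : T'.mkGL p' q' * fu l' τ₀ = fu l' (q' * τ₀ * q'⁻¹) * T'.mkGL p' q' :=
          T'.gl_ext fun a w => by
            rw [mul_act, mul_act, T'.mkGL_act, fu_val, fu_val, fa_tau, fa_tau, T'.mkGL_act,
              mul_act, mul_act, inv_act]
        rw [← mul_assoc, e2]
        group
      rw [e1]
      exact fu_mem_mst _ _
    have hTn : n * psiU i (fu j τ₀) * n⁻¹ ∈ mst k (t + 1) F := by
      have := mul_mem (mul_mem (inv_mem hmm) hTin) hmm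
      rw [psiU_fu, ← hl']
      convert this using 1
      group
    have hTG : psiU i (fu j τ₀) ∈ G := by rw [psiU_fu]; exact hC.ov.root _ hτ
    have hcT : Carry (n * psiU i (fu j τ₀) * n⁻¹) i x i x := by
      have hcinv : Carry n⁻¹ i x i x := fun v => by
        refine ⟨(p₀⁻¹).val *ᵥ v, Orth.act_injective n ?_⟩
        show n.val *ᵥ _ = n.val *ᵥ _
        rw [act_inv, a7, mul_act, a6, T.long_tau, C.self_zero hx, zero_smul, add_zero, T.mkGL_act, a2,
          act_inv]
      exact Carry.mul (Carry.mul hcn fun v => ⟨(fu j τ₀).val *ᵥ v, by rw [psiU_val, psi_tau]⟩) hcinv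
    obtain ⟨A, hA⟩ := acts_of_fix hf (by omega) hx hx0 hTn hcT
    obtain ⟨a, -, Z, -, eZ⟩ := split_iso hf hC.odd (hC.ov.le (mul_mem (mul_mem hn hTG) (inv_mem hn))) hA
    have hpureT : n * psiU i (fu j τ₀) * n⁻¹ ∈ OOTensor.pureGroup (tau i) := by
      refine ⟨Z, a, fun b w => ?_⟩
      rw [eZ, mul_act, psiU_val, psi_tau, fu_val, fa_tau]
    have hin : l * (psiU i (fu j τ₀) * l⁻¹ * (psiU i (fu j τ₀))⁻¹) ∈ OOTensor.pureGroup (tau i) := by
      have hG0 : T.mkGL p₀ q₀ ∈ OOTensor.pureGroup (tau i) := ⟨p₀, q₀, T.mkGL_act _ _⟩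
      have hP0 : psiU i (fu j τ₀) ∈ OOTensor.pureGroup (tau i) := by
        rw [hpsiG]; exact ⟨_, _, T.mkGL_act _ _⟩
      have := mul_mem (mul_mem (mul_mem (inv_mem hG0) hpureT) hG0) (inv_mem hP0)
      convert this using 1
      rw [a7]
      group
    have hdiff : ∀ v, (l * (psiU i (fu j τ₀) * l⁻¹ * (psiU i (fu j τ₀))⁻¹)).val *ᵥ v =
        v + T.long x (φ - cj (fu j τ₀) φ) v := fun v => by
      have hc' : ∀ v, (psiU i (fu j τ₀) * l * (psiU i (fu j τ₀))⁻¹).val *ᵥ v =
          v + T.long x (cj (fu j τ₀) φ) v := fun v => by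
        have h1 := long_conj hf (p := (fu j τ₀)⁻¹) (q := 1) (ν := 1) (i := i) (x := x) (φ := φ) (l := l)
          (by simp) (by simp) a6 v
        rw [one_smul, inv_inv, mkGL_one hf, map_inv, inv_inv] at h1
        exact h1
      apply Orth.act_injective l⁻¹
      show (l⁻¹).val *ᵥ _ = (l⁻¹).val *ᵥ _
      rw [mul_act l, inv_act]
      apply Orth.act_injective (psiU i (fu j τ₀) * l * (psiU i (fu j τ₀))⁻¹)
      show (_ : GL _ F).val *ᵥ _ = (_ : GL _ F).val *ᵥ _
      rw [show psiU i (fu j τ₀) * l⁻¹ * (psiU i (fu j τ₀))⁻¹ = (psiU i (fu j τ₀) * l * (psiU i (fu j τ₀))⁻¹)⁻¹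
        by group, act_inv, hc']
      have hlinv : ∀ v, (l⁻¹).val *ᵥ v = v - T.long x φ v := fun v => by
        apply Orth.act_injective l
        show l.val *ᵥ _ = l.val *ᵥ _
        rw [act_inv, a6, map_sub, T.long_sq hx, sub_zero, sub_add_cancel]
      rw [hlinv]
      simp only [map_add, map_sub, T.long_sq hx, sub_zero, add_zero]
      simp only [T.long_apply, LinearMap.sub_apply, map_sub]
      abel
    have h5 := long_pure hf hk0 H (fun a b => ?_) hdiff hin
    · exact (sub_eq_zero.1 h5).symm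
    simp only [LinearMap.sub_apply, map_sub, a5]
    have hTI : (fu j τ₀ : GL (Idx k t) F) ∈ isometryGroup F (qT β c t) :=
      (Ov.cut0 hf hC.ov hk0 i).le hTG
    have : bT β c t (cj (fu j τ₀) φ a) b = -bT β c t a (cj (fu j τ₀) φ b) := by
      simp only [cj_apply]
      conv_lhs => arg 2; rw [← act_inv (fu j τ₀) b]
      conv_rhs => arg 1; arg 1; arg 2; rw [← act_inv (fu j τ₀) a]
      rw [(qT_space hf).B_act hTI, (qT_space hf).B_act hTI, a5]
    rw [this]
    ring
  set M := LinearMap.toMatrix' φ with hM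
  have hcom_of : ∀ g : GL (Idx k t) F, cj g φ = φ → Commute g.val M := fun g hg => by
    refine mat_ext fun v => ?_
    have h1 := LinearMap.congr_fun hg (g.val *ᵥ v)
    rw [OOTensor.cj_act] at h1
    simp only [← Matrix.mulVec_mulVec, hM, LinearMap.toMatrix'_mulVec]
    exact h1
  have hS : SAdj β c M := fixed_sadj hf D fun j => by
    have h1 : Commute (fa j (sGL (qf β) β x e).val) M := hcom_of _ (hφu j)
    have h2 : Commute (fa j ((sGL (qf β) β x e)⁻¹).val) M := by
      rw [← fu_inv_val]; exact Commute.units_inv_left h1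
    rw [sgl_val hf hx D.xe] at h1
    rw [sgl_inv hf hx D.xe, sgl_val hf hx (by rw [map_neg, D.xe, neg_zero]), C.neg, wd_neg] at h2
    simp only [map_sub, map_add, map_one, map_smul, map_neg] at h1 h2
    have hxx' : Commute (fa j (rk β x x)) M := by
      have h4 := ((h1.add_left h2).sub_left ((Commute.one_left M).add_left (Commute.one_left M))).smul_left
        (-2 * qf β e)⁻¹
      rwa [show ∀ u v : Matrix (Idx k t) (Idx k t) F, 1 + u - v + (1 + -u - v) - (1 + 1) = (-2 : F) • v
        from fun u v => by module, smul_smul, smul_smul, mul_assoc, inv_mul_cancel₀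
          (mul_ne_zero (neg_ne_zero.2 hf.h2) D.ns), one_smul] at h4
    have hwd : Commute (fa j (wd β x e)) M := by
      have h4 := (h1.sub_left h2).smul_left (2 : F)⁻¹
      rwa [show ∀ u v : Matrix (Idx k t) (Idx k t) F, 1 + u - v - (1 + -u - v) = (2 : F) • u
        from fun u v => by module, smul_smul, inv_mul_cancel₀ hf.h2, one_smul] at h4
    refine ⟨hxx', hwd, ?_⟩
    have h6 : Commute (fa j τ₀.val) M := hcom_of _ (hT j)
    have hτI := root_le_iso C _ hτ
    have hτf : τ₀.val *ᵥ f = -f := by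
      have b1 := C.B_act hτI x f
      have b2 := C.B_act hτI e f
      rw [hτx, map_neg, LinearMap.neg_apply, D.hyp.pair] at b1
      rw [hτe, D.ef] at b2
      have b3 := D.qf_eq (τ₀.val *ᵥ f)
      rw [mem_iso.1 hτI, H.singF, b2, show β x (τ₀.val *ᵥ f) = -1 by linear_combination -b1, zero_div,
        zero_pow two_ne_zero, zero_mul, add_zero, mul_neg, mul_one, eq_comm, neg_eq_zero] at b3
      rw [D.expand (τ₀.val *ᵥ f), b3, b2, show β x (τ₀.val *ᵥ f) = -1 by linear_combination -b1]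
      simp
    have he : rk β e e = (β e e / 2) • (τ₀.val + 1) := mat_ext fun v => by
      rw [rk_mulVec, Matrix.smul_mulVec, Matrix.add_mulVec, Matrix.one_mulVec]
      conv_rhs => rw [D.expand v]
      simp only [Matrix.mulVec_add, Matrix.mulVec_smul, hτx, hτe, hτf]
      have := D.ee
      have := hf.h2
      match_scalars <;> field_simp <;> ring
    rw [he, map_smul, map_add, map_one]
    exact (h6.add_left (Commute.one_left M)).smul_left _
  have hK : Skw β c M := fun a b => by
    simp only [hM, LinearMap.toMatrix'_mulVec]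
    exact a5 a b
  exact hφ0 (LinearMap.toMatrix'.injective (by
    rw [map_zero]; exact skw_sadj_zero hf hK hS))

end Cfsg.Lib.Linear.OTPow
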