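import Cfsg.Agent.Lib.Linear.OTPow.LowDeg
import Cfsg.Agent.Lib.Linear.OTPow.Slab5
import Cfsg.Agent.Lib.Linear.OTPow.Char3

/-!
# The overgroup permutes the factors

The translates of the invariant form other than itself are permuted freely by the Siegel elements of
a factor with a given centre. Their sum is therefore zero on vectors of small weight, hence zero, and
the form is invariant.
-/

set_option autoImplicit false
set_option linter.unusedSectionVars false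
set_option linter.unusedSimpArgs false
set_option linter.style.haveILetI false
set_option maxSynthPendingDepth 3

namespace Cfsg.Lib.Linear.OTPow

open Module Cfsg.Geo Cfsg.Lib.Linear.AschGen Cfsg.Lib.Linear.TWreath Cfsg.Lib.Linear.Orth
open Cfsg.Lib.Linear.OOTensor (qf Ten)
open Cfsg.Lib.Linear.OOTensor.Square (Four4 pull pull_apply pull_mul pull_one four_ext Three exists_three)
open scoped Matrix MatrixGroups

variable {F : Type*} [Field F] {k t : ℕ} {β : LinearMap.BilinForm F (Fin k → F)} {c : F}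
  {G : Subgroup (GL (Idx k (t + 1)) F)}

/-- An element conjugating a Siegel element to one permuting the factors permutes them. -/
def ConjMst (G : Subgroup (GL (Idx k (t + 1)) F)) (β : LinearMap.BilinForm F (Fin k → F)) : Prop :=
  ∀ (i : Fin (t + 1)) (x f : Fin k → F), Hyp (qf β) β ⊤ x f → ∀ a ∈ perp2 β ⊤ x f, a ≠ 0 →
    ∀ g ∈ G, g * fu i (sGL (qf β) β x a) * g⁻¹ ∈ mst k (t + 1) F → g ∈ mst k (t + 1) F

open Classical in
/-- The translates of the form other than itself. -/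
noncomputable def orb (β : LinearMap.BilinForm F (Fin k → F)) (c : F)
    (G : Subgroup (GL (Idx k (t + 1)) F)) [Finite F] : Finset (Four4 (Idx k (t + 1)) F) :=
  ((((G : Set (GL (Idx k (t + 1)) F)).toFinite.image fun X => pull X (phi4 β c))).toFinset).erase (phi4 β c)

theorem mem_orb [Finite F] {φ : Four4 (Idx k (t + 1)) F} :
    φ ∈ orb β c G ↔ φ ≠ phi4 β c ∧ ∃ X ∈ G, pull X (phi4 β c) = φ := by
  classical
  simp [orb]

variable (β c G) in
/-- The sum of the translates. -/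
noncomputable def rest [Finite F] : Four4 (Idx k (t + 1)) F := ∑ φ ∈ orb β c G, φ

theorem rest_apply [Finite F] (v₁ v₂ v₃ v₄ : Idx k (t + 1) → F) :
    rest β c G v₁ v₂ v₃ v₄ = ∑ φ ∈ orb β c G, φ v₁ v₂ v₃ v₄ := by
  simp [rest, LinearMap.sum_apply]

variable (hf : Fm β c)
include hf

/-- The dispatch over dimensions and characteristics. -/
theorem Ctx.conj_mst [Finite F] {p : ℕ} [Fact p.Prime] [CharP F p] (hC : Ctx hf G) (hp : 3 ≤ p)
    (hM : SlabMst G β) : ConjMst G β := by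
  intro i x f H a ha ha0 g hg hY
  have C := factor_space hf
  have hx0 : x ≠ 0 := fun e => by simpa [e] using H.pair
  obtain ⟨-, hxa, hfa⟩ := mem_perp2.1 ha
  rcases hC.big with h5 | ⟨h3, hq⟩
  · by_cases hqa : qf β a = 0
    · have hind : a ∉ Submodule.span F {x} := fun h => by
        obtain ⟨d, rfl⟩ := Submodule.mem_span_singleton.1 h
        rw [map_smul, H.pair' C, smul_eq_mul, mul_one] at hfa
        exact ha0 (by rw [hfa, zero_smul])
      exact Ctx.conj_long hf hC hM h5 hp hg ⟨H.singE, hqa, hxa, hx0, hind⟩ hY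
    · exact Ctx.conj_big hf hC hM h5 hp hg H.singE hx0 hxa hqa hY
  · obtain ⟨e, D⟩ := exists_three C hf.h2 (by simpa using h3) H
    have hae := D.line a ha
    set r := β e a / β e e
    have hr : r ≠ 0 := fun e0 => ha0 (by rw [hae, e0, zero_smul])
    have hqa : qf β a ≠ 0 := by rw [hae, C.smul]; exact mul_ne_zero (pow_ne_zero 2 hr) D.ns
    have Da : Three β x f a := ⟨C, hf.h2, D.card, H, ha, hqa, fun w hw => by
      conv_lhs => rw [D.line w hw]
      rw [hae, map_smul, LinearMap.smul_apply, map_smul, LinearMap.smul_apply, smul_eq_mul,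
        smul_eq_mul, smul_eq_mul, smul_smul]
      congr 1
      have := D.ee
      field_simp⟩
    rcases Nat.lt_or_ge p 5 with hp5 | hp5
    · obtain rfl : p = 3 := by
        have := Fact.out (p := p.Prime)
        interval_cases p
        · rfl
        · norm_num at this
      haveI := Fintype.ofFinite F
      refine Ctx.conj_three hf hC hM h3 ?_ hg Da hY
      obtain ⟨n, -, hn⟩ := FiniteField.card F 3
      rw [Nat.card_eq_fintype_card, hn] at hq ⊢
      calc 9 = 3 ^ 2 := by norm_num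
        _ ≤ 3 ^ (n : ℕ) := Nat.pow_le_pow_right (by norm_num) (by
          rcases Nat.lt_or_ge (n : ℕ) 2 with h | h
          · interval_cases h' : (n : ℕ) <;> simp at hq
          · exact h)
    · obtain ⟨j, y, hy⟩ := Ctx.conj_carry5 hf hC h3 hp5 (fun h => by
        have h' : ((3 : ℕ) : F) = 0 := by simpa using h
        rw [CharP.cast_eq_zero_iff F p] at h'
        have := Nat.le_of_dvd (by norm_num) h'
        omega) hg H.singE hx0 hxa hqa hY
      exact Ctx.carry_mst hf hC hM hg H.singE hx0 hy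

/-- The Siegel elements with a given centre act freely on the translates. -/
theorem orb_free [Finite F] {p : ℕ} [Fact p.Prime] [CharP F p] (hC : Ctx hf G) (hp : 3 ≤ p)
    (hM : SlabMst G β) {i : Fin (t + 1)} {x f : Fin k → F} (H : Hyp (qf β) β ⊤ x f)
    {φ : Four4 (Idx k (t + 1)) F} (hφ : φ ∈ orb β c G) {a b : Fin k → F} (ha : a ∈ perp2 β ⊤ x f)
    (hb : b ∈ perp2 β ⊤ x f)
    (h : pull (fu i (sGL (qf β) β x a)) φ = pull (fu i (sGL (qf β) β x b)) φ) : a = b := by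
  by_contra hne
  have C := factor_space hf
  obtain ⟨hφne, X, hX, rfl⟩ := mem_orb.1 hφ
  have ha1 := (mem_perp2.1 ha).2.1
  have hb1 := (mem_perp2.1 hb).2.1
  have hnb : β x (-b) = 0 := by rw [map_neg, hb1, neg_zero]
  have h1 := congrArg (pull (fu i (sGL (qf β) β x (-b)))) h
  rw [← pull_mul, ← pull_mul, ← pull_mul, ← pull_mul, ← map_mul, ← map_mul, sGL_mul C H.singE ha1 hnb,
    sGL_mul C H.singE hb1 hnb, add_neg_cancel, SpTensor.sGL_zero_right C H.singE, map_one, mul_one,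
    ← sub_eq_add_neg] at h1
  have hd : a - b ∈ perp2 β ⊤ x f := sub_mem ha hb
  set u := fu i (sGL (qf β) β x (a - b))
  have hu : u ∈ G := hC.ov.sie i x _ H.singE (mem_perp2.1 hd).2.1
  have hfix : pull (X * u * X⁻¹) (phi4 β c) = phi4 β c := by
    rw [pull_mul, h1, ← pull_mul, mul_inv_cancel, pull_one]
  have hXm := Ctx.conj_mst hf hC hp hM i x f H _ hd (sub_ne_zero.2 hne) X hX
    (Ctx.stab_phi hf hC hM hp (mul_mem (mul_mem hX hu) (inv_mem hX)) hfix)
  exact hφne (phi4_inv hf (by have := Ctx.k3 hf hC; omega) (hC.ov.le hX) hXm)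

/-- A function summing to zero on every free orbit sums to zero on all translates. -/
theorem orb_sum_zero [Finite F] {p : ℕ} [Fact p.Prime] [CharP F p] (hC : Ctx hf G) (hp : 3 ≤ p)
    (hM : SlabMst G β) (i : Fin (t + 1)) {x f : Fin k → F} (H : Hyp (qf β) β ⊤ x f)
    [Fintype ↥(perp2 β ⊤ x f)] (E : Four4 (Idx k (t + 1)) F → F)
    (hE : ∀ φ, ∑ a : ↥(perp2 β ⊤ x f), E (pull (fu i (sGL (qf β) β x a.1)) φ) = 0) :
    ∑ φ ∈ orb β c G, E φ = 0 := by
  classical
  have C := factor_space hf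
  have hk0 : 0 < k := by have := Ctx.k3 hf hC; omega
  set W := perp2 β ⊤ x f
  set U : W → GL (Idx k (t + 1)) F := fun a => fu i (sGL (qf β) β x a.1) with hU
  have hUG : ∀ a, U a ∈ G := fun a => hC.ov.sie i x _ H.singE (mem_perp2.1 a.2).2.1
  have hUU : ∀ a b φ, pull (U b) (pull (U a) φ) = pull (U (a + b)) φ := fun a b φ => by
    rw [← pull_mul, hU, ← map_mul, sGL_mul C H.singE (mem_perp2.1 a.2).2.1 (mem_perp2.1 b.2).2.1]
    rfl
  have hU0 : ∀ φ, pull (U 0) φ = φ := fun φ => by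
    rw [hU]
    simp only [ZeroMemClass.coe_zero, SpTensor.sGL_zero_right C H.singE, map_one, pull_one]
  have hfixU : ∀ a, pull (U a) (phi4 β c) = phi4 β c := fun a =>
    phi4_inv hf hk0 (hC.ov.le (hUG a)) (fu_mem_mst i _)
  have hclosed : ∀ φ ∈ orb β c G, ∀ a, pull (U a) φ ∈ orb β c G := fun φ hφ a => by
    obtain ⟨hne, X, hX, rfl⟩ := mem_orb.1 hφ
    refine mem_orb.2 ⟨fun h => hne ?_, X * U a, mul_mem hX (hUG a), pull_mul _ _ _⟩
    have h1 := congrArg (pull (U (-a))) h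
    rwa [hUU, add_neg_cancel, hU0, hfixU] at h1
  have key : ∀ s : Finset (Four4 (Idx k (t + 1)) F), s ⊆ orb β c G → (∀ φ ∈ s, ∀ a, pull (U a) φ ∈ s) →
      ∑ φ ∈ s, E φ = 0 := by
    intro s
    induction s using Finset.strongInductionOn with
    | _ s ih =>
      intro hsub hcl
      rcases s.eq_empty_or_nonempty with rfl | ⟨φ, hφ⟩
      · simp
      have hinj : Function.Injective fun a : W => pull (U a) φ := fun a b h =>
        Subtype.ext (orb_free hf hC hp hM H (hsub hφ) a.2 b.2 h)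
      set O := (Finset.univ : Finset W).image fun a => pull (U a) φ
      have hOs : O ⊆ s := fun ψ hψ => by
        obtain ⟨a, -, rfl⟩ := Finset.mem_image.1 hψ
        exact hcl φ hφ a
      have hlt : s \ O ⊂ s := Finset.sdiff_ssubset hOs
        ⟨φ, Finset.mem_image.2 ⟨0, Finset.mem_univ _, hU0 φ⟩⟩
      have h1 := ih _ hlt (Finset.sdiff_subset.trans hsub) fun ψ hψ a => by
        obtain ⟨hψs, hψO⟩ := Finset.mem_sdiff.1 hψ
        refine Finset.mem_sdiff.2 ⟨hcl ψ hψs a, fun hm => hψO ?_⟩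
        obtain ⟨b, -, hb⟩ := Finset.mem_image.1 hm
        refine Finset.mem_image.2 ⟨b + -a, Finset.mem_univ _, ?_⟩
        rw [← hUU, hb, hUU, add_neg_cancel, hU0]
      rw [← Finset.sum_sdiff hOs, h1, zero_add, Finset.sum_image hinj.injOn]
      convert hE φ
  exact key _ Finset.Subset.rfl hclosed

/-- The shape of the three kinds of vectors. -/
def Cls (β : LinearMap.BilinForm F (Fin k → F)) (x f : Fin k → F) (d : ℕ) (w : Fin k → F) : Prop :=
  (d = 0 ∧ w = x) ∨ (d = 1 ∧ w ∈ perp2 β ⊤ x f) ∨ (d = 2 ∧ w = f)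

/-- The degree of a moved product. -/
theorem slot_poly {i : Fin (t + 1)} {x f : Fin k → F} (H : Hyp (qf β) β ⊤ x f) {n : ℕ}
    (b : Basis (Fin n) F ↥(perp2 β ⊤ x f)) {d : ℕ} {w : Fin k → F} (hw : Cls β x f d w)
    (B : Idx k t → F) :
    PolyVec b d fun a : ↥(perp2 β ⊤ x f) => (fu i (sGL (qf β) β x a.1)).val *ᵥ tau i B w := by
  have C := factor_space hf
  have e : ∀ a : ↥(perp2 β ⊤ x f), (fu i (sGL (qf β) β x a.1)).val *ᵥ tau i B w =
      (tau i B) (w + β x w • a.1 - (β a.1 w + qf β a.1 * β x w) • x) := fun a => by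
    rw [fu_val, fa_tau, sGL_act C H.singE (mem_perp2.1 a.2).2.1]
  simp only [e]
  refine PolyVec.map ?_ (tau i B)
  rcases hw with ⟨rfl, rfl⟩ | ⟨rfl, hm⟩ | ⟨rfl, rfl⟩
  · have : ∀ a : ↥(perp2 β ⊤ w f), β a.1 w = 0 := fun a => by
      rw [hf.sym]; exact (mem_perp2.1 a.2).2.1
    simp only [C.self_zero H.singE, this, zero_smul, mul_zero, add_zero, sub_zero]
    exact PolyVec.const w
  · simp only [(mem_perp2.1 hm).2.1, zero_smul, mul_zero, add_zero]
    exact ((PolyVec.const w).mono (by omega)).sub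
      (PolyVec.smul (d := 1) (e := 0) (PolyLe.lin ((β.flip w) ∘ₗ (perp2 β ⊤ x f).subtype))
        (PolyVec.const x))
  · simp only [H.pair, one_smul, mul_one]
    have hq : PolyLe b 2 fun a : ↥(perp2 β ⊤ x w) => qf β a.1 := by
      have h1 : PolyLe b 2 fun a : ↥(perp2 β ⊤ x w) => ∑ p : Fin n, b.equivFun a p * β (b p).1 a.1 :=
        PolyLe.sum _ fun p _ => (PolyLe.lin ((LinearMap.proj p) ∘ₗ b.equivFun.toLinearMap)).mul
          (PolyLe.lin ((β (b p).1) ∘ₗ (perp2 β ⊤ x w).subtype))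
      convert h1.const_mul (2 : F)⁻¹ using 1
      funext a
      rw [qf]
      congr 1
      have hs : a.1 = ∑ p, b.repr a p • (b p).1 := by
        have h2 := congrArg (Submodule.subtype (perp2 β ⊤ x w)) (b.sum_repr a)
        rw [map_sum] at h2
        exact h2.symm
      exact (congrArg (fun z => β z a.1) hs).trans (by simp [LinearMap.sum_apply])
    exact ((((PolyVec.const w).mono (Nat.zero_le 1)).add
        (PolyVec.lin (perp2 β ⊤ x w).subtype)).mono one_le_two).sub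
      (PolyVec.smul (d := 2) (e := 0)
        (((PolyLe.lin ((β.flip w) ∘ₗ (perp2 β ⊤ x w).subtype)).mono one_le_two).add hq) (PolyVec.const x))

/-- The sum vanishes on products of small weight. -/
theorem rest_low [Finite F] {p : ℕ} [Fact p.Prime] [CharP F p] (hC : Ctx hf G) (hp : 3 ≤ p)
    (hM : SlabMst G β) (i : Fin (t + 1)) {x f : Fin k → F} (H : Hyp (qf β) β ⊤ x f)
    {d₁ d₂ d₃ d₄ : ℕ} {w₁ w₂ w₃ w₄ : Fin k → F} (h₁ : Cls β x f d₁ w₁) (h₂ : Cls β x f d₂ w₂)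
    (h₃ : Cls β x f d₃ w₃) (h₄ : Cls β x f d₄ w₄)
    (hd : d₁ + d₂ + d₃ + d₄ < (Nat.card F - 1) * finrank F ↥(perp2 β ⊤ x f))
    (B₁ B₂ B₃ B₄ : Idx k t → F) :
    rest β c G (tau i B₁ w₁) (tau i B₂ w₂) (tau i B₃ w₃) (tau i B₄ w₄) = 0 := by
  classical
  haveI := Fintype.ofFinite F
  haveI := Fintype.ofFinite ↥(perp2 β ⊤ x f)
  rw [rest_apply]
  refine orb_sum_zero hf hC hp hM i H (fun φ => φ (tau i B₁ w₁) (tau i B₂ w₂) (tau i B₃ w₃) (tau i B₄ w₄))
    fun φ => ?_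
  simp only [pull_apply]
  let b := Module.finBasis F ↥(perp2 β ⊤ x f)
  exact (PolyVec.four (slot_poly hf H b h₁ B₁) (slot_poly hf H b h₂ B₂) (slot_poly hf H b h₃ B₃)
    (slot_poly hf H b h₄ B₄) φ).sum_zero (by rwa [← Nat.card_eq_fintype_card])

omit hf in
theorem Cls.le {x f : Fin k → F} {d : ℕ} {w : Fin k → F} (h : Cls β x f d w) : d ≤ 2 := by
  rcases h with ⟨rfl, -⟩ | ⟨rfl, -⟩ | ⟨rfl, -⟩ <;> omega

omit hf in
theorem Cls.flip {x f : Fin k → F} {d : ℕ} {w : Fin k → F} (h : Cls β x f d w) : Cls β f x (2 - d) w := by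
  rcases h with ⟨rfl, hw⟩ | ⟨rfl, hw⟩ | ⟨rfl, hw⟩
  · exact Or.inr (Or.inr ⟨rfl, hw⟩)
  · refine Or.inr (Or.inl ⟨rfl, mem_perp2.2 ?_⟩)
    obtain ⟨a, b, c⟩ := mem_perp2.1 hw
    exact ⟨a, c, b⟩
  · exact Or.inl ⟨rfl, hw⟩

/-- A linear function vanishing on the three kinds of vectors is zero. -/
theorem cls_ext {x f : Fin k → F} (H : Hyp (qf β) β ⊤ x f) {X : Type*} [AddCommGroup X] [Module F X]
    {L L' : (Fin k → F) →ₗ[F] X} (h : ∀ d w, Cls β x f d w → L w = L' w) (w : Fin k → F) : L w = L' w := by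
  have hr := H.proj (factor_space hf) (x := w) trivial
  have e : w = β f w • x + β x w • f + (w - β f w • x - β x w • f) := by abel
  rw [e, map_add, map_add, map_add, map_add, map_smul, map_smul, map_smul, map_smul,
    h 0 x (Or.inl ⟨rfl, rfl⟩), h 2 f (Or.inr (Or.inr ⟨rfl, rfl⟩)), h 1 _ (Or.inr (Or.inl ⟨rfl, hr⟩))]

omit hf in
theorem four_ext_cls (hf : Fm β c) {x f : Fin k → F} (H : Hyp (qf β) β ⊤ x f) (i : Fin (t + 1))
    {φ ψ : Four4 (Idx k (t + 1)) F}
    (h : ∀ d₁ d₂ d₃ d₄ w₁ w₂ w₃ w₄, Cls β x f d₁ w₁ → Cls β x f d₂ w₂ → Cls β x f d₃ w₃ →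
      Cls β x f d₄ w₄ → ∀ B₁ B₂ B₃ B₄, φ (tau i B₁ w₁) (tau i B₂ w₂) (tau i B₃ w₃) (tau i B₄ w₄) =
        ψ (tau i B₁ w₁) (tau i B₂ w₂) (tau i B₃ w₃) (tau i B₄ w₄)) : φ = ψ := by
  refine (split hf i).hom_ext fun B₁ w₁ => ?_
  refine cls_ext hf H (L := φ ∘ₗ tau i B₁) (L' := ψ ∘ₗ tau i B₁) (fun d₁ w₁ c₁ => ?_) w₁
  refine (split hf i).hom_ext fun B₂ w₂ => ?_
  refine cls_ext hf H (L := φ (tau i B₁ w₁) ∘ₗ tau i B₂) (L' := ψ (tau i B₁ w₁) ∘ₗ tau i B₂)
    (fun d₂ w₂ c₂ => ?_) w₂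
  refine (split hf i).hom_ext fun B₃ w₃ => ?_
  refine cls_ext hf H (L := φ (tau i B₁ w₁) (tau i B₂ w₂) ∘ₗ tau i B₃)
    (L' := ψ (tau i B₁ w₁) (tau i B₂ w₂) ∘ₗ tau i B₃) (fun d₃ w₃ c₃ => ?_) w₃
  refine (split hf i).hom_ext fun B₄ w₄ => ?_
  refine cls_ext hf H (L := φ (tau i B₁ w₁) (tau i B₂ w₂) (tau i B₃ w₃) ∘ₗ tau i B₄)
    (L' := ψ (tau i B₁ w₁) (tau i B₂ w₂) (tau i B₃ w₃) ∘ₗ tau i B₄) (fun d₄ w₄ c₄ => ?_) w₄
  exact h _ _ _ _ _ _ _ _ c₁ c₂ c₃ c₄ B₁ B₂ B₃ B₄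

theorem hyp_flip {x f : Fin k → F} (H : Hyp (qf β) β ⊤ x f) : Hyp (qf β) β ⊤ f x :=
  ⟨H.memF, H.memE, H.singF, H.singE, H.pair' (factor_space hf)⟩

theorem perp_flip (x f : Fin k → F) : perp2 β ⊤ f x = perp2 β ⊤ x f := by
  ext w; simp [mem_perp2, and_comm]

/-- Enough room for the degrees. -/
theorem rest_zero [Finite F] {p : ℕ} [Fact p.Prime] [CharP F p] (hC : Ctx hf G) (hp : 3 ≤ p)
    (hM : SlabMst G β) {x f : Fin k → F} (H : Hyp (qf β) β ⊤ x f)
    (hbig : 4 < (Nat.card F - 1) * finrank F ↥(perp2 β ⊤ x f)) : rest β c G = 0 := by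
  refine four_ext_cls hf H (0 : Fin (t + 1)) fun d₁ d₂ d₃ d₄ w₁ w₂ w₃ w₄ c₁ c₂ c₃ c₄ B₁ B₂ B₃ B₄ => ?_
  simp only [LinearMap.zero_apply]
  by_cases hle : d₁ + d₂ + d₃ + d₄ ≤ 4
  · exact rest_low hf hC hp hM 0 H c₁ c₂ c₃ c₄ (by omega) B₁ B₂ B₃ B₄
  · refine rest_low hf hC hp hM 0 (hyp_flip hf H) c₁.flip c₂.flip c₃.flip c₄.flip ?_ B₁ B₂ B₃ B₄
    rw [perp_flip hf]
    have := c₁.le; have := c₂.le; have := c₃.le; have := c₄.le
    omega

/-- Fixing of the form from the vanishing sum. -/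
theorem all_of_rest [Finite F] {p : ℕ} [Fact p.Prime] [CharP F p] (hC : Ctx hf G) (hp : 3 ≤ p)
    (hM : SlabMst G β) (hzero : rest β c G = 0) : G ≤ mst k (t + 1) F := by
  classical
  intro g hg
  refine Ctx.stab_phi hf hC hM hp hg ?_
  let O : Finset (Four4 (Idx k (t + 1)) F) := insert (phi4 β c) (orb β c G)
  have hmem : ∀ h ∈ G, ∀ φ ∈ O, pull h φ ∈ O := by
    intro h hh φ hφ
    obtain ⟨X, hX, rfl⟩ : ∃ X ∈ G, pull X (phi4 β c) = φ := by
      rcases Finset.mem_insert.1 hφ with rfl | hφ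
      · exact ⟨1, one_mem _, pull_one _⟩
      · exact (mem_orb.1 hφ).2
    rw [← pull_mul]
    by_cases e : pull (X * h) (phi4 β c) = phi4 β c
    · exact Finset.mem_insert.2 (Or.inl e)
    · exact Finset.mem_insert.2 (Or.inr (mem_orb.2 ⟨e, _, mul_mem hX hh, rfl⟩))
  have hsum : ∑ φ ∈ O, φ = phi4 β c := by
    rw [Finset.sum_insert (fun h => (mem_orb.1 h).1 rfl),
      show ∑ φ ∈ orb β c G, φ = rest β c G from rfl, hzero, add_zero]
  refine four_ext fun v₁ v₂ v₃ v₄ => ?_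
  rw [pull_apply]
  conv_lhs => rw [← hsum]
  conv_rhs => rw [← hsum]
  simp only [LinearMap.sum_apply]
  exact Finset.sum_bij' (fun φ _ => pull g φ) (fun φ _ => pull g⁻¹ φ)
    (fun φ hφ => hmem g hg φ hφ) (fun φ hφ => hmem g⁻¹ (inv_mem hg) φ hφ)
    (fun φ _ => by rw [← pull_mul, mul_inv_cancel, pull_one])
    (fun φ _ => by rw [← pull_mul, inv_mul_cancel, pull_one]) fun φ _ => rfl

/-- The top term of a moved product in dimension three. -/
theorem slot_top {i : Fin (t + 1)} {x f e : Fin k → F} (D : Three β x f e)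
    (b : Basis (Fin 1) F ↥(perp2 β ⊤ x f)) {d : ℕ} {w : Fin k → F} (hw : Cls β x f d w) :
    ∃ (κ : F) (L : F → Fin k → F), ∀ B : Idx k t → F,
      (d = 0 → L = fun _ => 0) ∧ PolyVec b (d - 1) (fun a => tau i B (L (b.equivFun a 0))) ∧
      ∀ a : ↥(perp2 β ⊤ x f), (fu i (sGL (qf β) β x a.1)).val *ᵥ tau i B w =
        (κ * b.equivFun a 0 ^ d) • tau i B x + tau i B (L (b.equivFun a 0)) := by
  have C := factor_space hf
  set v : Fin k → F := (b 0).1 with hv
  have ha : ∀ a : ↥(perp2 β ⊤ x f), a.1 = b.equivFun a 0 • v := fun a => by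
    conv_lhs => rw [← b.sum_equivFun a]
    simp [hv]
  have hxv : β x v = 0 := (mem_perp2.1 (b 0).2).2.1
  have act : ∀ a : ↥(perp2 β ⊤ x f), ∀ w, (sGL (qf β) β x a.1).val *ᵥ w =
      w + (b.equivFun a 0 * β x w) • v - (b.equivFun a 0 * β v w
        + b.equivFun a 0 ^ 2 * (qf β v * β x w)) • x := fun a w => by
    rw [sGL_act C D.hyp.singE (mem_perp2.1 a.2).2.1, ha a, map_smul, LinearMap.smul_apply, C.smul]
    simp only [smul_smul, smul_eq_mul]
    match_scalars <;> ring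
  have hlin : PolyLe b 1 fun a => b.equivFun a 0 :=
    PolyLe.lin ((LinearMap.proj 0) ∘ₗ b.equivFun.toLinearMap)
  rcases hw with ⟨rfl, rfl⟩ | ⟨rfl, hm⟩ | ⟨rfl, rfl⟩
  · refine ⟨1, fun _ => 0, fun B => ⟨fun _ => rfl, ?_, fun a => ?_⟩⟩
    · simpa using (PolyVec.const (b := b) (0 : Idx k (t + 1) → F))
    · rw [fu_val, fa_tau, act, C.self_zero D.hyp.singE, hf.sym v w, hxv]
      simp
  · refine ⟨-β v w, fun _ => w, fun B => ⟨fun h => absurd h one_ne_zero, PolyVec.const _, fun a => ?_⟩⟩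
    rw [fu_val, fa_tau, act, (mem_perp2.1 hm).2.1, map_sub, map_add, map_smul, map_smul, pow_one]
    simp only [mul_zero, zero_smul, add_zero]
    module
  · refine ⟨-qf β v, fun s => w + s • v, fun B => ⟨fun h => absurd h two_ne_zero, ?_, fun a => ?_⟩⟩
    · exact PolyVec.map ((PolyVec.const w).mono (Nat.zero_le 1) |>.add
        (PolyVec.smul (d := 1) (e := 0) hlin (PolyVec.const v))) (tau i B)
    · have hvf : β v w = 0 := by rw [hf.sym]; exact (mem_perp2.1 (b 0).2).2.2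
      rw [fu_val, fa_tau, act, D.hyp.pair, hvf]
      simp only [mul_one, mul_zero, zero_add, map_sub, map_add, map_smul]
      module

/-- The difference of the two orders has no top term. -/
theorem swap_low [Fintype F] {p : ℕ} [Fact p.Prime] [CharP F p] (hC : Ctx hf G) (hp : 3 ≤ p)
    (hM : SlabMst G β) (hq : Fintype.card F = 5) (i : Fin (t + 1)) {x f e : Fin k → F} (D : Three β x f e)
    {d₁ d₂ d₃ d₄ : ℕ} {w₁ w₂ w₃ w₄ : Fin k → F} (h₁ : Cls β x f d₁ w₁) (h₂ : Cls β x f d₂ w₂)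
    (h₃ : Cls β x f d₃ w₃) (h₄ : Cls β x f d₄ w₄) (hd : d₁ + d₂ + d₃ + d₄ ≤ 4)
    (B₁ B₂ B₃ B₄ : Idx k t → F) :
    rest β c G (tau i B₁ w₂) (tau i B₂ w₁) (tau i B₃ w₃) (tau i B₄ w₄) =
      rest β c G (tau i B₁ w₁) (tau i B₂ w₂) (tau i B₃ w₃) (tau i B₄ w₄) := by
  classical
  have H := D.hyp
  have C := factor_space hf
  haveI := Fintype.ofFinite ↥(perp2 β ⊤ x f)
  have hn : finrank F ↥(perp2 β ⊤ x f) = 1 := by
    have he0 : e ≠ 0 := fun h => D.ee (by rw [h, map_zero])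
    have : perp2 β ⊤ x f = Submodule.span F {e} := le_antisymm
      (fun r hr => Submodule.mem_span_singleton.2 ⟨_, (D.line r hr).symm⟩)
      ((Submodule.span_singleton_le_iff_mem _ _).2 D.mem)
    rw [this, finrank_span_singleton he0]
  let b : Basis (Fin 1) F ↥(perp2 β ⊤ x f) := Module.finBasisOfFinrankEq F _ hn
  rw [rest_apply, rest_apply, ← sub_eq_zero, ← Finset.sum_sub_distrib]
  refine orb_sum_zero hf hC hp hM i H (fun φ => φ (tau i B₁ w₂) (tau i B₂ w₁) (tau i B₃ w₃) (tau i B₄ w₄)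
    - φ (tau i B₁ w₁) (tau i B₂ w₂) (tau i B₃ w₃) (tau i B₄ w₄)) fun φ => ?_
  simp only [pull_apply]
  refine PolyLe.sum_zero (b := b) (d := 3) ?_ (by rw [hq]; norm_num)
  obtain ⟨κ₁, L₁, hL₁⟩ := slot_top hf (i := i) D b h₁
  obtain ⟨κ₂, L₂, hL₂⟩ := slot_top hf (i := i) D b h₂
  obtain ⟨κ₃, L₃, hL₃⟩ := slot_top hf (i := i) D b h₃
  obtain ⟨κ₄, L₄, hL₄⟩ := slot_top hf (i := i) D b h₄
  -- each product is its top term plus terms of degree three
  have key : ∀ (e₁ e₂ : ℕ) (u₁ u₂ : Fin k → F) (μ₁ μ₂ : F) (M₁ M₂ : F → Fin k → F)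
      (_ : Cls β x f e₁ u₁) (_ : Cls β x f e₂ u₂)
      (_ : ∀ B : Idx k t → F, (e₁ = 0 → M₁ = fun _ => 0) ∧
        PolyVec b (e₁ - 1) (fun a => tau i B (M₁ (b.equivFun a 0))) ∧
        ∀ a : ↥(perp2 β ⊤ x f), (fu i (sGL (qf β) β x a.1)).val *ᵥ tau i B u₁ =
          (μ₁ * b.equivFun a 0 ^ e₁) • tau i B x + tau i B (M₁ (b.equivFun a 0)))
      (_ : ∀ B : Idx k t → F, (e₂ = 0 → M₂ = fun _ => 0) ∧
        PolyVec b (e₂ - 1) (fun a => tau i B (M₂ (b.equivFun a 0))) ∧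
        ∀ a : ↥(perp2 β ⊤ x f), (fu i (sGL (qf β) β x a.1)).val *ᵥ tau i B u₂ =
          (μ₂ * b.equivFun a 0 ^ e₂) • tau i B x + tau i B (M₂ (b.equivFun a 0)))
      (_ : e₁ + e₂ + d₃ + d₄ ≤ 4),
      PolyLe b 3 fun a : ↥(perp2 β ⊤ x f) =>
        φ ((fu i (sGL (qf β) β x a.1)).val *ᵥ tau i B₁ u₁) ((fu i (sGL (qf β) β x a.1)).val *ᵥ tau i B₂ u₂)
          ((fu i (sGL (qf β) β x a.1)).val *ᵥ tau i B₃ w₃) ((fu i (sGL (qf β) β x a.1)).val *ᵥ tau i B₄ w₄)
        - b.equivFun a 0 ^ (e₁ + e₂ + d₃ + d₄) * (μ₁ * μ₂ * κ₃ * κ₄ *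
            φ (tau i B₁ x) (tau i B₂ x) (tau i B₃ x) (tau i B₄ x)) := by
    intro e₁ e₂ u₁ u₂ μ₁ μ₂ M₁ M₂ c₁ c₂ m₁ m₂ he
    obtain ⟨z₁, p₁, a₁⟩ := m₁ B₁
    obtain ⟨z₂, p₂, a₂⟩ := m₂ B₂
    obtain ⟨z₃, p₃, a₃⟩ := hL₃ B₃
    obtain ⟨z₄, p₄, a₄⟩ := hL₄ B₄
    set T := fun (m : F) (e : ℕ) (B : Idx k t → F) (a : ↥(perp2 β ⊤ x f)) =>
      (m * b.equivFun a 0 ^ e) • tau i B x
    have hpow : ∀ e : ℕ, PolyLe b e fun a => b.equivFun a 0 ^ e := fun e => by
      induction e with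
      | zero => simpa using PolyLe.const (b := b) (1 : F)
      | succ e ih =>
        simp only [pow_succ]
        exact ih.mul (PolyLe.lin ((LinearMap.proj 0) ∘ₗ b.equivFun.toLinearMap))
    have hT : ∀ m e B, PolyVec b e (T m e B) := fun m e B =>
      PolyVec.smul (d := e) (e := 0) ((hpow e).const_mul m) (PolyVec.const _)
    have q₁ := slot_poly hf (i := i) H b c₁ B₁
    have q₂ := slot_poly hf (i := i) H b c₂ B₂
    have q₃ := slot_poly hf (i := i) H b h₃ B₃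
    have q₄ := slot_poly hf (i := i) H b h₄ B₄
    have Z : ∀ {e : ℕ} {g : ↥(perp2 β ⊤ x f) → F} {N : ℕ}, (e = 0 → ∀ a, g a = 0) →
        (0 < e → PolyLe b N g) → (0 < e → N ≤ 3) → PolyLe b 3 g := fun {e} {g} {N} hz hp hle => by
      rcases Nat.eq_zero_or_pos e with he | he
      · rw [show g = fun _ => (0 : F) from funext (hz he)]
        exact (PolyLe.const 0).mono (Nat.zero_le 3)
      · exact (hp he).mono (hle he)
    have r₁ : PolyLe b 3 fun a => φ (tau i B₁ (M₁ (b.equivFun a 0)))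
        ((fu i (sGL (qf β) β x a.1)).val *ᵥ tau i B₂ u₂)
        ((fu i (sGL (qf β) β x a.1)).val *ᵥ tau i B₃ w₃) ((fu i (sGL (qf β) β x a.1)).val *ᵥ tau i B₄ w₄) :=
      Z (e := e₁) (fun h a => by simp [z₁ h]) (fun _ => PolyVec.four p₁ q₂ q₃ q₄ φ) (fun _ => by omega)
    have r₂ : PolyLe b 3 fun a => φ (T μ₁ e₁ B₁ a) (tau i B₂ (M₂ (b.equivFun a 0)))
        ((fu i (sGL (qf β) β x a.1)).val *ᵥ tau i B₃ w₃) ((fu i (sGL (qf β) β x a.1)).val *ᵥ tau i B₄ w₄) :=
      Z (e := e₂) (fun h a => by simp [z₂ h]) (fun _ => PolyVec.four (hT _ _ _) p₂ q₃ q₄ φ) (fun _ => by omega)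
    have r₃ : PolyLe b 3 fun a => φ (T μ₁ e₁ B₁ a) (T μ₂ e₂ B₂ a) (tau i B₃ (L₃ (b.equivFun a 0)))
        ((fu i (sGL (qf β) β x a.1)).val *ᵥ tau i B₄ w₄) :=
      Z (e := d₃) (fun h a => by simp [z₃ h]) (fun _ => PolyVec.four (hT _ _ _) (hT _ _ _) p₃ q₄ φ)
        (fun _ => by omega)
    have r₄ : PolyLe b 3 fun a => φ (T μ₁ e₁ B₁ a) (T μ₂ e₂ B₂ a) (T κ₃ d₃ B₃ a)
        (tau i B₄ (L₄ (b.equivFun a 0))) :=
      Z (e := d₄) (fun h a => by simp [z₄ h]) (fun _ => PolyVec.four (hT _ _ _) (hT _ _ _) (hT _ _ _) p₄ φ)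
        (fun _ => by omega)
    convert ((r₁.add r₂).add r₃).add r₄ using 1
    funext a
    rw [a₁, a₂, a₃, a₄]
    simp only [T, map_add, map_smul, LinearMap.add_apply, LinearMap.smul_apply, smul_eq_mul, pow_add]
    ring
  have k₁ := key d₂ d₁ w₂ w₁ κ₂ κ₁ L₂ L₁ h₂ h₁ hL₂ hL₁ (by omega)
  have k₂ := key d₁ d₂ w₁ w₂ κ₁ κ₂ L₁ L₂ h₁ h₂ hL₁ hL₂ hd
  convert k₁.sub k₂ using 1
  funext a
  rw [show d₂ + d₁ + d₃ + d₄ = d₁ + d₂ + d₃ + d₄ by ring, show κ₂ * κ₁ = κ₁ * κ₂ from mul_comm _ _]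
  ring

/-- The sum is symmetric at every factor. -/
theorem rest_sym [Fintype F] {p : ℕ} [Fact p.Prime] [CharP F p] (hC : Ctx hf G) (hp : 3 ≤ p)
    (hM : SlabMst G β) (hq : Fintype.card F = 5) (i : Fin (t + 1)) {x f e : Fin k → F} (D : Three β x f e)
    (u₁ u₂ u₃ u₄ : Fin k → F) (B₁ B₂ B₃ B₄ : Idx k t → F) :
    rest β c G (tau i B₁ u₂) (tau i B₂ u₁) (tau i B₃ u₃) (tau i B₄ u₄) =
      rest β c G (tau i B₁ u₁) (tau i B₂ u₂) (tau i B₃ u₃) (tau i B₄ u₄) := by
  have H := D.hyp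
  have C := factor_space hf
  obtain ⟨e', D'⟩ := exists_three C hf.h2 D.card (hyp_flip hf H)
  let R := rest β c G
  refine cls_ext hf H (L := (R.flip (tau i B₂ u₁) ∘ₗ tau i B₁).flip (tau i B₃ u₃) |>.flip (tau i B₄ u₄))
    (L' := (R (tau i B₁ u₁) ∘ₗ tau i B₂).flip (tau i B₃ u₃) |>.flip (tau i B₄ u₄)) (fun d₂ w₂ c₂ => ?_) u₂
  refine cls_ext hf H (L := (R (tau i B₁ w₂) ∘ₗ tau i B₂).flip (tau i B₃ u₃) |>.flip (tau i B₄ u₄))
    (L' := (R.flip (tau i B₂ w₂) ∘ₗ tau i B₁).flip (tau i B₃ u₃) |>.flip (tau i B₄ u₄)) (fun d₁ w₁ c₁ => ?_) u₁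
  refine cls_ext hf H (L := (R (tau i B₁ w₂) (tau i B₂ w₁) ∘ₗ tau i B₃).flip (tau i B₄ u₄))
    (L' := (R (tau i B₁ w₁) (tau i B₂ w₂) ∘ₗ tau i B₃).flip (tau i B₄ u₄)) (fun d₃ w₃ c₃ => ?_) u₃
  refine cls_ext hf H (L := R (tau i B₁ w₂) (tau i B₂ w₁) (tau i B₃ w₃) ∘ₗ tau i B₄)
    (L' := R (tau i B₁ w₁) (tau i B₂ w₂) (tau i B₃ w₃) ∘ₗ tau i B₄) (fun d₄ w₄ c₄ => ?_) u₄
  by_cases hle : d₁ + d₂ + d₃ + d₄ ≤ 4
  · exact swap_low hf hC hp hM hq i D c₁ c₂ c₃ c₄ hle B₁ B₂ B₃ B₄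
  · refine swap_low hf hC hp hM hq i D' c₁.flip c₂.flip c₃.flip c₄.flip ?_ B₁ B₂ B₃ B₄
    have := c₁.le; have := c₂.le; have := c₃.le; have := c₄.le
    omega

theorem pop_anti (v w : Idx k (t + 1) → F) : pop β c w v = -pop β c v w := by
  rw [pop_apply, pop_apply, ← Finset.sum_neg_distrib]
  refine Finset.sum_congr rfl fun i _ => ?_
  have e : (jop β c i).flip = -jop β c i := (split hf i).hom_ext fun a x => (split hf i).hom_ext fun b y => by
    rw [LinearMap.flip_apply, LinearMap.neg_apply, LinearMap.neg_apply, jop_tau, jop_tau, bT_sym hf b a,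
      wd, wd, ← smul_neg, neg_sub]
  rw [show jop β c i w v = -jop β c i v w from LinearMap.congr_fun₂ e v w, map_neg]

/-- The field with five elements in dimension three. -/
theorem rest_five [Fintype F] {p : ℕ} [Fact p.Prime] [CharP F p] (hC : Ctx hf G) (hp : 3 ≤ p)
    (hM : SlabMst G β) (hq : Fintype.card F = 5) {x f e : Fin k → F} (D : Three β x f e) :
    rest β c G = 0 := by
  classical
  set R := rest β c G
  have hanti : ∀ v₁ v₂ v₃ v₄, R v₂ v₁ v₃ v₄ = -R v₁ v₂ v₃ v₄ := fun v₁ v₂ v₃ v₄ => by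
    simp only [R, rest_apply, ← Finset.sum_neg_distrib]
    refine Finset.sum_congr rfl fun φ hφ => ?_
    obtain ⟨-, X, -, rfl⟩ := mem_orb.1 hφ
    rw [pull_apply, pull_apply, phi4_apply, phi4_apply, pop_anti hf (X.val *ᵥ v₁), Matrix.neg_mulVec,
      map_neg, LinearMap.neg_apply]
  have hsw : ∀ (S : Finset (Fin (t + 1))) (g₁ g₂ g₃ g₄ : Fin (t + 1) → Fin k → F),
      R (pv fun i => if i ∈ S then g₂ i else g₁ i) (pv fun i => if i ∈ S then g₁ i else g₂ i) (pv g₃) (pv g₄)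
        = R (pv g₁) (pv g₂) (pv g₃) (pv g₄) := by
    intro S
    induction S using Finset.induction_on with
    | empty => intro g₁ g₂ g₃ g₄; simp
    | insert l S hl ih =>
      intro g₁ g₂ g₃ g₄
      rw [← ih g₁ g₂ g₃ g₄, pv_split l, pv_split l, pv_split l g₃, pv_split l g₄]
      conv_rhs => rw [pv_split l, pv_split l]
      simp only [Finset.mem_insert_self, if_true, if_neg hl]
      have e1 : ∀ (a b : Fin (t + 1) → Fin k → F), (fun j => if l.succAbove j ∈ insert l S then a (l.succAbove j)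
          else b (l.succAbove j)) = fun j => if l.succAbove j ∈ S then a (l.succAbove j) else b (l.succAbove j) :=
        fun a b => funext fun j => by simp [Fin.succAbove_ne]
      rw [e1, e1]
      exact rest_sym hf hC hp hM hq l D (g₁ l) (g₂ l) (g₃ l) (g₄ l) _ _ _ _
  have h0 : ∀ g₁ g₂ g₃ g₄, R (pv g₁) (pv g₂) (pv g₃) (pv g₄) = 0 := fun g₁ g₂ g₃ g₄ => by
    have h1 := hsw Finset.univ g₁ g₂ g₃ g₄
    simp only [Finset.mem_univ, if_true] at h1
    rw [hanti (pv g₁) (pv g₂)] at h1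
    exact (mul_eq_zero.1 (show (2 : F) * R (pv g₁) (pv g₂) (pv g₃) (pv g₄) = 0 by
      linear_combination -h1)).resolve_left hf.h2
  have hb : ∀ z : Idx k (t + 1), (Pi.basisFun F (Idx k (t + 1))) z =
      pv fun i => Pi.single (z i) (1 : F) := fun z => funext fun w => by
    rw [Pi.basisFun_apply, pv]
    by_cases hw : w = z
    · subst hw; simp
    · obtain ⟨l, hl⟩ := Function.ne_iff.1 hw
      rw [Pi.single_eq_of_ne hw]
      exact (Finset.prod_eq_zero (Finset.mem_univ l) (Pi.single_eq_of_ne hl _)).symm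
  refine (Pi.basisFun F _).ext fun z₁ => (Pi.basisFun F _).ext fun z₂ => (Pi.basisFun F _).ext fun z₃ =>
    (Pi.basisFun F _).ext fun z₄ => ?_
  rw [hb, hb, hb, hb]
  simpa using h0 _ _ _ _

/-- **The losing overgroup permutes the factors.** -/
theorem Ctx.le_mst [Finite F] (hC : Ctx hf G) : G ≤ mst k (t + 1) F := by
  classical
  haveI := Fintype.ofFinite F
  obtain ⟨p, hpc⟩ := CharP.exists F
  haveI := hpc
  haveI : Fact p.Prime := ⟨CharP.char_is_prime F p⟩
  have hp : 3 ≤ p := by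
    have h2 := (Fact.out (p := p.Prime)).two_le
    rcases Nat.lt_or_ge p 3 with h | h
    · obtain rfl : p = 2 := by omega
      exact absurd (by simpa using CharP.cast_eq_zero F 2) hf.h2
    · exact h
  have C := factor_space hf
  have hk3 := Ctx.k3 hf hC
  obtain ⟨x, f, H⟩ := exists_frame hf hk3
  have hfin := H.finrank_eq C
  rw [finrank_top, finrank_fintype_fun_eq_card, Fintype.card_fin] at hfin
  by_cases h35 : k = 3 ∧ Fintype.card F = 5
  · obtain ⟨hk, hq⟩ := h35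
    obtain ⟨e, D⟩ := exists_three C hf.h2 (by simpa using hk) H
    have h5 : (5 : F) = 0 := by
      have := FiniteField.cast_card_eq_zero (K := F)
      rw [hq] at this
      simpa using this
    have hp5 : p = 5 := by
      have h' : ((5 : ℕ) : F) = 0 := by simpa using h5
      rw [CharP.cast_eq_zero_iff F p] at h'
      exact (Nat.prime_dvd_prime_iff_eq Fact.out (by norm_num)).1 h'
    have h3 : (3 : F) ≠ 0 := fun h => by
      have h' : ((3 : ℕ) : F) = 0 := by simpa using h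
      rw [CharP.cast_eq_zero_iff F p, hp5] at h'
      norm_num at h'
    have hs : ∃ s : F, s ≠ 0 ∧ s * s = -1 := ⟨2, hf.h2, by linear_combination h5⟩
    have hM := Ctx.slab_five hf hC hk (p := p) (by omega) hs h3
    exact all_of_rest hf hC hp hM (rest_five hf hC hp hM hq D)
  · have h7 : 5 ≤ k ∨ 7 ≤ Fintype.card F := by
      rcases hC.big with h | ⟨h, hq⟩
      · exact Or.inl h
      · refine Or.inr ?_
        rw [Nat.card_eq_fintype_card] at hq
        obtain ⟨n, hpn, hn⟩ := FiniteField.card F p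
        have h6 : Fintype.card F ≠ 6 := fun h6 => by
          rw [hn] at h6
          have h2 : 2 ∣ p ^ (n : ℕ) := by rw [h6]; norm_num
          have := (Nat.prime_dvd_prime_iff_eq Nat.prime_two hpn).1 (Nat.prime_two.dvd_of_dvd_pow h2)
          omega
        have h5 : Fintype.card F ≠ 5 := fun h5 => h35 ⟨h, h5⟩
        omega
    have hM : SlabMst G β := Ctx.slab_pure hf hC (h7.imp id fun hq => by
      by_contra hne
      push Not at hne
      let P : Polynomial F := Polynomial.X ^ 4 - 1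
      have h0 : P = 0 := Polynomial.eq_zero_of_natDegree_lt_card_of_eval_eq_zero' P (Finset.univ.erase 0)
        (fun s hs => by
          have h1 := hne s (Finset.ne_of_mem_erase hs)
          simp only [P, Polynomial.eval_sub, Polynomial.eval_pow, Polynomial.eval_X, Polynomial.eval_one]
          linear_combination h1)
        (by
          rw [Finset.card_erase_of_mem (Finset.mem_univ _), Finset.card_univ,
            show P = Polynomial.X ^ 4 - Polynomial.C 1 by simp [P], Polynomial.natDegree_X_pow_sub_C]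
          omega)
      have := congrArg (Polynomial.eval 0) h0
      simp [P] at this)
    refine all_of_rest hf hC hp hM (rest_zero hf hC hp hM H ?_)
    rw [Nat.card_eq_fintype_card]
    have hq3 : 3 ≤ Fintype.card F := by
      obtain ⟨n, -, hn⟩ := FiniteField.card F p
      rw [hn]
      exact hp.trans (Nat.le_self_pow n.pos.ne' p)
    have hn : finrank F ↥(perp2 β ⊤ x f) = k - 2 := by omega
    rw [hn]
    rcases h7 with h | h
    · have := Nat.mul_le_mul (show 2 ≤ Fintype.card F - 1 by omega) (show 3 ≤ k - 2 by omega)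
      omega
    · have := Nat.mul_le_mul (show 6 ≤ Fintype.card F - 1 by omega) (show 1 ≤ k - 2 by omega)
      omega

end Cfsg.Lib.Linear.OTPow
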