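import Cfsg.Agent.Lib.Linear.OTPow.Base
import Cfsg.Agent.Lib.Linear.TWreath.Rank

/-!
# Unipotent elements permuting the factors with a small displacement

If the displacement has index at most three, the permutation is trivial unless the characteristic is
three and the dimension is three or the square of the displacement is large.
-/

set_option autoImplicit false
set_option linter.unusedSectionVars false
set_option linter.unusedSimpArgs false

namespace Cfsg.Lib.Linear.OTPow

open Cfsg.Geo Cfsg.Lib.Linear.AschGen Cfsg.Lib.Linear.TWreath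
open scoped Matrix MatrixGroups

variable {F : Type*} [Field F] {k t : ℕ}

theorem Acts.pow_iter {Y : GL (Idx k t) F} {σ : Equiv.Perm (Fin t)}
    (hσ : ∀ i, ∃ a, Acts Y i (σ i) a) (n : ℕ) (j : Fin t) : ∃ a, Acts (Y ^ n) j ((σ ^ n) j) a := by
  induction n with
  | zero => exact ⟨1, by simpa using acts_one j⟩
  | succ n ih =>
    obtain ⟨a, ha⟩ := ih
    obtain ⟨b, hb⟩ := hσ ((σ ^ n) j)
    exact ⟨b * a, by rw [pow_succ', pow_succ', Equiv.Perm.mul_apply]; exact hb.mul ha⟩

/-- A unipotent element has the order of the characteristic. -/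
theorem pow_char {ι : Type} [Fintype ι] [DecidableEq ι] [Nonempty ι] {p : ℕ} [Fact p.Prime]
    [CharP F p] (hp : 3 ≤ p) {Y : GL ι F} (h3 : (Y.val - 1) * (Y.val - 1) * (Y.val - 1) = 0) :
    Y ^ p = 1 := by
  haveI : CharP (Matrix ι ι F) p :=
    charP_of_injective_algebraMap (RingHom.injective (algebraMap F _)) p
  refine Units.ext ?_
  have h := sub_pow_char_of_commute p (Commute.one_right Y.val)
  obtain ⟨d, hd⟩ := Nat.exists_eq_add_of_le hp
  have h0 : (Y.val - 1) ^ p = 0 := by rw [hd, pow_add, pow_succ, pow_succ, pow_one, h3, zero_mul]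
  rw [h0, one_pow, eq_comm, sub_eq_zero] at h
  rw [Units.val_pow_eq_pow_val, h, Units.val_one]

theorem orbit_ne {σ : Equiv.Perm (Fin t)} {p : ℕ} (hp : p.Prime) {j : Fin t}
    (hσp : (σ ^ p) j = j) (hne : σ j ≠ j) {n : ℕ} (h0 : 0 < n) (hn : n < p) : (σ ^ n) j ≠ j := by
  intro h
  have h1 : Function.IsPeriodicPt σ n j := by
    rw [Function.IsPeriodicPt, Function.IsFixedPt, ← Equiv.Perm.coe_pow]; exact h
  have h2 : Function.IsPeriodicPt σ p j := by
    rw [Function.IsPeriodicPt, Function.IsFixedPt, ← Equiv.Perm.coe_pow]; exact hσp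
  have h3 := h1.gcd h2
  rw [Nat.Coprime.gcd_eq_one ((hp.coprime_iff_not_dvd.2 fun hd =>
    absurd (Nat.le_of_dvd h0 hd) (by omega)).symm)] at h3
  exact hne h3

/-- The fourth difference of a conjugation. -/
theorem fourth_diff {R : Type*} [Ring R] {N M X : R} (h3 : N * N * N = 0) (hM : M * (1 + N) = 1)
    (hM' : (1 + N) * M = 1) :
    let D : R → R := fun Z => (1 + N) * Z * M - Z
    D (D (D (D X))) = 6 • (N * N * X * (N * N)) := by
  intro D
  let ad : R → R := fun Z => N * Z - Z * N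
  have hcomm : N * M = M * N := by
    calc N * M = M * (1 + N) * (N * M) := by rw [hM, one_mul]
      _ = M * N * ((1 + N) * M) := by noncomm_ring
      _ = M * N := by rw [hM', mul_one]
  have hD : ∀ Z, D Z = ad Z * M := fun Z => by
    show (1 + N) * Z * M - Z = (N * Z - Z * N) * M
    conv_lhs => arg 2; rw [← mul_one Z, ← hM', ← mul_assoc]
    noncomm_ring
  have had : ∀ Z, ad (Z * M) = ad Z * M := fun Z => by
    show N * (Z * M) - Z * M * N = (N * Z - Z * N) * M
    rw [mul_assoc Z M, ← hcomm]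
    noncomm_ring
  simp only [hD, had]
  have hN2 : N * N * M = N * N := by
    calc N * N * M = (N * N * (1 + N)) * M := by rw [mul_add, mul_one, h3, add_zero]
      _ = N * N * ((1 + N) * M) := mul_assoc _ _ _
      _ = N * N := by rw [hM', mul_one]
  have e : ad (ad (ad (ad X))) = 6 • (N * N * X * (N * N)) := by
    show N * (N * (N * (N * X - X * N) - (N * X - X * N) * N) -
      (N * (N * X - X * N) - (N * X - X * N) * N) * N) - (N * (N * (N * X - X * N) - (N * X - X * N) * N)
      - (N * (N * X - X * N) - (N * X - X * N) * N) * N) * N = _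
    have a1 : ∀ Z, N * (N * (N * Z)) = 0 := fun Z => by rw [← mul_assoc, ← mul_assoc, h3, zero_mul]
    have a2 : N * (N * N) = 0 := by rw [← mul_assoc, h3]
    simp only [mul_sub, sub_mul, mul_assoc, a1, a2, mul_zero, zero_mul, sub_zero, zero_sub, mul_neg,
      neg_mul]
    abel
  have hN2' : ∀ Z, N * N * (M * Z) = N * N * Z := fun Z => by rw [← mul_assoc, hN2]
  rw [e]
  simp only [smul_mul_assoc, mul_assoc]
  simp only [← mul_assoc N N, hN2', hN2]

/-- Idempotents in five factors of which one is nilpotently combined. -/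
theorem five_false (hk : 2 ≤ k) {l : Fin 5 → Fin t} (hl : Function.Injective l)
    {P : Fin 5 → Matrix (Fin k) (Fin k) F} (hP : ∀ i, P i * P i = P i) (h0 : P 0 ≠ 0)
    (h1 : ∀ i, P i ≠ 1) {co : Fin 5 → F} (hco : co 0 ≠ 0)
    (hS : (∑ i, co i • fa (l i) (P i)) * (∑ i, co i • fa (l i) (P i)) = 0) : False := by
  set q : Fin 5 → Matrix (Idx k t) (Idx k t) F := fun i => fa (l i) (1 - P i)
  have hcom : ∀ i i', i ≠ i' → Com (l i) (q i') := fun i i' h => com_fa (hl.ne h) _
  set Q := q 1 * (q 2 * (q 3 * q 4))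
  have hkill : ∀ i : Fin 5, i ≠ 0 → fa (l i) (P i) * Q = 0 := by
    intro i hi
    have z : fa (l i) (P i) * q i = 0 := by
      rw [← map_mul, mul_sub, mul_one, hP, sub_self, map_zero]
    have mv : ∀ i', i' ≠ i → ∀ Z, fa (l i) (P i) * (q i' * Z) = q i' * (fa (l i) (P i) * Z) :=
      fun i' h Z => by rw [← mul_assoc, (hcom i i' h.symm _).eq, mul_assoc]
    have hcases : ∀ i : Fin 5, i ≠ 0 → i = 1 ∨ i = 2 ∨ i = 3 ∨ i = 4 := by decide
    obtain rfl | rfl | rfl | rfl := hcases i hi
    · show fa (l 1) (P 1) * (q 1 * (q 2 * (q 3 * q 4))) = 0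
      rw [← mul_assoc, z, zero_mul]
    · show fa (l 2) (P 2) * (q 1 * (q 2 * (q 3 * q 4))) = 0
      rw [mv 1 (by decide), ← mul_assoc (fa (l 2) (P 2)), z, zero_mul, mul_zero]
    · show fa (l 3) (P 3) * (q 1 * (q 2 * (q 3 * q 4))) = 0
      rw [mv 1 (by decide), mv 2 (by decide), ← mul_assoc (fa (l 3) (P 3)), z, zero_mul, mul_zero, mul_zero]
    · show fa (l 4) (P 4) * (q 1 * (q 2 * (q 3 * q 4))) = 0
      rw [mv 1 (by decide), mv 2 (by decide), mv 3 (by decide), z, mul_zero, mul_zero, mul_zero]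
  have hSQ : (∑ i, co i • fa (l i) (P i)) * Q = co 0 • (fa (l 0) (P 0) * Q) := by
    rw [Finset.sum_mul, Finset.sum_eq_single 0 (fun i _ hi => by rw [smul_mul_assoc, hkill i hi, smul_zero])
      (fun h => absurd (Finset.mem_univ _) h), smul_mul_assoc]
  have hQ0 : Com (l 0) Q :=
    (hcom 0 1 (by decide)).mul ((hcom 0 2 (by decide)).mul ((hcom 0 3 (by decide)).mul (hcom 0 4 (by decide))))
  have h2 : fa (l 0) (P 0) * Q = 0 := by
    have e := congrArg (· * Q) hS
    simp only [zero_mul, mul_assoc, hSQ, mul_smul_comm, (hQ0 (P 0)).eq] at e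
    rw [← mul_assoc, hSQ, smul_mul_assoc, mul_assoc, ← (hQ0 (P 0)).eq, ← mul_assoc, ← map_mul, hP,
      smul_smul, smul_eq_zero] at e
    exact e.resolve_left (mul_ne_zero hco hco)
  have hz : ∀ i, (1 : Matrix (Fin k) (Fin k) F) - P i ≠ 0 := fun i e => h1 i (sub_eq_zero.1 e).symm
  have h3 : q 1 * (q 2 * (q 3 * q 4)) = 0 := eq_zero_of_fa_mul h0 hQ0 h2
  have h4 := eq_zero_of_fa_mul (hz 1) ((hcom 1 2 (by decide)).mul ((hcom 1 3 (by decide)).mul
    (hcom 1 4 (by decide)))) h3
  have h5 := eq_zero_of_fa_mul (hz 2) ((hcom 2 3 (by decide)).mul (hcom 2 4 (by decide))) h4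
  have h6 := eq_zero_of_fa_mul (hz 3) (hcom 3 4 (by decide)) h5
  exact hz 4 (fa_injective (by omega) (l 4) (h6.trans (map_zero _).symm))

theorem fa_diag (i : Fin t) (d : Fin k → F) :
    fa i (Matrix.diagonal d) = Matrix.diagonal fun x : Idx k t => d (x i) := by
  ext x y
  rw [fa_apply, powStd_apply]
  by_cases hxy : x = y
  · subst hxy; simp
  · rw [Matrix.diagonal_apply_ne _ hxy]
    split_ifs with h
    · exact Matrix.diagonal_apply_ne _ fun he => hxy (funext fun j => by
        rcases eq_or_ne j i with rfl | hj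
        · exact he
        · exact h j hj)
    · rfl

/-- The indices with a prescribed shape at three places. -/
theorem card_three {j l m : Fin t} (hjl : j ≠ l) (hjm : j ≠ m) (hlm : l ≠ m) (A B C : Finset (Fin k)) :
    k ^ 3 * (Finset.univ.filter fun x : Idx k t => x j ∈ A ∧ x l ∈ B ∧ x m ∈ C).card =
      A.card * B.card * C.card * k ^ t := by
  classical
  let S : Fin t → Finset (Fin k) := fun i =>
    if i = j then A else if i = l then B else if i = m then C else Finset.univ
  have e : (Finset.univ.filter fun x : Idx k t => x j ∈ A ∧ x l ∈ B ∧ x m ∈ C) = Fintype.piFinset S := by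
    ext x
    simp only [Finset.mem_filter, Finset.mem_univ, true_and, Fintype.mem_piFinset]
    constructor
    · rintro ⟨a, b, c⟩ i
      simp only [S]
      split_ifs with h1 h2 h3
      · exact h1 ▸ a
      · exact h2 ▸ b
      · exact h3 ▸ c
      · exact Finset.mem_univ _
    · intro h
      exact ⟨by simpa [S] using h j, by simpa [S, hjl.symm] using h l,
        by simpa [S, hjm.symm, hlm.symm] using h m⟩
  rw [e, Fintype.card_piFinset]
  have hs : ({j, l, m} : Finset (Fin t)) ⊆ Finset.univ := Finset.subset_univ _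
  have h3 : ({j, l, m} : Finset (Fin t)).card = 3 := by simp [hjl, hjm, hlm]
  rw [← Finset.prod_sdiff hs, Finset.prod_congr rfl (fun i hi => show (S i).card = k by
    obtain ⟨-, hi⟩ := Finset.mem_sdiff.1 hi
    simp only [Finset.mem_insert, Finset.mem_singleton, not_or] at hi
    simp [S, hi.1, hi.2.1, hi.2.2]), Finset.prod_const, Finset.card_sdiff_of_subset hs, h3,
    Finset.card_univ, Fintype.card_fin, Finset.prod_insert (by simp [hjl, hjm]),
    Finset.prod_insert (by simp [hlm]), Finset.prod_singleton]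
  have ht : 3 ≤ t := by simpa [h3] using Finset.card_le_univ ({j, l, m} : Finset (Fin t))
  conv_rhs => rw [show t = (t - 3) + 3 by omega, pow_add]
  simp [S, hjl.symm, hjm.symm, hlm.symm]
  ring

theorem tri_mul {R : Type*} [Monoid R] {a b c a' b' c' : R} (hba : Commute b a') (hca : Commute c a')
    (hcb : Commute c b') : a * b * c * (a' * b' * c') = a * a' * (b * b') * (c * c') := by
  calc a * b * c * (a' * b' * c') = a * b * (c * a') * b' * c' := by simp only [mul_assoc]
    _ = a * b * (a' * c) * b' * c' := by rw [hca.eq]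
    _ = a * (b * a') * (c * b') * c' := by simp only [mul_assoc]
    _ = a * (a' * b) * (b' * c) * c' := by rw [hba.eq, hcb.eq]
    _ = a * a' * (b * b') * (c * c') := by simp only [mul_assoc]

theorem tri_rot {R : Type*} [Monoid R] {a b c : R} (hca : Commute c a) (hcb : Commute c b) :
    a * b * c = c * a * b := by
  calc a * b * c = a * (b * c) := mul_assoc _ _ _
    _ = a * (c * b) := by rw [hcb.eq]
    _ = a * c * b := (mul_assoc _ _ _).symm
    _ = c * a * b := by rw [hca.eq]

variable {p : ℕ} [Fact p.Prime] [CharP F p]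

/-- In characteristic three the square of the displacement is large. -/
theorem cycle_three (hk : 5 ≤ k) {Y : GL (Idx k (t + 1)) F} {j l m : Fin (t + 1)} (hjl : j ≠ l)
    (hjm : j ≠ m) (hlm : l ≠ m) {A₁ A₂ : GL (Fin k) F} (h1 : Acts Y j l A₁)
    (h2 : Acts (Y ^ 2) j m A₂) (h3 : Y ^ 3 = 1) (h03 : (3 : F) = 0) :
    ¬ ((Y.val - 1) * (Y.val - 1)).rank ≤ k ^ t := by
  classical
  intro hle
  let T : Matrix (Fin k) (Fin k) F → Matrix (Fin k) (Fin k) F → Matrix (Fin k) (Fin k) F →
      Matrix (Idx k (t + 1)) (Idx k (t + 1)) F :=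
    fun X₀ X₁ X₂ => fa j X₀ * fa l (conjA A₁ X₁) * fa m (conjA A₂ X₂)
  have hY1 : ∀ X, conjA Y (fa j X) = fa l (conjA A₁ X) := h1
  have hY2 : ∀ X, conjA Y (fa l (conjA A₁ X)) = fa m (conjA A₂ X) := fun X => by
    rw [← hY1, ← conjA_mul, ← pow_two, h2]
  have hY3 : ∀ X, conjA Y (fa m (conjA A₂ X)) = fa j X := fun X => by
    rw [← h2, ← conjA_mul, ← pow_succ', h3, conjA_one]
  have hT : ∀ X₀ X₁ X₂, conjA Y (T X₀ X₁ X₂) = T X₂ X₀ X₁ := fun X₀ X₁ X₂ => by
    simp only [T, map_mul, hY1, hY2, hY3]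
    exact tri_rot (fa_comm hjl _ _) (fa_comm hjm _ _)
  have hTT : ∀ X₀ X₁ X₂ Z₀ Z₁ Z₂, T X₀ X₁ X₂ * T Z₀ Z₁ Z₂ = T (X₀ * Z₀) (X₁ * Z₁) (X₂ * Z₂) :=
    fun X₀ X₁ X₂ Z₀ Z₁ Z₂ => by
      simp only [T, map_mul]
      exact tri_mul (fa_comm hjl.symm _ _) (fa_comm hjm.symm _ _) (fa_comm hlm.symm _ _)
  have hTl : ∀ X₁ X₂, T 0 X₁ X₂ = 0 := fun X₁ X₂ => by simp [T]
  have hTm : ∀ X₀ X₂, T X₀ 0 X₂ = 0 := fun X₀ X₂ => by simp [T]
  have hTr : ∀ X₀ X₁, T X₀ X₁ 0 = 0 := fun X₀ X₁ => by simp [T]
  let E : Fin k → Matrix (Fin k) (Fin k) F := fun a => Matrix.diagonal fun b => if b = a then 1 else 0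
  let U : Fin k → Matrix (Fin k) (Fin k) F := fun a => Matrix.diagonal fun b => if a < b then 1 else 0
  have hEE : ∀ a b, E a * E b = if a = b then E a else 0 := fun a b => by
    simp only [E, Matrix.diagonal_mul_diagonal]
    split_ifs with h
    · subst h; congr 1; funext c; split_ifs <;> simp
    · rw [← Matrix.diagonal_zero]; congr 1; funext c; split_ifs <;> simp_all
  have hEU : ∀ a b, ¬ b < a → E a * U b = 0 := fun a b h => by
    simp only [E, U, Matrix.diagonal_mul_diagonal, ← Matrix.diagonal_zero]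
    congr 1; funext c; split_ifs <;> simp_all <;> omega
  have hUE : ∀ a b, ¬ a < b → U a * E b = 0 := fun a b h => by
    simp only [E, U, Matrix.diagonal_mul_diagonal, ← Matrix.diagonal_zero]
    congr 1; funext c; split_ifs <;> simp_all <;> omega
  have hUU : ∀ a, U a * U a = U a := fun a => by
    simp only [U, Matrix.diagonal_mul_diagonal]
    congr 1; funext c; split_ifs <;> simp
  let s : Finset (Fin k) := {⟨0, by omega⟩, ⟨1, by omega⟩, ⟨2, by omega⟩}
  set E3 := ∑ a ∈ s, T (E a) (U a) (U a) with hE3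
  have hPP : E3 * E3 = E3 := by
    rw [hE3, Finset.sum_mul]
    refine Finset.sum_congr rfl fun a ha => ?_
    rw [Finset.mul_sum, Finset.sum_eq_single a (fun b _ hb => by
      rw [hTT, hEE, if_neg hb.symm, hTl]) (fun h => absurd ha h), hTT, hEE, if_pos rfl, hUU]
  have hC1 : E3 * conjA Y E3 = 0 := by
    rw [hE3, map_sum, Finset.sum_mul]
    refine Finset.sum_eq_zero fun a _ => ?_
    rw [Finset.mul_sum]
    refine Finset.sum_eq_zero fun b _ => ?_
    rw [hT, hTT]
    by_cases h : b < a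
    · rw [hUE a b (not_lt.2 h.le), hTm]
    · rw [hEU a b h, hTl]
  have hC2 : E3 * conjA (Y * Y) E3 = 0 := by
    rw [hE3, map_sum, Finset.sum_mul]
    refine Finset.sum_eq_zero fun a _ => ?_
    rw [Finset.mul_sum]
    refine Finset.sum_eq_zero fun b _ => ?_
    rw [conjA_mul, hT, hT, hTT]
    by_cases h : b < a
    · rw [hUE a b (not_lt.2 h.le), hTr]
    · rw [hEU a b h, hTl]
  have hmove : ∀ g : GL (Idx k (t + 1)) F, g.val * E3 = conjA g E3 * g.val := fun g => by
    rw [conjA_apply, mul_assoc _ _ g.val, Units.inv_mul, mul_one]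
  have hS : E3 * ((Y.val - 1) * (Y.val - 1)) * E3 = E3 := by
    have e : (Y.val - 1) * (Y.val - 1) = 1 + Y.val + Y.val * Y.val := by
      have h0 : ∀ M : Matrix (Idx k (t + 1)) (Idx k (t + 1)) F, (3 : F) • M = 0 := fun M => by
        rw [h03, zero_smul]
      calc (Y.val - 1) * (Y.val - 1) = 1 + Y.val + Y.val * Y.val - (Y.val + Y.val + Y.val) := by
            noncomm_ring
        _ = _ := by rw [show Y.val + Y.val + Y.val = (3 : F) • Y.val by module, h0, sub_zero]
    rw [e, mul_add, mul_add, mul_one, add_mul, add_mul, hPP, mul_assoc E3 Y.val, hmove, ← mul_assoc, hC1,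
      zero_mul, add_zero, ← Units.val_mul, mul_assoc E3 (Y * Y).val, hmove, ← mul_assoc, hC2, zero_mul,
      add_zero]
  have hrk : E3.rank ≤ ((Y.val - 1) * (Y.val - 1)).rank := by
    conv_lhs => rw [← hS]
    exact (Matrix.rank_mul_le_left _ _).trans (Matrix.rank_mul_le_right _ _)
  let d : Idx k (t + 1) → F := fun x => ∑ a ∈ s,
    (if x j = a then 1 else 0) * (if a < x l then 1 else 0) * (if a < x m then 1 else 0)
  have hdiag : E3 = conjA (fu l A₁ * fu m A₂) (Matrix.diagonal d) := by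
    have e : Matrix.diagonal d = ∑ a ∈ s, fa j (E a) * fa l (U a) * fa m (U a) := by
      simp only [E, U, fa_diag, Matrix.diagonal_mul_diagonal, d]
      ext x y
      by_cases hxy : x = y
      · subst hxy; simp [Matrix.sum_apply]
      · simp [Matrix.sum_apply, Matrix.diagonal_apply_ne _ hxy]
    rw [e, map_sum, hE3]
    refine Finset.sum_congr rfl fun a _ => ?_
    simp only [T, map_mul, conjA_mul, conjA_fu_com (com_fa hjm.symm _), conjA_fu_com (com_fa hjl.symm _),
      conjA_fu_com (com_fa hlm.symm _), conjA_fu_com (com_fa hlm _), (acts_fu l A₁) _, (acts_fu m A₂) _]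
  rw [hdiag, rank_conjA, Matrix.rank_diagonal, Fintype.card_subtype] at hrk
  let W : Fin k → Finset (Idx k (t + 1)) := fun a =>
    Finset.univ.filter fun x => x j ∈ ({a} : Finset (Fin k)) ∧ x l ∈ Finset.Ioi a ∧ x m ∈ Finset.Ioi a
  have hsub : s.biUnion W ⊆ Finset.univ.filter fun x => d x ≠ 0 := by
    intro x hx
    obtain ⟨a, ha, hxa⟩ := Finset.mem_biUnion.1 hx
    simp only [W, Finset.mem_filter, Finset.mem_univ, true_and, Finset.mem_singleton, Finset.mem_Ioi] at hxa
    refine Finset.mem_filter.2 ⟨Finset.mem_univ _, ?_⟩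
    simp only [d]
    rw [Finset.sum_eq_single a (fun b _ hb => by rw [if_neg (by rw [hxa.1]; exact hb.symm)]; simp)
      (fun h => absurd ha h), if_pos hxa.1, if_pos hxa.2.1, if_pos hxa.2.2]
    simp
  have hcard := (Finset.card_le_card hsub).trans (hrk.trans hle)
  rw [Finset.card_biUnion (fun a _ b _ hab => Finset.disjoint_left.2 fun x hxa hxb => by
    simp only [W, Finset.mem_filter, Finset.mem_singleton] at hxa hxb
    exact hab (hxa.2.1.symm.trans hxb.2.1))] at hcard
  have hW : ∀ a, k ^ 3 * (W a).card = (k - 1 - a.val) * (k - 1 - a.val) * k ^ (t + 1) := fun a => by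
    have := card_three hjl hjm hlm ({a} : Finset (Fin k)) (Finset.Ioi a) (Finset.Ioi a)
    simpa [W, Fin.card_Ioi] using this
  simp only [s, Finset.sum_insert, Finset.mem_insert, Finset.mem_singleton, Fin.mk.injEq, not_or,
    OfNat.zero_ne_ofNat, zero_ne_one, OfNat.one_ne_ofNat, not_false_eq_true, and_self,
    Finset.sum_singleton] at hcard
  have h := Nat.mul_le_mul_left (k ^ 3) hcard
  rw [mul_add, mul_add, hW, hW, hW, pow_succ k t] at h
  have hpos : 0 < k ^ t := by positivity
  obtain ⟨n, rfl⟩ : ∃ n, k = n + 3 := ⟨k - 3, by omega⟩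
  have e0 : n + 3 - 1 - 0 = n + 2 := by omega
  have e1 : n + 3 - 1 - 1 = n + 1 := by omega
  have e2 : n + 3 - 1 - 2 = n := by omega
  simp only [e0, e1, e2] at h
  have h4 : 2 ≤ n := by omega
  have h5 : (n + 3) * (n + 3) < (n + 2) * (n + 2) + ((n + 1) * (n + 1) + n * n) := by nlinarith
  have h6 := Nat.mul_lt_mul_of_pos_right h5 (by positivity : 0 < (n + 3) ^ t * (n + 3))
  ring_nf at h h6
  omega

/-- **The permutation is trivial.** -/
theorem no_perm (hk : 3 ≤ k) (hp : 3 ≤ p) {Y : GL (Idx k (t + 1)) F} (hY : Y ∈ mst k (t + 1) F)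
    (h3 : (Y.val - 1) * (Y.val - 1) * (Y.val - 1) = 0)
    (hc : 5 ≤ p ∨ (5 ≤ k ∧ ((Y.val - 1) * (Y.val - 1)).rank ≤ k ^ t)) (j : Fin (t + 1)) :
    ∃ A, Acts Y j j A := by
  classical
  haveI : Nonempty (Idx k (t + 1)) := ⟨fun _ => ⟨0, by omega⟩⟩
  obtain ⟨σ, hσ⟩ := hY
  have hpp := Fact.out (p := p.Prime)
  have hYp := pow_char (F := F) hp h3
  by_cases hne : σ j = j
  · obtain ⟨A, hA⟩ := hσ j
    exact ⟨A, by rwa [hne] at hA⟩
  exfalso
  have hσp : (σ ^ p) j = j := by
    obtain ⟨a, ha⟩ := Acts.pow_iter hσ p j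
    rw [hYp] at ha
    exact ((acts_one j).target_unique (by omega) ha).symm
  choose A hA using fun n => Acts.pow_iter hσ n j
  rcases Nat.lt_or_ge p 5 with hp5 | hp5
  · obtain ⟨h5, hr⟩ := hc.resolve_left (by omega)
    obtain rfl : p = 3 := by
      interval_cases p
      · rfl
      · norm_num at hpp
    have h2 : (σ ^ 2) j ≠ j := orbit_ne hpp hσp hne (by omega) (by omega)
    refine cycle_three h5 (j := j) (l := σ j) (m := (σ ^ 2) j) (Ne.symm hne) h2.symm ?_
      (by simpa using hA 1) (hA 2) hYp (by simpa using CharP.cast_eq_zero F 3) hr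
    rw [pow_two, Equiv.Perm.mul_apply]
    exact fun e => hne (σ.injective e).symm
  let l : Fin 5 → Fin (t + 1) := fun i => (σ ^ i.val) j
  have hl : Function.Injective l := by
    intro a b hab
    by_contra hne'
    rcases Nat.lt_or_gt_of_ne (fun e => hne' (Fin.ext e)) with h | h
    · refine orbit_ne hpp hσp hne (n := b.val - a.val) (by omega) (by omega) ((σ ^ a.val).injective ?_)
      rw [← Equiv.Perm.mul_apply, ← pow_add, show a.val + (b.val - a.val) = b.val by omega]
      exact hab.symm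
    · refine orbit_ne hpp hσp hne (n := a.val - b.val) (by omega) (by omega) ((σ ^ b.val).injective ?_)
      rw [← Equiv.Perm.mul_apply, ← pow_add, show b.val + (a.val - b.val) = a.val by omega]
      exact hab
  let P₀ : Matrix (Fin k) (Fin k) F := sg ⟨0, by omega⟩ ⟨0, by omega⟩
  have hP₀ : P₀ * P₀ = P₀ := sg_mul _ _ _
  have hP₀0 : P₀ ≠ 0 := fun e => by simpa [P₀] using congrFun (congrFun e ⟨0, by omega⟩) ⟨0, by omega⟩
  have hP₀1 : P₀ ≠ 1 := fun e => by
    simpa [P₀, Matrix.single_apply, Matrix.one_apply, Fin.ext_iff] using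
      congrFun (congrFun e ⟨1, by omega⟩) ⟨1, by omega⟩
  refine five_false (l := l) (P := fun i => conjA (A i.val) P₀) (by omega) hl
    (fun i => by rw [← map_mul, hP₀]) (fun e => hP₀0 ((conjA (A _)).injective (by rw [e, map_zero])))
    (fun i e => hP₀1 ((conjA (A _)).injective (by rw [e, map_one]))) (co := ![1, -4, 6, -4, 1])
    (by simp) ?_
  set N := Y.val - 1 with hN
  have hY1 : Y.val = 1 + N := by rw [hN, add_sub_cancel]
  have h := fourth_diff (X := fa j P₀) (M := (Y⁻¹).val) h3 (by rw [← hY1, Units.inv_mul])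
    (by rw [← hY1, Units.mul_inv])
  have hsum : ∑ i : Fin 5, (![1, -4, 6, -4, 1] : Fin 5 → F) i • fa (l i) (conjA (A i.val) P₀) =
      6 • (N * N * fa j P₀ * (N * N)) := by
    rw [← h, Fin.sum_univ_five]
    simp only [← hY1, l]
    rw [← hA, ← hA, ← hA, ← hA, ← hA]
    simp only [Fin.val_zero, Fin.val_one, Fin.val_two, pow_zero, pow_one, conjA_one]
    simp only [← conjA_apply, map_sub, Matrix.cons_val_zero, Matrix.cons_val_one, Matrix.cons_val,
      show ((3 : Fin 5) : ℕ) = 3 from rfl, show ((4 : Fin 5) : ℕ) = 4 from rfl, pow_succ, pow_zero,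
      one_mul, conjA_mul]
    module
  rw [hsum, smul_mul_smul_comm, mul_assoc (N * N * fa j P₀), ← mul_assoc (N * N) (N * N * fa j P₀),
    ← mul_assoc (N * N) (N * N), show N * N * (N * N) = 0 by rw [← mul_assoc, h3, zero_mul]]
  simp

end Cfsg.Lib.Linear.OTPow
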