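import Cfsg.Agent.Lib.Linear.OTPow.Acts

/-!
# What commutes with the Siegel elements at one vector

In a factor of dimension three a matrix commuting with the Siegel elements at a singular vector
has three coefficients. Those of odd weight vanish in self-adjoint matrices; so a non-zero skew
coefficient of a long element can be multiplied by every scalar.
-/

set_option autoImplicit false
set_option linter.unusedSectionVars false
set_option linter.unusedSimpArgs false

namespace Cfsg.Lib.Linear.OTPow

open Module Cfsg.Geo Cfsg.Lib.Linear.AschGen Cfsg.Lib.Linear.TWreath Cfsg.Lib.Linear.Orth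
open Cfsg.Lib.Linear.OOTensor (qf)
open Cfsg.Lib.Linear.OOTensor.Square (Three exists_three)
open scoped Matrix MatrixGroups

variable {F : Type*} [Field F] {k t : ℕ} {β : LinearMap.BilinForm F (Fin k → F)} {c : F}

variable (β c) in
/-- Skew with respect to the form of the tensor power. -/
def Skw (M : Matrix (Idx k t) (Idx k t) F) : Prop :=
  ∀ a b, bT β c t (M *ᵥ a) b = -bT β c t a (M *ᵥ b)

variable (β c) in
/-- Self-adjoint with respect to the form of the tensor power. -/
def SAdj (M : Matrix (Idx k t) (Idx k t) F) : Prop :=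
  ∀ a b, bT β c t (M *ᵥ a) b = bT β c t a (M *ᵥ b)

theorem SAdj.scalar (r : F) : SAdj β c (r • (1 : Matrix (Idx k t) (Idx k t) F)) := fun a b => by
  simp [Matrix.smul_mulVec]

theorem SAdj.add {M N : Matrix (Idx k t) (Idx k t) F} (h : SAdj β c M) (h' : SAdj β c N) :
    SAdj β c (M + N) := fun a b => by simp [Matrix.add_mulVec, h a b, h' a b]

theorem SAdj.mul {M N : Matrix (Idx k t) (Idx k t) F} (h : SAdj β c M) (h' : SAdj β c N)
    (hc : Commute M N) : SAdj β c (M * N) := fun a b => by
  rw [← Matrix.mulVec_mulVec, h, h', Matrix.mulVec_mulVec, hc.eq]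

theorem slot_commute (l : Fin t) {j : Fin t} (hj : j ≠ l) (b d : Fin k → F)
    {Y : Matrix (Fin k) (Fin k) F} {X : Matrix (Idx k t) (Idx k t) F} (h : Commute (fa j Y) X) :
    Commute (fa j Y) (slot β l b d X) :=
  Commute.sum_right _ _ _ fun _ _ => Commute.sum_right _ _ _ fun _ _ =>
    (Commute.sum_right _ _ _ fun _ _ =>
      ((fa_comm hj _ _).mul_right h).mul_right (fa_comm hj _ _)).smul_right _

theorem rk_mul_rk_left (p q x y : Fin k → F) (l : Fin t) (e : Fin k → F)
    (a : Fin k → F) (X : Matrix (Idx k t) (Idx k t) F) :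
    fa l (rk β a p) * (fa l (rk β x y) * X) * fa l (rk β q e) =
      β p x • (fa l (rk β a e) * slot β l y q X) := by
  rw [← mul_assoc, ← map_mul, rk_mul_rk, map_smul, smul_mul_assoc, smul_mul_assoc, sandwich]

theorem rk_mul_rk_right (p q x y : Fin k → F) (l : Fin t) (e : Fin k → F)
    (a : Fin k → F) (X : Matrix (Idx k t) (Idx k t) F) :
    fa l (rk β a p) * (X * fa l (rk β x y)) * fa l (rk β q e) =
      β y q • (fa l (rk β a e) * slot β l p x X) := by
  rw [mul_assoc, mul_assoc, ← map_mul, rk_mul_rk, map_smul, mul_smul_comm, mul_smul_comm,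
    ← mul_assoc, sandwich]

variable (hf : Fm β c)
include hf

theorem skw_sadj_zero {M : Matrix (Idx k t) (Idx k t) F} (h : Skw β c M) (h' : SAdj β c M) : M = 0 :=
  mat_ext fun a => by
    rw [Matrix.zero_mulVec]
    refine bT_nondeg hf _ fun b => ?_
    have h1 := h a b
    rw [← h' a b] at h1
    have h2 : (2 : F) * bT β c t (M *ᵥ a) b = 0 := by linear_combination h1
    exact (mul_eq_zero.1 h2).resolve_left hf.h2

theorem rk_adj (x : Fin k → F) (v w : Fin k → F) :
    β (rk β x x *ᵥ v) w = β v (rk β x x *ᵥ w) := by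
  simp only [rk_mulVec, map_smul, LinearMap.smul_apply, smul_eq_mul, hf.sym v x]
  ring

/-- The adjoint in a factor. -/
theorem fa_adj (j : Fin t) {X X' : Matrix (Fin k) (Fin k) F}
    (h : ∀ v w, β (X *ᵥ v) w = β v (X' *ᵥ w)) (a b : Idx k t → F) :
    bT β c t (fa j X *ᵥ a) b = bT β c t a (fa j X' *ᵥ b) := by
  obtain ⟨t, rfl⟩ : ∃ t', t = t' + 1 := ⟨t - 1, by have := j.2; omega⟩
  refine LinearMap.congr_fun₂ (?_ : (bT β c (t + 1)).comp (Matrix.mulVecLin (fa j X)) LinearMap.id =
    (bT β c (t + 1)).comp LinearMap.id (Matrix.mulVecLin (fa j X'))) a b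
  exact (split hf j).hom_ext fun p x => (split hf j).hom_ext fun q y => by
    simp only [LinearMap.BilinForm.comp_apply, Matrix.mulVecLin_apply, LinearMap.id_apply, fa_tau,
      bT_tau, h]

variable {x f e : Fin k → F} (D : Three β x f e)
include D

theorem three_one : (1 : Matrix (Fin k) (Fin k) F) =
    rk β x f + rk β f x + (β e e)⁻¹ • rk β e e := mat_ext fun v => by
  rw [Matrix.one_mulVec, Matrix.add_mulVec, Matrix.add_mulVec, Matrix.smul_mulVec, rk_mulVec,
    rk_mulVec, rk_mulVec, smul_smul, inv_mul_eq_div]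
  exact D.expand v

variable (l : Fin t) {X : Matrix (Idx k t) (Idx k t) F}
  (hR : Commute (fa l (rk β x x)) X) (hW : Commute (fa l (wd β x e)) X)
include hR hW

theorem commute_slots : slot β l x x X = 0 ∧ slot β l x e X = 0 ∧ slot β l e x X = 0 ∧
    slot β l x f X = slot β l f x X ∧ slot β l e f X = -slot β l f e X ∧
    slot β l e e X = β e e • slot β l f x X := by
  have hx0 : x ≠ 0 := D.x_ne
  have kill : ∀ {Z : Matrix (Idx k t) (Idx k t) F}, Com l Z → fa l (rk β x x) * Z = 0 → Z = 0 :=
    fun hZ h => eq_zero_of_fa_mul (rk_ne_zero hf hx0 hx0) hZ h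
  have eR : ∀ b d, β b x • slot β l x d X = β x d • slot β l b x X := fun b d => by
    refine sub_eq_zero.1 (kill (((slot_com l x d X).smul _).sub ((slot_com l b x X).smul _)) ?_)
    rw [mul_sub, mul_smul_comm, mul_smul_comm, ← rk_mul_rk_left, ← rk_mul_rk_right, hR.eq, sub_self]
  have eW : ∀ b d, β b e • slot β l x d X - β b x • slot β l e d X =
      β x d • slot β l b e X - β e d • slot β l b x X := fun b d => by
    refine sub_eq_zero.1 (kill ((((slot_com l x d X).smul _).sub ((slot_com l e d X).smul _)).sub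
      (((slot_com l b e X).smul _).sub ((slot_com l b x X).smul _))) ?_)
    simp only [mul_sub, mul_smul_comm]
    rw [← rk_mul_rk_left, ← rk_mul_rk_left, ← rk_mul_rk_right, ← rk_mul_rk_right, ← sub_mul,
      ← mul_sub, ← sub_mul, ← sub_mul, ← mul_sub, ← mul_sub, ← map_sub,
      show rk β e x - rk β x e = wd β x e from rfl, hW.eq, sub_self]
  have hfx : β f x = 1 := D.hyp.pair' D.C
  have a1 := eR f x
  have a2 := eR f e
  have a3 := eR e f
  have a4 := eR f f
  have b1 := eW f e
  have b2 := eW f f
  simp only [hfx, D.xx, D.xe, D.fe, D.ex, D.ef, D.hyp.pair, one_smul, zero_smul, zero_sub,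
    sub_zero] at a1 a2 a3 a4 b1 b2
  exact ⟨a1, a2, a3.symm, a4, by linear_combination (norm := module) -b2,
    by linear_combination (norm := module) -b1⟩

/-- The three coefficients. -/
theorem three_split : X = slot β l f x X
    + fa l (wd β x e) * (-(β e e)⁻¹ • slot β l f e X) + fa l (rk β x x) * slot β l f f X := by
  obtain ⟨s1, s2, s3, s4, s5, s6⟩ := commute_slots hf D l hR hW
  have h : X = fa l 1 * X * fa l 1 := by rw [map_one, one_mul, mul_one]
  conv_lhs => rw [h, three_one hf D]
  simp only [map_add, map_smul, add_mul, mul_add, smul_mul_assoc, mul_smul_comm, sandwich, s1, s2, s3,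
    s4, s5, s6, mul_zero, smul_zero, mul_neg, smul_neg]
  have h1 : slot β l f x X = fa l (rk β x f) * slot β l f x X + fa l (rk β f x) * slot β l f x X
      + (β e e)⁻¹ • (fa l (rk β e e) * slot β l f x X) := by
    rw [← smul_mul_assoc, ← map_smul, ← add_mul, ← add_mul, ← map_add, ← map_add, ← three_one hf D,
      map_one, one_mul]
  conv_rhs => arg 1; arg 1; rw [h1]
  rw [wd, map_sub, sub_mul]
  match_scalars <;> field_simp [D.ee] <;> ring

/-- The conjugate by a torus element. -/
theorem three_torus {m : GL (Fin k) F} {r : F} (hm : m ∈ isometryGroup F (qf β))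
    (hmx : m.val *ᵥ x = r • x) (hme : m.val *ᵥ e = e) :
    conjA (fu l m) X = slot β l f x X + r • (fa l (wd β x e) * (-(β e e)⁻¹ • slot β l f e X))
      + (r * r) • (fa l (rk β x x) * slot β l f f X) := by
  conv_lhs => rw [three_split hf D l hR hW]
  have hW' : conjA m (wd β x e) = r • wd β x e := by
    rw [wd, map_sub, conj_rk hf one_ne_zero (iso_sim hf hm), conj_rk hf one_ne_zero (iso_sim hf hm), hmx,
      hme, inv_one, one_smul, one_smul, rk_smul_left, rk_smul_right, smul_sub]
  have hR' : conjA m (rk β x x) = (r * r) • rk β x x := by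
    rw [conj_rk hf one_ne_zero (iso_sim hf hm), hmx, inv_one, one_smul, rk_smul_left, rk_smul_right,
      smul_smul]
  rw [map_add, map_add, map_mul, map_mul, acts_fu, acts_fu, conjA_fu_com (slot_com _ _ _ _),
    conjA_fu_com (slot_com _ _ _ _), conjA_fu_com ((slot_com _ _ _ _).smul _), hW', hR', map_smul,
    map_smul, smul_mul_assoc, smul_mul_assoc]

omit hR hW l X in
/-- With the weights all even the matrix is self-adjoint. -/
theorem fixed_sadj {X : Matrix (Idx k t) (Idx k t) F}
    (h : ∀ l : Fin t, Commute (fa l (rk β x x)) X ∧ Commute (fa l (wd β x e)) X ∧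
      Commute (fa l (rk β e e)) X) : SAdj β c X := by
  classical
  suffices key : ∀ (S : Finset (Fin t)) (X : Matrix (Idx k t) (Idx k t) F), (∀ l, l ∉ S → Com l X) →
      (∀ l ∈ S, Commute (fa l (rk β x x)) X ∧ Commute (fa l (wd β x e)) X ∧
        Commute (fa l (rk β e e)) X) → SAdj β c X from
    key Finset.univ X (fun l hl => absurd (Finset.mem_univ l) hl) fun l _ => h l
  intro S
  induction S using Finset.induction_on with
  | empty =>
    intro X h0 _
    have hk0 : 0 < k := by
      have h3 := D.card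
      rw [Fintype.card_fin] at h3
      omega
    obtain ⟨r, rfl⟩ := scalar_of_com hk0 fun l => h0 l (Finset.notMem_empty l)
    exact SAdj.scalar r
  | insert l S hl ih =>
    intro X hout hin
    obtain ⟨hR, hW, hE⟩ := hin l (Finset.mem_insert_self l S)
    obtain ⟨-, -, -, -, s5, -⟩ := commute_slots hf D l hR hW
    have he0 : e ≠ 0 := fun h0 => D.ee (by rw [h0, map_zero])
    have hB : slot β l f e X = 0 := by
      have h1 := congrArg (fun M => fa l (rk β e e) * M * fa l (rk β f e)) hE.eq
      simp only [rk_mul_rk_left, rk_mul_rk_right, D.ef, zero_smul] at h1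
      have h2 := eq_zero_of_fa_mul (rk_ne_zero hf he0 he0) (slot_com l e f X)
        ((smul_eq_zero.1 h1).resolve_left D.ee)
      rwa [s5, neg_eq_zero] at h2
    have hIH : ∀ b d, SAdj β c (slot β l b d X) := fun b d => ih _
      (fun j hj => by
        rcases eq_or_ne j l with rfl | hjl
        · exact slot_com _ _ _ _
        · exact slot_com_other hjl b d (hout j (by simp [hjl, hj])))
      fun j hj => by
        obtain ⟨a, b', c'⟩ := hin j (Finset.mem_insert_of_mem hj)
        have hne := ne_of_mem_of_not_mem hj hl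
        exact ⟨slot_commute l hne b d a, slot_commute l hne b d b', slot_commute l hne b d c'⟩
    rw [three_split hf D l hR hW, hB, smul_zero, mul_zero, add_zero]
    exact (hIH f x).add (SAdj.mul (fun a b => fa_adj hf l (rk_adj hf x) a b) (hIH f f) (slot_com l f f X _))

omit hR hW l X in
/-- A skew matrix in an invariant additive set gives a whole line in it. -/
theorem full_line [Finite F] (hq : 5 ≤ Nat.card F) {P : Matrix (Idx k t) (Idx k t) F → Prop}
    (hsub : ∀ X Y, P X → P Y → P (X - Y))
    (hfour : ∀ (r : F) X, r ≠ 0 → P X → P ((r * r * (r * r)) • X))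
    (hconj : ∀ (j : Fin t) (h : GL (Fin k) F), h ∈ Root (qf β) β ⊤ → ∀ X, P X → P (conjA (fu j h) X))
    (hskw : ∀ X, P X → Skw β c X) {X₀ : Matrix (Idx k t) (Idx k t) F} (hX₀ : P X₀) (hne : X₀ ≠ 0) :
    ∃ X, X ≠ 0 ∧ ∀ r : F, P (r • X) := by
  classical
  have C := factor_space hf
  have hxe := D.xe
  set s := sGL (qf β) β x e with hs
  have hsR : s ∈ Root (qf β) β ⊤ := sGL_mem_root trivial trivial D.hyp.singE hxe
  obtain ⟨p, hp⟩ := CharP.exists F
  haveI := hp
  haveI hpf : Fact p.Prime := ⟨CharP.char_is_prime F p⟩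
  have hpow : ∀ n : ℕ, s ^ n = sGL (qf β) β x ((n : F) • e) := fun n => by
    induction n with
    | zero => rw [pow_zero, Nat.cast_zero, zero_smul, SpTensor.sGL_zero_right C D.hyp.singE]
    | succ n ih =>
      rw [pow_succ, ih, hs, sGL_mul C D.hyp.singE (by rw [map_smul, hxe, smul_zero]) hxe, Nat.cast_succ,
        add_smul, one_smul]
  let D' : Fin t → Module.End F (Matrix (Idx k t) (Idx k t) F) := fun j =>
    (conjA (fu j s)).toLinearMap - 1
  have hD : ∀ j X, D' j X = conjA (fu j s) X - X := fun j X => rfl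
  have hnil : ∀ j X, ((D' j) ^ p) X = 0 := fun j X => by
    rcases subsingleton_or_nontrivial (Module.End F (Matrix (Idx k t) (Idx k t) F)) with h | h
    · rw [Subsingleton.elim ((D' j) ^ p) 0, LinearMap.zero_apply]
    haveI : CharP (Module.End F (Matrix (Idx k t) (Idx k t) F)) p :=
      charP_of_injective_algebraMap (RingHom.injective (algebraMap F _)) p
    have e1 : ∀ (n : ℕ) X, ((conjA (fu j s)).toLinearMap ^ n : Module.End F _) X =
        conjA (fu j s ^ n) X := fun n => by
      induction n with
      | zero => intro X; simp [conjA_one]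
      | succ n ih =>
        intro X
        rw [pow_succ', Module.End.mul_apply, ih, pow_succ', conjA_mul]
        rfl
    rw [show (D' j) = (conjA (fu j s)).toLinearMap - 1 from rfl,
      sub_pow_char_of_commute p (Commute.one_right _), one_pow, LinearMap.sub_apply, e1,
      Module.End.one_apply, ← map_pow, hpow, CharP.cast_eq_zero, zero_smul,
      SpTensor.sGL_zero_right C D.hyp.singE, map_one, conjA_one, sub_self]
  have hfix : ∀ S : Finset (Fin t), ∃ X, P X ∧ X ≠ 0 ∧ ∀ j ∈ S, D' j X = 0 := by
    intro S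
    induction S using Finset.induction_on with
    | empty => exact ⟨X₀, hX₀, hne, fun j hj => absurd hj (Finset.notMem_empty j)⟩
    | insert i S _ ih =>
      obtain ⟨X, hX, hX0, hXS⟩ := ih
      have hex : ∃ n, ((D' i) ^ n) X = 0 := ⟨p, hnil i X⟩
      obtain ⟨n, hn⟩ : ∃ n, Nat.find hex = n + 1 :=
        Nat.exists_eq_add_one.2 ((Nat.find_pos hex).2 (by simpa using hX0))
      have hmem : ∀ n, P (((D' i) ^ n) X) ∧ ∀ j ∈ S, D' j (((D' i) ^ n) X) = 0 := fun n => by
        induction n with
        | zero => exact ⟨by simpa using hX, by simpa using hXS⟩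
        | succ n ih =>
          refine ⟨?_, fun j hj => ?_⟩
          · rw [pow_succ', Module.End.mul_apply, hD]
            exact hsub _ _ (hconj i s hsR _ ih.1) ih.1
          · have hc : Commute (fu j s : GL (Idx k t) F) (fu i s) := by
              rcases eq_or_ne j i with rfl | hji
              · exact Commute.refl _
              · exact Units.ext (fa_comm hji _ _).eq
            rw [pow_succ', Module.End.mul_apply, hD j, hD i, map_sub, ← conjA_mul, hc.eq, conjA_mul,
              sub_eq_zero.1 ((hD j _).symm.trans (ih.2 j hj)), sub_self]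
      refine ⟨_, (hmem n).1, Nat.find_min hex (by omega), fun j hj => ?_⟩
      rcases Finset.mem_insert.1 hj with rfl | hj
      · rw [← Module.End.mul_apply, ← pow_succ', ← hn]
        exact Nat.find_spec hex
      · exact (hmem n).2 j hj
  obtain ⟨X, hX, hX0, hXS⟩ := hfix Finset.univ
  have hcm : ∀ j, Commute (fa j (rk β x x)) X ∧ Commute (fa j (wd β x e)) X := fun j => by
    have h1 := sub_eq_zero.1 ((hD j X).symm.trans (hXS j (Finset.mem_univ j)))
    have h2 : Commute (fu j s).val X := by
      have := congrArg (· * (fu j s).val) h1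
      simp only [conjA_apply, mul_assoc, Units.inv_mul, mul_one] at this
      exact this
    have h3 : Commute ((fu j s)⁻¹).val X := h2.units_inv_left
    rw [fu_val] at h2
    rw [fu_inv_val] at h3
    have hne' : β x (-e) = 0 := by rw [map_neg, hxe, neg_zero]
    rw [hs, sgl_val hf D.hyp.singE hxe, map_sub, map_add, map_one, map_smul] at h2
    rw [hs, sgl_inv hf D.hyp.singE hxe, sgl_val hf D.hyp.singE hne', C.neg, wd_neg, map_sub, map_add,
      map_one, map_smul, map_neg] at h3
    constructor
    · have h4 := ((h2.add_left h3).sub_left ((Commute.one_left X).add_left (Commute.one_left X))).smul_left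
        (-2 * qf β e)⁻¹
      rwa [show ∀ u v : Matrix (Idx k t) (Idx k t) F, 1 + u - v + (1 + -u - v) - (1 + 1) = (-2 : F) • v
        from fun u v => by module, smul_smul, smul_smul, mul_assoc, inv_mul_cancel₀
          (mul_ne_zero (neg_ne_zero.2 hf.h2) D.ns), one_smul] at h4
    · have h4 := (h2.sub_left h3).smul_left (2 : F)⁻¹
      rwa [show ∀ u v : Matrix (Idx k t) (Idx k t) F, 1 + u - v - (1 + -u - v) = (2 : F) • u
        from fun u v => by module, smul_smul, inv_mul_cancel₀ hf.h2, one_smul] at h4
  obtain ⟨l, hl⟩ : ∃ l, slot β l f e X ≠ 0 := by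
    by_contra hcon
    push Not at hcon
    refine hX0 (skw_sadj_zero hf (hskw X hX) (fixed_sadj hf D fun l => ⟨(hcm l).1, (hcm l).2, ?_⟩))
    have e1 := three_split hf D l (hcm l).1 (hcm l).2
    rw [hcon l, smul_zero, mul_zero, add_zero] at e1
    rw [e1]
    refine (slot_com l f x X _).add_right (Commute.mul_right ?_ (slot_com l f f X _))
    show _ * _ = _ * _
    rw [← map_mul, ← map_mul, rk_mul_rk, rk_mul_rk, D.ex, D.xe, zero_smul, zero_smul]
  set B := fa l (wd β x e) * (-(β e e)⁻¹ • slot β l f e X) with hBdef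
  have hWne : wd β x e ≠ 0 := fun h0 => D.ns (by
    have h1 := congrArg (fun M => M *ᵥ f) h0
    simp only [wd_mulVec, D.hyp.pair, D.ef, one_smul, zero_smul, sub_zero, Matrix.zero_mulVec] at h1
    rw [h1, C.zero])
  have hB0 : B ≠ 0 := fun h0 => hl ((smul_eq_zero.1
    (eq_zero_of_fa_mul hWne ((slot_com l f e X).smul _) h0)).resolve_left
      (neg_ne_zero.2 (inv_ne_zero D.ee)))
  obtain ⟨r, hr0, hr1⟩ := (exists_scalar hf (Or.inr ⟨by simpa using D.card, hq⟩)).resolve_left (by
    have := D.card; simp only [Fintype.card_fin] at this; omega)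
  obtain ⟨m, hm, hmx, hme⟩ := D.exists_torus hr0
  have hmI := root_le_iso C _ hm
  have hWm : conjA (fu l m) B = (r * r) • B := by
    rw [hBdef, map_mul, acts_fu, conjA_fu_com ((slot_com _ _ _ _).smul _), wd, map_sub,
      conj_rk hf one_ne_zero (iso_sim hf hmI), conj_rk hf one_ne_zero (iso_sim hf hmI), hmx, hme,
      inv_one, one_smul, one_smul, rk_smul_left, rk_smul_right, ← smul_sub, map_smul, smul_mul_assoc]
  have hXm := three_torus hf D l (hcm l).1 (hcm l).2 hmI hmx hme
  rw [← hBdef] at hXm
  have hY : P ((1 - r * r * (r * r)) • slot β l f x X + (r * r * (1 - r * r)) • B) := by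
    have h1 := hsub _ _ (hconj l m hm X hX) (hfour r X hr0 hX)
    convert h1 using 1
    rw [hXm]
    conv_rhs => arg 2; arg 2; rw [three_split hf D l (hcm l).1 (hcm l).2, ← hBdef]
    module
  have hd : P (((r * r - 1) * (r * r * (1 - r * r))) • B) := by
    have h1 := hsub _ _ (hconj l m hm _ hY) hY
    convert h1 using 1
    rw [map_add, map_smul, map_smul, conjA_fu_com (slot_com _ _ _ _), hWm]
    module
  set d := (r * r - 1) * (r * r * (1 - r * r))
  have hd0 : d ≠ 0 := mul_ne_zero (sub_ne_zero.2 hr1)
    (mul_ne_zero (mul_ne_zero hr0 hr0) (sub_ne_zero.2 (Ne.symm hr1)))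
  have hsq : ∀ u : F, P ((u * u * d) • B) := fun u => by
    rcases eq_or_ne u 0 with rfl | hu
    · rw [mul_zero, zero_mul, zero_smul]
      simpa using hsub _ _ hd hd
    obtain ⟨n, hn, hnx, hne'⟩ := D.exists_torus hu
    have h1 := hconj l n hn _ hd
    rwa [map_smul, hBdef, map_mul, acts_fu, conjA_fu_com ((slot_com _ _ _ _).smul _), wd, map_sub,
      conj_rk hf one_ne_zero (iso_sim hf (root_le_iso C _ hn)),
      conj_rk hf one_ne_zero (iso_sim hf (root_le_iso C _ hn)), hnx, hne', inv_one, one_smul, one_smul,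
      rk_smul_left, rk_smul_right, ← smul_sub, map_smul, smul_mul_assoc, smul_smul, mul_comm d] at h1
  refine ⟨B, hB0, fun a => ?_⟩
  have h1 := hsub _ _ (hsq ((a / d + 1) / 2)) (hsq ((a / d - 1) / 2))
  rw [← sub_smul] at h1
  convert h1 using 2
  field_simp [hf.h2]
  ring

end Cfsg.Lib.Linear.OTPow
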