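import Cfsg.Agent.Lib.Linear.OOTensor.Parab
import Cfsg.Agent.Lib.Linear.OOTensor.Square.Basic

/-!
# The unipotent radical over a group containing the Siegel elements of the second factor

Only the Siegel elements of the second factor are assumed in the group. If the commutative spaces of
endomorphisms of the first factor invariant under the group are scalar, the radical consists of
Siegel elements.
-/

set_option autoImplicit false
set_option linter.unusedSectionVars false
set_option linter.unusedSimpArgs false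

namespace Cfsg.Lib.Linear.OTPow

open Module Cfsg.Lib.Linear.Orth
open Cfsg.Lib.Linear.OOTensor
open Cfsg.Lib.Linear.OOTensor.Square (Three)
open Cfsg.Lib.Linear.SpTensor (InA)
open scoped Matrix MatrixGroups

variable {ι κ μ : Type} [Fintype ι] [DecidableEq ι] [Fintype κ] [DecidableEq κ] [Fintype μ]
  [DecidableEq μ] {F : Type*} [Field F] {Q : (ι → F) → F} {B : LinearMap.BilinForm F (ι → F)}
  {α : LinearMap.BilinForm F (κ → F)} {β : LinearMap.BilinForm F (μ → F)}
  {τ : (κ → F) →ₗ[F] (μ → F) →ₗ[F] (ι → F)} {L : Subgroup (GL ι F)} (T : Ten Q B α β τ)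
  {x f : μ → F}

/-- A subgroup of the isometries with the Siegel elements of the second factor, without long
elements. -/
structure Side (L : Subgroup (GL ι F)) : Prop where
  le : L ≤ isometryGroup F Q
  right : ∀ x a, qf β x = 0 → β x a = 0 → T.liftR (sGL (qf β) β x a) ∈ L
  lose : Losing T L

/-- Commutative spaces invariant under the group are scalar. -/
def ScalarInv (L : Subgroup (GL ι F)) : Prop :=
  ∀ 𝒦 : Submodule F (Module.End F (κ → F)), (∀ X ∈ 𝒦, ∀ Y ∈ 𝒦, X * Y = Y * X) →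
    (∀ p : GL κ F, T.swap.liftR p ∈ L → ∀ X ∈ 𝒦, cj p X ∈ 𝒦) →
    ∀ X ∈ 𝒦, X ∈ Submodule.span F {(1 : Module.End F (κ → F))}

variable (H : Hyp (qf β) β ⊤ x f) (hS : Side T L)
include H hS

theorem Side.root {h : GL μ F} (hh : h ∈ Root (qf β) β ⊤) : T.liftR h ∈ L :=
  (show Root (qf β) β ⊤ ≤ L.comap T.liftR from (Subgroup.closure_le _).2 fun _ hg => by
    obtain ⟨u, a, -, -, hu, hua, rfl⟩ := hg
    exact hS.right u a hu hua) hh

/-- The coefficients determine an element of the group. -/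
theorem uext {g g' : GL ι F} (hgL : g ∈ L) (hgL' : g' ∈ L) (hg : Unip T x g) (hg' : Unip T x g')
    (h : ∀ w ∈ perp2 β ⊤ x f, T.cof f g w = T.cof f g' w) : g = g' := by
  have hh := hg'.inv T |>.mul T hg
  have hfix : ∀ u w, β x w = 0 → (g'⁻¹ * g).val *ᵥ τ u w = τ u w := by
    intro u w hw
    obtain ⟨r, hr, ew⟩ := exists_split T.SW H w
    have hrx := (mem_perp2.1 hr).2.1
    rw [ew, hw, zero_smul, add_zero, map_add, map_smul, Matrix.mulVec_add, Matrix.mulVec_smul, hh.1,
      hh.act T H hrx, Unip.cof_mul T H (hg'.inv T) hg hrx, Unip.cof_inv T H hg' hrx, h r hr]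
    simp
  obtain ⟨φ, hφ⟩ := long_of_fix T H (mul_mem (inv_mem (hS.le hgL')) (hS.le hgL)) hfix
  have h0 : φ = 0 := hS.lose x φ H.singE (hyp_ne_zero T H) ⟨_, mul_mem (inv_mem hgL') hgL, hφ⟩
  refine (inv_mul_eq_one.1 (Orth.gl_ext fun v => ?_)).symm
  rw [hφ, h0, T.long_apply]
  simp

/-- Elements of the radical commute. -/
theorem ucomm {g g' : GL ι F} (hgL : g ∈ L) (hgL' : g' ∈ L) (hg : Unip T x g) (hg' : Unip T x g') :
    g * g' = g' * g :=
  uext T H hS (mul_mem hgL hgL') (mul_mem hgL' hgL) (hg.mul T hg') (hg'.mul T hg) fun w hw => by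
    rw [Unip.cof_mul T H hg hg' (mem_perp2.1 hw).2.1, Unip.cof_mul T H hg' hg (mem_perp2.1 hw).2.1,
      add_comm]

theorem uself_adjoint {g : GL ι F} (hgL : g ∈ L) (hg : Unip T x g) {a : μ → F}
    (ha : a ∈ perp2 β ⊤ x f) (u c : κ → F) :
    α (T.cof f g a u) c = α u (T.cof f g a c) :=
  Unip.self_adjoint T H (hS.le hgL) hg
    (ucomm T H hS hgL (hS.right x a H.singE (mem_perp2.1 ha).2.1) hg
      (unip_siegel T H (mem_perp2.1 ha).2.1)) ha u c

theorem real_add {y : μ → F} {K K' : Module.End F (κ → F)} (h : Real T L x f y K)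
    (h' : Real T L x f y K') : Real T L x f y (K + K') := by
  obtain ⟨g, hg, hu, hc⟩ := h
  obtain ⟨g', hg', hu', hc'⟩ := h'
  exact ⟨g * g', mul_mem hg hg', hu.mul T hu', fun w hw => by
    rw [Unip.cof_mul T H hu hu' (mem_perp2.1 hw).2.1, hc w hw, hc' w hw, smul_add]⟩

theorem real_zero (y : μ → F) : Real T L x f y 0 :=
  ⟨1, one_mem _, unip_one T x, fun w _ => by
    rw [smul_zero]; exact Unip.cof_eq T H fun u => by simp⟩

theorem real_neg {y : μ → F} {K : Module.End F (κ → F)} (h : Real T L x f y K) :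
    Real T L x f y (-K) := by
  obtain ⟨g, hg, hu, hc⟩ := h
  exact ⟨g⁻¹, inv_mem hg, hu.inv T, fun w hw => by
    rw [Unip.cof_inv T H hu (mem_perp2.1 hw).2.1, hc w hw, smul_neg]⟩

theorem uconj_root {g : GL ι F} (hg : g ∈ L) (hu : Unip T x g) {s : GL μ F}
    (hs : s ∈ Root (qf β) β (perp2 β ⊤ x f)) :
    T.liftR s * g * (T.liftR s)⁻¹ ∈ L ∧ Unip T x (T.liftR s * g * (T.liftR s)⁻¹) ∧
      ∀ w ∈ perp2 β ⊤ x f,
        T.cof f (T.liftR s * g * (T.liftR s)⁻¹) (s.val *ᵥ w) = T.cof f g w := by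
  have hsL := Side.root T H hS (root_mono le_top hs)
  have hsx : s.val *ᵥ x = x := (root_act T.SW hs x).2 fun y hy => by
    rw [T.sβ]; exact (mem_perp2.1 hy).2.1
  refine ⟨mul_mem (mul_mem hsL hg) (inv_mem hsL),
    Unip.conj T H (hS.le hsL) (fun u => ⟨u, by rw [T.liftR_act, hsx]⟩) hu,
    fun w hw => Unip.cof_eq T H fun u => ?_⟩
  rw [← T.liftR_act, mul_act, mul_act, inv_act, hu.act T H (mem_perp2.1 hw).2.1, Matrix.mulVec_add,
    T.liftR_act, T.liftR_act, hsx]

theorem real_move {y : μ → F} {K : Module.End F (κ → F)} (h : Real T L x f y K) {s : GL μ F}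
    (hs : s ∈ Root (qf β) β (perp2 β ⊤ x f)) : Real T L x f (s.val *ᵥ y) K := by
  obtain ⟨g, hg, hu, hc⟩ := h
  obtain ⟨h1, h2, h3⟩ := uconj_root T H hS hg hu hs
  refine ⟨_, h1, h2, fun w hw => ?_⟩
  have hw' := root_mem_U T.SW (inv_mem hs) hw
  have h4 := h3 _ hw'
  rw [act_inv, hc _ hw'] at h4
  rw [h4, T.SW.B_act_left (root_le_iso T.SW _ hs)]

theorem real_smul_left {y : μ → F} {K : Module.End F (κ → F)} {c : F}
    (h : Real T L x f (c • y) K) : Real T L x f y (c • K) := by
  obtain ⟨g, hg, hu, hc⟩ := h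
  exact ⟨g, hg, hu, fun w hw => by
    rw [hc w hw, map_smul, LinearMap.smul_apply, smul_eq_mul, smul_smul, mul_comm]⟩

/-- Isolation of one coefficient. -/
theorem ureal_coeff [Finite F] (hk : 5 ≤ Fintype.card μ) {g : GL ι F} (hg : g ∈ L) (hu : Unip T x g)
    {y y' : μ → F} (G : Hyp (qf β) β (perp2 β ⊤ x f) y y') (r₀ : F) :
    Real T L x f y (r₀ • T.cof f g y) := by
  have hWn := H.ndeg T.SW T.SW.ndeg_top
  obtain ⟨d, hd, hQd⟩ := exists_nonsing T.SW (G.ndeg T.SW hWn) (fun h0 => by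
    have h1 := G.le_finrank T.SW
    have h2 := H.le_finrank T.SW
    rw [h0, finrank_bot] at h1
    rw [finrank_top, finrank_fintype_fun_eq_card] at h2
    omega)
  obtain ⟨hdW, hyd, hy'd⟩ := mem_perp2.1 hd
  have hsingle : ∀ r : F, Real T L x f y ((-2 * (r * r * qf β d)) • T.cof f g y) := by
    intro r
    have hrd : β y (r • d) = 0 := by rw [map_smul, hyd, smul_zero]
    have hrd' : β y (-(r • d)) = 0 := by rw [map_neg, hrd, neg_zero]
    have hs := sGL_mem_root G.memE (Submodule.smul_mem _ r hdW) G.singE hrd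
    have hs' := sGL_mem_root G.memE (Submodule.neg_mem _ (Submodule.smul_mem _ r hdW)) G.singE hrd'
    obtain ⟨a1, a2, a3⟩ := uconj_root T H hS hg hu hs
    obtain ⟨b1, b2, b3⟩ := uconj_root T H hS hg hu hs'
    refine ⟨_, mul_mem (mul_mem a1 b1) (inv_mem (mul_mem hg hg)),
      (a2.mul T b2).mul T ((hu.mul T hu).inv T), fun w hw => ?_⟩
    have hw1 := (mem_perp2.1 hw).2.1
    have e1 := a3 _ (root_mem_U T.SW hs' hw)
    have e2 := b3 _ (root_mem_U T.SW hs hw)
    rw [← mul_act, sGL_mul T.SW G.singE hrd hrd', add_neg_cancel,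
      SpTensor.sGL_zero_right T.SW G.singE, Units.val_one, Matrix.one_mulVec] at e1
    rw [← mul_act, sGL_mul T.SW G.singE hrd' hrd, neg_add_cancel,
      SpTensor.sGL_zero_right T.SW G.singE, Units.val_one, Matrix.one_mulVec] at e2
    rw [Unip.cof_mul T H (a2.mul T b2) ((hu.mul T hu).inv T) hw1, Unip.cof_mul T H a2 b2 hw1,
      Unip.cof_inv T H (hu.mul T hu) hw1, Unip.cof_mul T H hu hu hw1, e1, e2,
      sGL_act T.SW G.singE hrd', sGL_act T.SW G.singE hrd, T.SW.neg, T.SW.smul]
    simp only [map_add, map_sub, map_smul, map_neg, LinearMap.neg_apply]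
    module
  have h2q : (-2 * qf β d) ≠ 0 := mul_ne_zero (neg_ne_zero.2 T.h2) hQd
  set c := r₀ / (-2 * qf β d) with hc
  have e : r₀ • T.cof f g y = (-2 * (((c + 1) / 2) * ((c + 1) / 2) * qf β d)) • T.cof f g y +
      -((-2 * (((c - 1) / 2) * ((c - 1) / 2) * qf β d)) • T.cof f g y) := by
    have ec : -2 * (((c + 1) / 2) * ((c + 1) / 2) * qf β d)
        - -2 * (((c - 1) / 2) * ((c - 1) / 2) * qf β d) = r₀ := by
      rw [show r₀ = c * (-2 * qf β d) by rw [hc, div_mul_cancel₀ _ h2q]]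
      field_simp [T.h2]
      ring
    conv_lhs => rw [← ec]
    module
  rw [e]
  exact real_add T H hS (hsingle _) (real_neg T H hS (hsingle _))

theorem uconj_left {p : GL κ F} (hp : T.swap.liftR p ∈ L) {g : GL ι F} (hg : g ∈ L) (hu : Unip T x g) :
    T.swap.liftR p * g * (T.swap.liftR p)⁻¹ ∈ L ∧
      Unip T x (T.swap.liftR p * g * (T.swap.liftR p)⁻¹) ∧
      ∀ w ∈ perp2 β ⊤ x f,
        T.cof f (T.swap.liftR p * g * (T.swap.liftR p)⁻¹) w = cj p (T.cof f g w) := by
  refine ⟨mul_mem (mul_mem hp hg) (inv_mem hp),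
    Unip.conj T H (hS.le hp) (fun c => ⟨_, T.liftL_act _ c x⟩) hu,
    fun w hw => Unip.cof_eq T H fun c => ?_⟩
  rw [mul_act, mul_act, ← map_inv, T.liftL_act, hu.act T H (mem_perp2.1 hw).2.1, Matrix.mulVec_add,
    T.liftL_act, T.liftL_act, act_inv, cj_apply]

/-- The action on the partner of the centre. -/
theorem uact {h : GL ι F} (hhL : h ∈ L) (hh : Unip T x h) (u : κ → F) :
    T.ctr x (h.val *ᵥ τ u f) = u ∧
      ∀ r ∈ perp2 β ⊤ x f, T.ctr r (h.val *ᵥ τ u f) = -T.cof f h r u :=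
  ⟨Unip.ctr_x T H (hS.le hhL) hh u, fun r hr => T.α_ext fun c => by
    rw [Unip.ctr_perp T H (hS.le hhL) hh hr, ← uself_adjoint T H hS hhL hh hr, map_neg,
      LinearMap.neg_apply]⟩

/-- Two commuting elements with coefficients in two directions. -/
theorem ucomm_coeff {g g' : GL ι F} (hgL : g ∈ L) (hgL' : g' ∈ L) (hg : Unip T x g) (hg' : Unip T x g')
    {y y' : μ → F} (hy : y ∈ perp2 β ⊤ x f) (hy' : y' ∈ perp2 β ⊤ x f) (hyy : β y y' ≠ 0)
    {K K' : Module.End F (κ → F)} (hc : ∀ w ∈ perp2 β ⊤ x f, T.cof f g w = β y w • K)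
    (hc' : ∀ w ∈ perp2 β ⊤ x f, T.cof f g' w = β y' w • K') : K * K' = K' * K := by
  obtain ⟨-, hy1, hy2⟩ := mem_perp2.1 hy
  obtain ⟨-, hy1', hy2'⟩ := mem_perp2.1 hy'
  have hact : ∀ {h : GL ι F}, h ∈ L → Unip T x h → ∀ {y : μ → F} {K : Module.End F (κ → F)},
      y ∈ perp2 β ⊤ x f → (∀ w ∈ perp2 β ⊤ x f, T.cof f h w = β y w • K) → ∀ u, h.val *ᵥ τ u f =
        τ u f + τ (T.ctr f (h.val *ᵥ τ u f)) x - τ (K u) y := by
    intro h hhL hh y K hy hc u
    obtain ⟨-, h1, h2⟩ := mem_perp2.1 hy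
    obtain ⟨a1, a2⟩ := uact T H hS hhL hh u
    refine T.ext3 H ?_ ?_ fun r hr => ?_
    · simp [a1, T.ctr_tau, H.pair' T.SW, T.qf_zero.1 H.singE, T.sβ y x, h1]
    · simp [T.ctr_tau, H.pair, T.qf_zero.1 H.singF, T.sβ y f, h2]
    · obtain ⟨-, r1, r2⟩ := mem_perp2.1 hr
      rw [a2 r hr, hc r hr]
      simp [T.ctr_tau, r1, r2, T.sβ f r, T.sβ x r]
  refine LinearMap.ext fun u => ?_
  have h1 := congrArg (fun k : GL ι F => T.ctr f (k.val *ᵥ τ u f)) (ucomm T H hS hgL' hgL hg' hg)
  simp only [mul_act] at h1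
  rw [hact hgL hg hy hc u, hact hgL' hg' hy' hc' u,
    Matrix.mulVec_sub, Matrix.mulVec_sub, Matrix.mulVec_add, Matrix.mulVec_add, hg.1, hg'.1,
    hg.act T H hy1', hg'.act T H hy1, hc _ hy', hc' _ hy, T.sβ y' y] at h1
  simp only [LinearMap.smul_apply, map_smul] at h1
  simp [T.ctr_tau, H.pair, T.sβ y f, hy2, T.sβ y' f, hy2'] at h1
  rw [Module.End.mul_apply, Module.End.mul_apply]
  refine smul_right_injective _ hyy ?_
  linear_combination (norm := module) h1

/-- The coefficient spans a scalar line. -/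
theorem ucof_scalar [Finite F] (hb : 5 ≤ Fintype.card μ ∨ Fintype.card μ = 3) (hI : ScalarInv T L)
    {g : GL ι F} (hgL : g ∈ L) (hg : Unip T x g) {w : μ → F} (hw : w ∈ perp2 β ⊤ x f) :
    T.cof f g w ∈ Submodule.span F {(1 : Module.End F (κ → F))} := by
  have hWn := H.ndeg T.SW T.SW.ndeg_top
  rcases hb with h5 | h3
  · have hW3 : 3 ≤ finrank F (perp2 β ⊤ x f) := by
      have := H.le_finrank T.SW
      rw [finrank_top, finrank_fintype_fun_eq_card] at this
      omega
    suffices hscal : ∀ y ∈ perp2 β ⊤ x f, qf β y = 0 →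
        T.cof f g y ∈ Submodule.span F {(1 : Module.End F (κ → F))} by
      exact ((span_sing T.SW hWn hW3).trans ((Submodule.span_le
        (p := (Submodule.span F {(1 : Module.End F (κ → F))}).comap (T.cof f g))).2
        fun r hr => hscal r hr.1 hr.2)) hw
    intro y hy hQy
    rcases eq_or_ne y 0 with rfl | hy0
    · rw [map_zero]; exact Submodule.zero_mem _
    obtain ⟨y', G⟩ := exists_hyp T.SW hWn hy hy0 hQy
    obtain ⟨-, hy1, -⟩ := mem_perp2.1 hy
    obtain ⟨d, hd, hQd⟩ := exists_nonsing T.SW (G.ndeg T.SW hWn) (fun h0 => by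
      have h1 := G.le_finrank T.SW
      rw [h0, finrank_bot] at h1
      omega)
    obtain ⟨hdW, hyd, hy'd⟩ := mem_perp2.1 hd
    set e := (qf β d)⁻¹ • d with he
    have hye : β y e = 0 := by rw [he, map_smul, hyd, smul_zero]
    have htr : ∀ K : Module.End F (κ → F), Real T L x f y K →
        Real T L x f y' ((-qf β d) • K) := by
      intro K hK
      have h1 := real_move T H hS (real_move T H hS hK
        (sGL_mem_root G.memF hdW G.singF hy'd))
        (sGL_mem_root G.memE (Submodule.smul_mem _ _ hdW) G.singE hye)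
      refine real_smul_left T H hS ?_
      convert h1 using 1
      rw [sGL_act T.SW G.singF hy'd, sGL_act T.SW G.singE hye, G.pair' T.SW, T.sβ d y, hyd, he,
        T.SW.smul]
      simp only [map_add, map_sub, map_smul, LinearMap.add_apply, LinearMap.smul_apply, hyd,
        T.qf_zero.1 G.singE, G.pair, T.sβ d y, T.sβ d y', hy'd, T.SW.self]
      match_scalars
      all_goals generalize qf β d = a at hQd ⊢
      all_goals try simp only [smul_eq_mul]
      all_goals field_simp
      all_goals ring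
    let 𝒦 : Submodule F (Module.End F (κ → F)) :=
      { carrier := {K | ∀ r : F, Real T L x f y (r • K)}
        add_mem' := fun h h' r => by rw [smul_add]; exact real_add T H hS (h r) (h' r)
        zero_mem' := fun r => by rw [smul_zero]; exact real_zero T H hS y
        smul_mem' := fun c K h r => by rw [smul_smul]; exact h _ }
    refine hI 𝒦 (fun X hX Y hY => ?_) (fun p hp X hX r => ?_) _
      fun r => ureal_coeff T H hS h5 hgL hg G r
    · obtain ⟨h, hhL, hh, hc⟩ : Real T L x f y X := by simpa using hX 1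
      obtain ⟨h', hhL', hh', hc'⟩ : Real T L x f y' Y := by
        have h3 := htr _ (hY (-qf β d)⁻¹)
        rwa [smul_smul, mul_inv_cancel₀ (neg_ne_zero.2 hQd), one_smul] at h3
      exact ucomm_coeff T H hS hhL hhL' hh hh' G.memE G.memF (by rw [G.pair]; exact one_ne_zero) hc hc'
    · obtain ⟨h, hhL, hh, hc⟩ := hX r
      obtain ⟨a1, a2, a3⟩ := uconj_left T H hS hp hhL hh
      exact ⟨_, a1, a2, fun w hw => by rw [a3 w hw, hc w hw, map_smul, map_smul]⟩
  · obtain ⟨e, D⟩ := Square.exists_three T.SW T.h2 h3 H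
    have hline : ∀ {h : GL ι F} {w : μ → F}, w ∈ perp2 β ⊤ x f →
        T.cof f h w = β e w • ((β e e)⁻¹ • T.cof f h e) := fun {h w} hw => by
      conv_lhs => rw [D.line w hw]
      rw [map_smul, smul_smul, div_eq_mul_inv]
    let R : Module.End F (κ → F) → Prop := fun K => Real T L x f e K
    have hRsq : ∀ {K : Module.End F (κ → F)} (r : F), R K → R ((r * r) • K) := fun {K} r h => by
      rcases eq_or_ne r 0 with rfl | hr
      · rw [mul_zero, zero_smul]; exact real_zero T H hS e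
      obtain ⟨m, hm, hmx, hme⟩ := D.exists_torus hr
      obtain ⟨h', hhL, hh, hc⟩ := h
      have hmL := Side.root T H hS hm
      have hu := Unip.conj T H (hS.le hmL) (fun u => ⟨(r * r) • u, by
        rw [T.liftR_act, hmx, map_smul, map_smul, LinearMap.smul_apply]⟩) hh
      refine ⟨_, mul_mem (mul_mem hmL hhL) (inv_mem hmL), hu, fun w hw => ?_⟩
      rw [hline hw]
      have h1 : T.cof f (T.liftR m * h' * (T.liftR m)⁻¹) e = (r * r) • T.cof f h' e :=
        Unip.cof_eq T H fun u => by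
          have h2 : ((T.liftR m)⁻¹ : GL ι F).val *ᵥ τ u e = τ u e := by
            apply Orth.act_injective (T.liftR m)
            show (T.liftR m).val *ᵥ _ = (T.liftR m).val *ᵥ _
            rw [act_inv, T.liftR_act, hme]
          rw [mul_act, mul_act, h2, hh.act T H D.xe, Matrix.mulVec_add, T.liftR_act, T.liftR_act, hme,
            hmx, map_smul, LinearMap.smul_apply, map_smul, LinearMap.smul_apply]
      have h3 := hc e D.mem
      rw [h1, h3, smul_comm (r * r) (β e e), smul_smul (β e e)⁻¹, inv_mul_cancel₀ D.ee, one_smul]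
    let 𝒦 : Submodule F (Module.End F (κ → F)) :=
      { carrier := {K | R K}
        add_mem' := fun h h' => real_add T H hS h h'
        zero_mem' := real_zero T H hS e
        smul_mem' := fun c K h => by
          have e' : c • K = (((c + 1) / 2) * ((c + 1) / 2)) • K
              + -((((c - 1) / 2) * ((c - 1) / 2)) • K) := by
            have ec : ((c + 1) / 2) * ((c + 1) / 2) - ((c - 1) / 2) * ((c - 1) / 2) = c := by
              field_simp [T.h2]
              ring
            conv_lhs => rw [← ec]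
            module
          show R (c • K)
          rw [e']
          exact real_add T H hS (hRsq _ h) (real_neg T H hS (hRsq _ h)) }
    have h1 : (β e e)⁻¹ • T.cof f g e ∈ Submodule.span F {(1 : Module.End F (κ → F))} := by
      refine hI 𝒦 (fun X hX Y hY => ?_) (fun p hp X hX => ?_) _ ⟨g, hgL, hg, fun w hw => hline hw⟩
      · obtain ⟨h, hhL, hh, hc⟩ := hX
        obtain ⟨h', hhL', hh', hc'⟩ := hY
        exact ucomm_coeff T H hS hhL hhL' hh hh' D.mem D.mem D.ee hc hc'
      · obtain ⟨h, hhL, hh, hc⟩ := hX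
        obtain ⟨a1, a2, a3⟩ := uconj_left T H hS hp hhL hh
        exact ⟨_, a1, a2, fun w hw => by rw [a3 w hw, hc w hw, map_smul]⟩
    rw [hline hw]
    exact Submodule.smul_mem _ _ h1

/-- **The radical consists of Siegel elements.** -/
theorem unip_eq' [Finite F] (hκ : 0 < Fintype.card κ)
    (hb : 5 ≤ Fintype.card μ ∨ Fintype.card μ = 3) (hI : ScalarInv T L)
    {g : GL ι F} (hgL : g ∈ L) (hg : Unip T x g) :
    ∃ a ∈ perp2 β ⊤ x f, g = T.liftR (sGL (qf β) β x a) := by
  obtain ⟨a, ha, he⟩ := exists_siegel_cof T H hκ (g := g) fun w hw =>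
    ucof_scalar T H hS hb hI hgL hg hw
  exact ⟨a, ha, uext T H hS hgL (hS.right x a H.singE (mem_perp2.1 ha).2.1) hg
    (unip_siegel T H (mem_perp2.1 ha).2.1) he⟩

end Cfsg.Lib.Linear.OTPow
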