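import Cfsg.Agent.Lib.Linear.OTPow.Base
import Cfsg.Agent.Lib.Linear.OOTensor.Square.Basic

/-!
# Matrices of rank one, wedges and frames of a factor
-/

set_option autoImplicit false
set_option linter.unusedSectionVars false

namespace Cfsg.Lib.Linear.OTPow

open Module Cfsg.Lib.Linear.Orth
open Cfsg.Lib.Linear.OOTensor (qf)
open Cfsg.Lib.Linear.OOTensor.Square (Three exists_three exists_three_at no_plane)
open scoped Matrix MatrixGroups

variable {F : Type*} [Field F] {k : ℕ} (β : LinearMap.BilinForm F (Fin k → F))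

/-- The factor has dimension at least five, or three over a field with at least five elements. -/
def Big (F : Type*) (k : ℕ) : Prop := 5 ≤ k ∨ (k = 3 ∧ 5 ≤ Nat.card F)

/-- The map `v ↦ β(b,v) a`. -/
def rk (a b : Fin k → F) : Matrix (Fin k) (Fin k) F := Matrix.vecMulVec a (cov β b)

/-- The skew map of two vectors. -/
def wd (a b : Fin k → F) : Matrix (Fin k) (Fin k) F := rk β b a - rk β a b

variable {β}

theorem rk_mulVec (a b v : Fin k → F) : rk β a b *ᵥ v = β b v • a := by
  rw [rk, Matrix.vecMulVec_mulVec, op_smul_eq_smul, cov_dot]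

theorem mul_rk (X : Matrix (Fin k) (Fin k) F) (a b : Fin k → F) : X * rk β a b = rk β (X *ᵥ a) b :=
  Matrix.mul_vecMulVec _ _ _

theorem rk_mul_rk (a b a' b' : Fin k → F) : rk β a b * rk β a' b' = β b a' • rk β a b' := by
  refine mat_ext fun v => ?_
  rw [← Matrix.mulVec_mulVec, Matrix.smul_mulVec, rk_mulVec, rk_mulVec, rk_mulVec, map_smul,
    smul_eq_mul, smul_smul, mul_comm]

theorem rk_add_left (a a' b : Fin k → F) : rk β (a + a') b = rk β a b + rk β a' b :=
  mat_ext fun v => by simp [rk_mulVec, Matrix.add_mulVec]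

theorem rk_smul_left (r : F) (a b : Fin k → F) : rk β (r • a) b = r • rk β a b :=
  mat_ext fun v => by simp [rk_mulVec, Matrix.smul_mulVec, smul_smul, mul_comm]

theorem rk_add_right (a b b' : Fin k → F) : rk β a (b + b') = rk β a b + rk β a b' :=
  mat_ext fun v => by simp [rk_mulVec, Matrix.add_mulVec, add_smul]

theorem rk_smul_right (r : F) (a b : Fin k → F) : rk β a (r • b) = r • rk β a b :=
  mat_ext fun v => by simp [rk_mulVec, Matrix.smul_mulVec, smul_smul]

theorem wd_mulVec (a b v : Fin k → F) : wd β a b *ᵥ v = β a v • b - β b v • a := by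
  simp [wd, Matrix.sub_mulVec, rk_mulVec]

variable {c : F} (hf : Fm β c)
include hf

theorem sgl_val {u a : Fin k → F} (hu : qf β u = 0) (hua : β u a = 0) :
    (sGL (qf β) β u a).val = 1 + wd β u a - qf β a • rk β u u :=
  mat_ext fun v => by
    rw [sGL_act (factor_space hf) hu hua, Matrix.sub_mulVec, Matrix.add_mulVec, Matrix.one_mulVec,
      Matrix.smul_mulVec, wd_mulVec, rk_mulVec]
    module

theorem sgl_inv {u a : Fin k → F} (hu : qf β u = 0) (hua : β u a = 0) :
    (sGL (qf β) β u a)⁻¹ = sGL (qf β) β u (-a) := by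
  have hua' : β u (-a) = 0 := by rw [map_neg, hua, neg_zero]
  refine inv_eq_of_mul_eq_one_right (Orth.gl_ext fun v => ?_)
  rw [sGL_mul (factor_space hf) hu hua hua', add_neg_cancel, sGL_val (factor_space hf) hu (map_zero _),
    sMat_zero (factor_space hf) hu]
  rfl

omit hf in
theorem wd_neg (u a : Fin k → F) : wd β u (-a) = -wd β u a :=
  mat_ext fun v => by simp [wd_mulVec, Matrix.neg_mulVec]; abel

/-- Root elements of totally singular planes. -/
theorem long_val {u a : Fin k → F} (hu : qf β u = 0) (hua : β u a = 0) (ha : qf β a = 0) :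
    (sGL (qf β) β u a).val = 1 + wd β u a ∧ ((sGL (qf β) β u a)⁻¹).val = 1 - wd β u a := by
  constructor
  · rw [sgl_val hf hu hua, ha, zero_smul, sub_zero]
  · rw [sgl_inv hf hu hua, sgl_val hf hu (by rw [map_neg, hua, neg_zero]), (factor_space hf).neg, ha,
      zero_smul, sub_zero, wd_neg, sub_eq_add_neg]

/-- The products of two wedges with a common singular vector. -/
theorem wd_mul_wd {x y z : Fin k → F} (hx : qf β x = 0) (hxy : β x y = 0) (hxz : β x z = 0) :
    wd β x z * wd β x y = -(β z y) • rk β x x := by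
  simp only [wd, mul_sub, sub_mul, rk_mul_rk, hxy, (factor_space hf).self_zero hx,
    hf.sym z x, hxz]
  simp

/-- A hyperbolic pair of the perpendicular space of a hyperbolic pair. -/
theorem exists_pair2 [Finite F] (h5 : 5 ≤ k) {x f : Fin k → F} (H : Hyp (qf β) β ⊤ x f) :
    ∃ y z, Hyp (qf β) β (perp2 β ⊤ x f) y z := by
  refine exists_hyp' (factor_space hf) (H.ndeg (factor_space hf) (factor_space hf).ndeg_top) ?_
  have := H.le_finrank (factor_space hf)
  rw [finrank_top, finrank_fintype_fun_eq_card, Fintype.card_fin] at this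
  omega

omit hf in
theorem big_three_le (hb : Big F k) : 3 ≤ k := by rcases hb with h | ⟨h, -⟩ <;> omega

theorem exists_hyp_at {x : Fin k → F} (hx : qf β x = 0) (hx0 : x ≠ 0) :
    ∃ f, Hyp (qf β) β ⊤ x f :=
  exists_hyp (factor_space hf) (factor_space hf).ndeg_top trivial hx0 hx

theorem exists_frame [Finite F] (hk : 3 ≤ k) : ∃ x f, Hyp (qf β) β ⊤ x f :=
  exists_hyp' (factor_space hf) (factor_space hf).ndeg_top
    (by rw [finrank_top, finrank_fintype_fun_eq_card, Fintype.card_fin]; exact hk)

omit hf in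
/-- A perpendicular vector moved onto the cone. -/
theorem sing_shift {x f w : Fin k → F} (C : Space (qf β) β) (H : Hyp (qf β) β ⊤ x f)
    (hxw : β x w = 0) (hfw : β f w = 0) : qf β (f + w - qf β w • x) = 0 := by
  rw [sub_eq_add_neg, ← neg_smul, C.add, C.add, C.smul, H.singE, H.singF, hfw]
  simp [map_smul, H.pair' C, C.symm w x, hxw]

/-- Singular vectors span the factor. -/
theorem sing_span {V : Submodule F (Fin k → F)} {x f : Fin k → F} (H : Hyp (qf β) β ⊤ x f)
    (h : ∀ w, qf β w = 0 → w ∈ V) : V = ⊤ := by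
  refine eq_top_iff.2 fun v _ => ?_
  have C := factor_space hf
  obtain ⟨-, h1, h2⟩ := mem_perp2.1 (H.proj C (x := v) trivial)
  have hs := h _ (sing_shift C H h1 h2)
  have e : v = (f + (v - β f v • x - β x v • f) - qf β (v - β f v • x - β x v • f) • x)
      + qf β (v - β f v • x - β x v • f) • x - f + β f v • x + β x v • f := by abel
  rw [e]
  have hx := h _ H.singE
  have hF := h _ H.singF
  exact add_mem (add_mem (sub_mem (add_mem hs (V.smul_mem _ hx)) hF) (V.smul_mem _ hx)) (V.smul_mem _ hF)

end Cfsg.Lib.Linear.OTPow
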