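import Cfsg.Agent.Lib.Linear.OTPow.Slab
import Cfsg.Agent.Lib.Linear.OTPow.Perm
import Cfsg.Agent.Lib.Linear.OOTensor.Square.Basic

/-!
# Unipotent elements fixing a factor

A unipotent element fixing a factor is a product of unipotent isometries; if its displacement is
small, only one of them is non-trivial.
-/

set_option autoImplicit false
set_option linter.unusedSectionVars false
set_option linter.unusedSimpArgs false

namespace Cfsg.Lib.Linear.OTPow

open Module Cfsg.Geo Cfsg.Lib.Linear.AschGen Cfsg.Lib.Linear.TWreath Cfsg.Lib.Linear.Orth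
open Cfsg.Lib.Linear.OOTensor (qf Ten)
open scoped Matrix MatrixGroups

variable {F : Type*} [Field F] {k t : ℕ} {β : LinearMap.BilinForm F (Fin k → F)} {c : F}

theorem exists_nilp_top {R : Type*} [MonoidWithZero R] {A : R} {n : ℕ} (hn : A ^ n = 0) (h0 : A ≠ 0) :
    ∃ r, 1 ≤ r ∧ A ^ r ≠ 0 ∧ A ^ (r + 1) = 0 := by
  classical
  have hex : ∃ n, A ^ n = 0 := ⟨n, hn⟩
  have h2 : 2 ≤ Nat.find hex := by
    refine (Nat.le_find_iff hex 2).2 fun m hm => ?_
    interval_cases m
    · rw [pow_zero]; intro h; exact h0 (by rw [← mul_one A, h, mul_zero])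
    · rwa [pow_one]
  refine ⟨Nat.find hex - 1, by omega, Nat.find_min hex (by omega), ?_⟩
  rw [show Nat.find hex - 1 + 1 = Nat.find hex by omega]
  exact Nat.find_spec hex

theorem expand_sq {R : Type*} [Ring R] {a b P Q : R} (hab : Commute a b) (hbP : Commute b P)
    (ha : a * (a * P) = 0) (hb : b * (b * Q) = 0) :
    (a + b + a * b) * (a + b + a * b) * (P * Q) = 2 • (a * P * (b * Q)) := by
  have e1 : ∀ x, b * (a * x) = a * (b * x) := fun x => by rw [← mul_assoc, ← hab.eq, mul_assoc]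
  have e2 : ∀ x, b * (P * x) = P * (b * x) := fun x => by rw [← mul_assoc, hbP.eq, mul_assoc]
  have e3 : ∀ x, a * (a * (P * x)) = 0 := fun x => by
    rw [← mul_assoc a P, ← mul_assoc, ha, zero_mul]
  simp only [add_mul, mul_add, mul_assoc, e1, e2, e3, hb, mul_zero, zero_add, add_zero]
  abel

theorem expand_cube {R : Type*} [Ring R] {a b P Q : R} (hab : Commute a b) (hbP : Commute b P)
    (ha : a * (a * (a * P)) = 0) (hb : b * (b * Q) = 0) :
    (a + b + a * b) * (a + b + a * b) * (a + b + a * b) * (P * Q) = 3 • (a * (a * P) * (b * Q)) := by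
  have e1 : ∀ x, b * (a * x) = a * (b * x) := fun x => by rw [← mul_assoc, ← hab.eq, mul_assoc]
  have e2 : ∀ x, b * (P * x) = P * (b * x) := fun x => by rw [← mul_assoc, hbP.eq, mul_assoc]
  have e3 : ∀ x, a * (a * (a * (P * x))) = 0 := fun x => by
    rw [← mul_assoc a P, ← mul_assoc a (a * P), ← mul_assoc, ha, zero_mul]
  simp only [add_mul, mul_add, mul_assoc, e1, e2, e3, hb, mul_zero, zero_add, add_zero]
  abel

variable (hf : Fm β c)
include hf

/-- The displacement of an isometry with square zero displacement is totally singular. -/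
theorem sq_zero_sing {a : GL (Fin k) F} (ha : a ∈ isometryGroup F (qf β))
    (h0 : (a.val - 1) * (a.val - 1) = 0) (v w : Fin k → F) :
    β ((a.val - 1) *ᵥ v) ((a.val - 1) *ᵥ w) = 0 := by
  have C := factor_space hf
  have hv : a.val *ᵥ ((a.val - 1) *ᵥ v) = (a.val - 1) *ᵥ v := by
    rw [← sub_eq_zero]
    have h := congrArg (fun M => M *ᵥ v) h0
    simp only [Matrix.zero_mulVec, ← Matrix.mulVec_mulVec] at h
    rw [Matrix.sub_mulVec a.val 1 ((a.val - 1) *ᵥ v), Matrix.one_mulVec] at h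
    exact h
  rw [Matrix.sub_mulVec a.val 1 w, Matrix.one_mulVec, map_sub, sub_eq_zero]
  conv_lhs => arg 1; arg 2; rw [← hv]
  exact C.B_act ha _ _

/-- A quadratic unipotent isometry in dimension three is trivial. -/
theorem three_sq_zero (hk : k = 3) {a : GL (Fin k) F} (ha : a ∈ isometryGroup F (qf β))
    (h0 : (a.val - 1) * (a.val - 1) = 0) : a = 1 := by
  have C := factor_space hf
  set A := a.val - 1 with hA
  by_contra hne
  obtain ⟨v, hv⟩ : ∃ v, A *ᵥ v ≠ 0 := by
    by_contra h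
    push Not at h
    refine hne (Units.ext (mat_ext fun v => ?_))
    have := h v
    rw [hA, Matrix.sub_mulVec, sub_eq_zero] at this
    rw [this]; rfl
  set z := A *ᵥ v with hz
  have hzs : qf β z = 0 := by rw [qf, sq_zero_sing hf ha h0, mul_zero]
  have hline : ∀ w, ∃ r : F, r • z = A *ᵥ w := fun w => Submodule.mem_span_singleton.1
    (OOTensor.Square.no_plane C hf.h2 (by simpa using hk) hzs
      (by rw [qf, sq_zero_sing hf ha h0, mul_zero]) (sq_zero_sing hf ha h0 v w) hv)
  choose l hl using hline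
  have hskew : ∀ w w', l w * β z w' + l w' * β w z = 0 := fun w w' => by
    have h1 := C.B_act ha w w'
    rw [show a.val = 1 + A by rw [hA, add_sub_cancel]] at h1
    simp only [Matrix.add_mulVec, Matrix.one_mulVec, map_add, LinearMap.add_apply, ← hl, map_smul,
      LinearMap.smul_apply, smul_eq_mul, C.self_zero hzs] at h1
    linear_combination h1
  obtain ⟨w₀, hw₀⟩ := C.exists_pair hv
  have h00 : l w₀ = 0 := by
    have h1 := hskew w₀ w₀
    rw [C.symm w₀ z, hw₀] at h1
    exact (mul_eq_zero.1 (show (2 : F) * l w₀ = 0 by linear_combination h1)).resolve_left hf.h2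
  refine hv (?_ : z = 0)
  have h1 := hskew v w₀
  rw [hw₀, h00, mul_one, zero_mul, add_zero] at h1
  rw [hz, ← hl v, h1, zero_smul]

theorem neg_one_iso : (-1 : GL (Fin k) F) ∈ isometryGroup F (qf β) :=
  mem_iso.2 fun v => by simp [qf, Matrix.neg_mulVec]

/-- A unipotent element fixing a factor splits into unipotent isometries. -/
theorem split_unip [Finite F] {p : ℕ} [Fact p.Prime] [CharP F p] (hk : Odd k) (hp : Odd p)
    {Y : GL (Idx k (t + 1)) F} (hY : Y ∈ isometryGroup F (qT β c (t + 1))) (hYp : Y ^ p = 1)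
    {i : Fin (t + 1)} {A₀ : GL (Fin k) F} (h : Acts Y i i A₀) :
    ∃ a ∈ isometryGroup F (qf β), ∃ Z ∈ isometryGroup F (qT β c t),
      Y = fu i a * psiU i Z ∧ a ^ p = 1 ∧ (a.val - 1) ^ p = 0 ∧ (Z.val - 1) ^ p = 0 := by
  have hk0 : 0 < k := hk.pos
  haveI : Nonempty (Fin k) := ⟨⟨0, hk0⟩⟩
  haveI : Nonempty (Idx k t) := ⟨fun _ => ⟨0, hk0⟩⟩
  obtain ⟨a₀, ha₀, Z₀, hZ₀, e⟩ := split_iso hf hk hY h
  have hpow : (fu i a₀ * psiU i Z₀) ^ p = fu i (a₀ ^ p) * psiU i (Z₀ ^ p) := by
    rw [(fu_psiU_comm i a₀ Z₀).mul_pow, map_pow, map_pow]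
  rw [← e, hYp] at hpow
  have hfa : fa i (a₀ ^ p).val = psi i ((Z₀ ^ p)⁻¹).val := by
    have h1 : fu i (a₀ ^ p) = psiU i (Z₀ ^ p)⁻¹ := by
      rw [map_inv]; exact (eq_inv_of_mul_eq_one_left hpow.symm)
    exact congrArg Units.val h1
  obtain ⟨r, hr⟩ := scalar_of_com hk0 (Φ := fa i (a₀ ^ p).val) fun l => by
    rcases eq_or_ne l i with rfl | hl
    · rw [hfa]; exact com_psi _ _
    · exact com_fa hl _
  have hap : (a₀ ^ p).val = r • 1 := fa_injective hk0 i (by rw [hr, map_smul, map_one])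
  have hr1 : r * r = 1 := by
    obtain ⟨x, hx⟩ := aniso_vec hf hk0
    have h1 := (factor_space hf).B_act (pow_mem ha₀ p) x x
    rw [hap] at h1
    simp only [Matrix.smul_mulVec, Matrix.one_mulVec, map_smul, LinearMap.smul_apply, smul_eq_mul] at h1
    exact mul_right_cancel₀ hx (by rw [one_mul]; linear_combination h1)
  suffices hs : ∃ a ∈ isometryGroup F (qf β), ∃ Z ∈ isometryGroup F (qT β c t),
      Y = fu i a * psiU i Z ∧ a ^ p = 1 by
    obtain ⟨a, ha, Z, hZ, e', hap'⟩ := hs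
    have hZp : Z ^ p = 1 := by
      have h1 : (fu i a * psiU i Z) ^ p = 1 := by rw [← e', hYp]
      rw [(fu_psiU_comm i a Z).mul_pow, ← map_pow, ← map_pow, hap', map_one, one_mul] at h1
      exact Units.ext (psi_injective hk0 i (by
        rw [← psiU_val, h1, Units.val_one, Units.val_one, map_one]))
    refine ⟨a, ha, Z, hZ, e', hap', ?_, ?_⟩
    · haveI : CharP (Matrix (Fin k) (Fin k) F) p :=
        charP_of_injective_algebraMap (RingHom.injective (algebraMap F _)) p
      rw [sub_pow_char_of_commute p (Commute.one_right _), one_pow, ← Units.val_pow_eq_pow_val, hap',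
        Units.val_one, sub_self]
    · haveI : CharP (Matrix (Idx k t) (Idx k t) F) p :=
        charP_of_injective_algebraMap (RingHom.injective (algebraMap F _)) p
      rw [sub_pow_char_of_commute p (Commute.one_right _), one_pow, ← Units.val_pow_eq_pow_val, hZp,
        Units.val_one, sub_self]
  rcases mul_self_eq_one_iff.1 hr1 with rfl | rfl
  · exact ⟨a₀, ha₀, Z₀, hZ₀, e, Units.ext (by rw [hap, one_smul]; rfl)⟩
  · refine ⟨-1 * a₀, mul_mem (neg_one_iso hf) ha₀, -1 * Z₀, ?_, ?_, ?_⟩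
    · exact mul_mem (mem_iso.2 fun v => by simp [qT, qf, Matrix.neg_mulVec]) hZ₀
    · rw [e]
      refine Units.ext ?_
      simp [fu_val, psiU_val]
    · rw [neg_one_mul, hp.neg_pow]
      refine Units.ext ?_
      rw [Units.val_neg, hap, Units.val_one, neg_smul, one_smul, neg_neg]

omit hf in
theorem fu_psi_expand {i : Fin (t + 1)} (a : GL (Fin k) F) (Z : GL (Idx k t) F) :
    (fu i a * psiU i Z).val - 1 =
      fa i (a.val - 1) + psi i (Z.val - 1) + fa i (a.val - 1) * psi i (Z.val - 1) := by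
  rw [Units.val_mul, fu_val, psiU_val, map_sub, map_sub, map_one, map_one]
  noncomm_ring

omit hf in
theorem fa_psi_eq_zero {i : Fin (t + 1)} (hk : 0 < k) {X : Matrix (Fin k) (Fin k) F}
    {W : Matrix (Idx k t) (Idx k t) F} (h : fa i X * psi i W = 0) (hX : X ≠ 0) : W = 0 :=
  psi_injective hk i ((eq_zero_of_fa_mul hX (com_psi i W) h).trans (map_zero _).symm)

omit hf in
/-- With a displacement of square zero one component is trivial. -/
theorem single_long {p : ℕ} {i : Fin (t + 1)} (hk : 0 < k) (h2 : (2 : F) ≠ 0) {a : GL (Fin k) F}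
    {Z : GL (Idx k t) F} (hA : (a.val - 1) ^ p = 0) (hB : (Z.val - 1) ^ p = 0)
    (hN : ((fu i a * psiU i Z).val - 1) * ((fu i a * psiU i Z).val - 1) = 0) : a = 1 ∨ Z = 1 := by
  by_contra hne
  rw [not_or] at hne
  have hA0 : a.val - 1 ≠ 0 := fun h => hne.1 (Units.ext (sub_eq_zero.1 h))
  have hB0 : Z.val - 1 ≠ 0 := fun h => hne.2 (Units.ext (sub_eq_zero.1 h))
  obtain ⟨r, hr, hr0, hr1⟩ := exists_nilp_top hA hA0
  obtain ⟨s, hs, hs0, hs1⟩ := exists_nilp_top hB hB0
  obtain ⟨r, rfl⟩ := Nat.exists_eq_add_of_le' hr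
  obtain ⟨s, rfl⟩ := Nat.exists_eq_add_of_le' hs
  rw [fu_psi_expand] at hN
  have h := expand_sq (P := fa i ((a.val - 1) ^ r)) (Q := psi i ((Z.val - 1) ^ s))
    (com_psi i _ _) (com_psi i _ _).symm
    (by rw [← map_mul, ← map_mul, ← pow_succ', ← pow_succ', hr1, map_zero])
    (by rw [← map_mul, ← map_mul, ← pow_succ', ← pow_succ', hs1, map_zero])
  rw [hN, zero_mul, ← map_mul, ← map_mul, ← pow_succ', ← pow_succ', ← Nat.cast_smul_eq_nsmul F,
    eq_comm, smul_eq_zero] at h
  exact hs0 (fa_psi_eq_zero hk (h.resolve_left (by exact_mod_cast h2)) hr0)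

/-- In dimension three one component is trivial if the characteristic is not three. -/
theorem single_three {p : ℕ} {i : Fin (t + 1)} (hk : k = 3) (h3 : (3 : F) ≠ 0) {a : GL (Fin k) F}
    {Z : GL (Idx k t) F} (ha : a ∈ isometryGroup F (qf β)) (hA : (a.val - 1) ^ p = 0)
    (hB : (Z.val - 1) ^ p = 0)
    (hN : ((fu i a * psiU i Z).val - 1) * ((fu i a * psiU i Z).val - 1) *
      ((fu i a * psiU i Z).val - 1) = 0) : a = 1 ∨ Z = 1 := by
  by_contra hne
  rw [not_or] at hne
  have hA0 : a.val - 1 ≠ 0 := fun h => hne.1 (Units.ext (sub_eq_zero.1 h))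
  have hB0 : Z.val - 1 ≠ 0 := fun h => hne.2 (Units.ext (sub_eq_zero.1 h))
  obtain ⟨r, hr, hr0, hr1⟩ := exists_nilp_top hA hA0
  obtain ⟨s, hs, hs0, hs1⟩ := exists_nilp_top hB hB0
  obtain ⟨r, rfl⟩ : ∃ r', r = r' + 2 := by
    refine ⟨r - 2, ?_⟩
    by_contra hlt
    obtain rfl : r = 1 := by omega
    exact hne.1 (three_sq_zero hf hk ha (by rw [← pow_two]; exact hr1))
  obtain ⟨s, rfl⟩ := Nat.exists_eq_add_of_le' hs
  rw [fu_psi_expand] at hN
  have h := expand_cube (P := fa i ((a.val - 1) ^ r)) (Q := psi i ((Z.val - 1) ^ s))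
    (com_psi i _ _) (com_psi i _ _).symm
    (by rw [← map_mul, ← map_mul, ← map_mul, ← pow_succ', ← pow_succ', ← pow_succ', hr1, map_zero])
    (by rw [← map_mul, ← map_mul, ← pow_succ', ← pow_succ', hs1, map_zero])
  rw [hN, zero_mul, ← map_mul, ← map_mul, ← map_mul, ← pow_succ', ← pow_succ', ← pow_succ',
    ← Nat.cast_smul_eq_nsmul F, eq_comm, smul_eq_zero] at h
  exact hs0 (fa_psi_eq_zero (by omega) (h.resolve_left (by exact_mod_cast h3)) hr0)

end Cfsg.Lib.Linear.OTPow
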