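import Cfsg.Agent.Lib.Linear.OTPow.Acts
import Cfsg.Agent.Lib.Linear.OTPow.Long

/-!
# Elements mapping a slab to a slab

In the losing case the unipotent elements at a slab are Siegel elements and an element mapping a slab
to a slab permutes the factors as soon as those preserving one do.
-/

set_option autoImplicit false
set_option linter.unusedSectionVars false
set_option linter.unusedSimpArgs false

namespace Cfsg.Lib.Linear.OTPow

open Module Cfsg.Geo Cfsg.Lib.Linear.AschGen Cfsg.Lib.Linear.TWreath Cfsg.Lib.Linear.Orth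
open Cfsg.Lib.Linear.OOTensor (qf cj cj_apply Ten)
open scoped Matrix MatrixGroups

variable {F : Type*} [Field F] {k t : ℕ} {β : LinearMap.BilinForm F (Fin k → F)} {c : F}

/-- The losing case with the smaller powers settled. -/
structure Ctx (hf : Fm β c) (G : Subgroup (GL (Idx k (t + 1)) F)) : Prop where
  ov : Ov β c G
  perms : Perms G
  lose : ∀ i, Lose hf G i
  odd : Odd k
  big : Big F k
  cut : ∀ i, cutI β c G i ≤ mst k t F

/-- The element maps the slab of a vector to that of another one. -/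
def Carry (g : GL (Idx k (t + 1)) F) (i : Fin (t + 1)) (x : Fin k → F) (j : Fin (t + 1))
    (y : Fin k → F) : Prop :=
  ∀ u, ∃ u', g.val *ᵥ tau i u x = tau j u' y

variable (hf : Fm β c) {G : Subgroup (GL (Idx k (t + 1)) F)}

/-- The elements preserving a slab permute the factors. -/
def SlabMst (G : Subgroup (GL (Idx k (t + 1)) F)) (β : LinearMap.BilinForm F (Fin k → F)) : Prop :=
  ∀ (i : Fin (t + 1)) (x : Fin k → F), qf β x = 0 → x ≠ 0 → ∀ g ∈ G, Carry g i x i x →
    g ∈ mst k (t + 1) F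

include hf

theorem Ctx.k3 (hC : Ctx hf G) : 3 ≤ k := big_three_le hC.big

theorem Ctx.idx_pos (hC : Ctx hf G) : 0 < Fintype.card (Idx k t) := by
  have := Ctx.k3 hf hC
  rw [Fintype.card_pi, Finset.prod_const, Fintype.card_fin]
  positivity

theorem Ctx.side (hC : Ctx hf G) (i : Fin (t + 1)) : Side (split hf i) G :=
  ⟨hC.ov.le, fun x a hx hxa => by rw [liftR_eq hf]; exact hC.ov.sie i x a hx hxa, hC.lose i⟩

theorem Ctx.scalarInv [Finite F] (hC : Ctx hf G) (i : Fin (t + 1)) : ScalarInv (split hf i) G := by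
  intro 𝒦 hcomm hinv X hX
  let K : Submodule F (Matrix (Idx k t) (Idx k t) F) := 𝒦.comap Matrix.toLin'.toLinearMap
  obtain ⟨r, hr⟩ := scalar_of_inv hf hC.big (K := K) (X := LinearMap.toMatrix' X)
    (fun j u a hu hua M hM => by
      have h1 := hinv (fu j (sGL (qf β) β u a))
        (by rw [liftL_eq hf, psiU_fu]; exact hC.ov.sie _ u a hu hua) _ hM
      show Matrix.toLin' (conjA (fu j (sGL (qf β) β u a)) M) ∈ 𝒦
      convert h1 using 1
      exact LinearMap.ext fun v => by
        simp [cj_apply, conjA_apply, Matrix.toLin'_apply])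
    (fun M hM N hN => Matrix.toLin'.injective (by
      rw [Matrix.toLin'_mul, Matrix.toLin'_mul]
      exact hcomm _ hM _ hN))
    (show Matrix.toLin' (LinearMap.toMatrix' X) ∈ 𝒦 by rwa [Matrix.toLin'_toMatrix'])
  refine Submodule.mem_span_singleton.2 ⟨r, ?_⟩
  rw [← Matrix.toLin'_toMatrix' X, hr, map_smul, Matrix.toLin'_one]
  rfl

/-- The unipotent elements at a slab are Siegel elements. -/
theorem Ctx.uni [Finite F] (hC : Ctx hf G) {i : Fin (t + 1)} {x f : Fin k → F}
    (H : Hyp (qf β) β ⊤ x f) {g : GL (Idx k (t + 1)) F} (hg : g ∈ G)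
    (hu : OOTensor.Unip (split hf i) x g) :
    ∃ a ∈ perp2 β ⊤ x f, g = (split hf i).liftR (sGL (qf β) β x a) := by
  refine unip_eq' (split hf i) H (Ctx.side hf hC i) (Ctx.idx_pos hf hC) ?_ (Ctx.scalarInv hf hC i) hg hu
  rcases hC.big with h | ⟨h, -⟩
  · exact Or.inl (by simpa using h)
  · exact Or.inr (by simpa using h)

omit hf in
theorem acts_of_pure (hf : Fm β c) {i : Fin (t + 1)} {g : GL (Idx k (t + 1)) F}
    (h : OOTensor.Pure (tau i) g) : ∃ A, Acts g i i A := by
  obtain ⟨p, q, hpq⟩ := h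
  have e : g = psiU i p * fu i q := (split hf i).gl_ext fun a x => by
    rw [hpq, mul_act, fu_val, fa_tau, psiU_val, psi_tau]
  refine ⟨q, fun X => ?_⟩
  rw [e, ← fu_psiU_comm i q p |>.eq, conjA_mul]
  have h1 : conjA (psiU i p) (fa i X) = fa i X := by
    rw [conjA_apply, psiU_val, ← map_inv, psiU_val, ← (com_psi i _ X).eq, mul_assoc, ← map_mul,
      Units.mul_inv, map_one, mul_one]
  rw [h1, acts_fu]

theorem Ctx.mem_mst_of_pure (hC : Ctx hf G) {i : Fin (t + 1)} {g : GL (Idx k (t + 1)) F} (hg : g ∈ G)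
    (h : OOTensor.Pure (tau i) g) : g ∈ mst k (t + 1) F := by
  obtain ⟨A, hA⟩ := acts_of_pure hf h
  exact mem_mst_of_cutI hf hC.ov hC.odd (hC.cut i) hg hA

/-- Preserving a slab means permuting the factors. -/
theorem Ctx.slab_pure [Finite F] (hC : Ctx hf G)
    (hb : 5 ≤ k ∨ ∃ r : F, r ≠ 0 ∧ (r * r) * (r * r) ≠ 1) : SlabMst G β := by
  intro i x hx hx0 g hg hcar
  obtain ⟨f, H⟩ := exists_hyp_at hf hx hx0
  refine Ctx.mem_mst_of_pure hf hC hg (pure_stab (split hf i) H (Ctx.side hf hC i) (Ctx.idx_pos hf hC)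
    ?_ (fun hg hu => Ctx.uni hf hC H hg hu) hg hcar)
  rcases hb with h | h
  · exact Or.inl (by simpa using h)
  · rcases hC.big with h5 | ⟨h3, -⟩
    · exact Or.inl (by simpa using h5)
    · exact Or.inr ⟨by simpa using h3, h⟩

omit hf in
theorem Carry.mul {g h : GL (Idx k (t + 1)) F} {i j l : Fin (t + 1)} {x y z : Fin k → F}
    (hg : Carry g j y l z) (hh : Carry h i x j y) : Carry (g * h) i x l z := fun u => by
  obtain ⟨u', hu'⟩ := hh u
  obtain ⟨u'', hu''⟩ := hg u'
  exact ⟨u'', by rw [mul_act, hu', hu'']⟩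

omit hf in
theorem carry_fu (j : Fin (t + 1)) (h : GL (Fin k) F) (y : Fin k → F) :
    Carry (fu j h) j y j (h.val *ᵥ y) := fun u => ⟨u, by rw [fu_val, fa_tau]⟩

theorem carry_acts (hk : 0 < k) {g : GL (Idx k (t + 1)) F} {i j : Fin (t + 1)} {A : GL (Fin k) F}
    (h : Acts g i j A) (x : Fin k → F) : Carry g i x j (A.val *ᵥ x) := by
  obtain ⟨P, hP⟩ := acts_tau hf hk h
  exact fun u => ⟨P u, hP u x⟩

omit hf in
theorem Carry.smul {g : GL (Idx k (t + 1)) F} {i j : Fin (t + 1)} {x y : Fin k → F} {r : F}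
    (h : Carry g i x j (r • y)) : Carry g i x j y := fun u => by
  obtain ⟨u', hu'⟩ := h u
  exact ⟨r • u', by rw [hu', map_smul, map_smul, LinearMap.smul_apply]⟩

/-- The image of a slab of a singular vector is that of a singular vector. -/
theorem Carry.sing (hC : Ctx hf G) {g : GL (Idx k (t + 1)) F} (hg : g ∈ G) {i j : Fin (t + 1)}
    {x y : Fin k → F} (hx : qf β x = 0) (hx0 : x ≠ 0) (h : Carry g i x j y) :
    qf β y = 0 ∧ y ≠ 0 := by
  classical
  have hne : ∀ u, u ≠ 0 → g.val *ᵥ tau i u x ≠ 0 := fun u hu =>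
    Orth.act_ne_zero ((split hf i).tau_ne_zero hu hx0)
  obtain ⟨a, ha⟩ := (split hf j).exists_aniso_left (Ctx.idx_pos hf hC)
  have ha0 : a ≠ 0 := fun e => ha (by simp [e])
  have hy0 : y ≠ 0 := fun e => by
    obtain ⟨u', hu'⟩ := h a
    exact hne a ha0 (by rw [hu', e, map_zero])
  refine ⟨?_, hy0⟩
  choose φ hφ using h
  let Φ : (Idx k t → F) →ₗ[F] (Idx k t → F) :=
    { toFun := φ
      map_add' := fun u v => (split hf j).tau_inj hy0 (by
        rw [← hφ, map_add, LinearMap.add_apply, map_add, LinearMap.add_apply, Matrix.mulVec_add, hφ, hφ])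
      map_smul' := fun r u => (split hf j).tau_inj hy0 (by
        rw [RingHom.id_apply, ← hφ, map_smul, LinearMap.smul_apply, map_smul, LinearMap.smul_apply,
          Matrix.mulVec_smul, hφ]) }
  obtain ⟨u, hu⟩ := LinearMap.surjective_of_injective (f := Φ) (fun u v e => by
    refine (split hf i).tau_inj hx0 (Orth.act_injective g ?_)
    show g.val *ᵥ _ = g.val *ᵥ _
    rw [hφ, hφ, show φ u = φ v from e]) a
  have h1 := (qT_space hf).B_act (hC.ov.le hg) (tau i u x) (tau i u x)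
  rw [hφ, show φ u = a from hu, bT_tau, bT_tau, (factor_space hf).self_zero hx, mul_zero] at h1
  exact (split hf j).qf_zero.2 ((mul_eq_zero.1 h1).resolve_left ha)

/-- An element mapping a slab to a slab can be moved to one preserving it. -/
theorem Ctx.exists_back [Finite F] (hC : Ctx hf G) {g : GL (Idx k (t + 1)) F} (hg : g ∈ G)
    {i j : Fin (t + 1)} {x y : Fin k → F} (hx : qf β x = 0) (hx0 : x ≠ 0) (h : Carry g i x j y) :
    ∃ n ∈ G, n ∈ mst k (t + 1) F ∧ Carry (n * g) i x i x := by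
  obtain ⟨hy, hy0⟩ := Carry.sing hf hC hg hx hx0 h
  obtain ⟨s, hs, hσ⟩ := hC.perms (Equiv.swap j i)
  obtain ⟨A, hA⟩ := hσ j
  rw [Equiv.swap_apply_left] at hA
  have h1 := Carry.mul (carry_acts hf (by have := Ctx.k3 hf hC; omega) hA y) h
  obtain ⟨hz, hz0⟩ := Carry.sing hf hC (mul_mem hs hg) hx hx0 h1
  obtain ⟨m, hm, r, hr, hmv⟩ := exists_move hf hC.ov hC.big hz hz0 hx hx0
  have h2 := Carry.mul (carry_fu i m (A.val *ᵥ y)) h1
  rw [hmv] at h2
  exact ⟨fu i m * s, mul_mem (hC.ov.root i hm) hs, mul_mem (fu_mem_mst i m)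
    ⟨Equiv.swap j i, hσ⟩, by rw [mul_assoc]; exact h2.smul⟩

/-- An element mapping a slab to a slab permutes the factors. -/
theorem Ctx.carry_mst [Finite F] (hC : Ctx hf G) (hM : SlabMst G β) {g : GL (Idx k (t + 1)) F}
    (hg : g ∈ G) {i j : Fin (t + 1)} {x y : Fin k → F} (hx : qf β x = 0) (hx0 : x ≠ 0)
    (h : Carry g i x j y) : g ∈ mst k (t + 1) F := by
  obtain ⟨n, hn, hnm, h'⟩ := Ctx.exists_back hf hC hg hx hx0 h
  have h1 := mul_mem (inv_mem hnm) (hM i x hx hx0 _ (mul_mem hn hg) h')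
  rwa [inv_mul_cancel_left] at h1

end Cfsg.Lib.Linear.OTPow
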