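import Cfsg.Agent.Lib.Linear.OTPow.Conj
import Cfsg.Agent.Lib.Linear.OOTensor.Square.Form

/-!
# An invariant form of degree four of a tensor power

The sum over the factors of the skew maps contracted from two vectors is invariant under the
permuting isometries. An element of the overgroup fixing it maps the skew maps of one factor into
those of one factor, and so permutes the factors.
-/

set_option autoImplicit false
set_option linter.unusedSectionVars false
set_option linter.unusedSimpArgs false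
set_option linter.style.haveILetI false

namespace Cfsg.Lib.Linear.OTPow

open Module Cfsg.Geo Cfsg.Lib.Linear.AschGen Cfsg.Lib.Linear.TWreath Cfsg.Lib.Linear.Orth
open Cfsg.Lib.Linear.OOTensor (qf Ten)
open Cfsg.Lib.Linear.OOTensor.Square (Four4 pull pull_apply pull_mul pull_one four_ext Three
  exists_three_at)
open scoped Matrix MatrixGroups

variable {F : Type*} [Field F] {k t : ℕ} (β : LinearMap.BilinForm F (Fin k → F)) (c : F)

/-- The skew map of two vectors, bilinearly. -/
def wdL : (Fin k → F) →ₗ[F] (Fin k → F) →ₗ[F] Matrix (Fin k) (Fin k) F :=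
  LinearMap.mk₂ F (wd β)
    (fun a a' b => by simp only [wd, rk_add_left, rk_add_right]; abel)
    (fun r a b => by simp only [wd, rk_smul_left, rk_smul_right, smul_sub])
    (fun a b b' => by simp only [wd, rk_add_left, rk_add_right]; abel)
    (fun r a b => by simp only [wd, rk_smul_left, rk_smul_right, smul_sub])

/-- A slice of a vector along a factor. -/
def slc (i : Fin (t + 1)) (a : Idx k t) : (Idx k (t + 1) → F) →ₗ[F] (Fin k → F) where
  toFun v := fun p => v (cutEquiv i (p, a))
  map_add' _ _ := rfl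
  map_smul' _ _ := rfl

/-- The skew map contracted from two vectors at a factor. -/
noncomputable def jop (i : Fin (t + 1)) :
    (Idx k (t + 1) → F) →ₗ[F] (Idx k (t + 1) → F) →ₗ[F] Matrix (Fin k) (Fin k) F :=
  ∑ a, ∑ b, bT β c t (Pi.single a 1) (Pi.single b 1) • (wdL β).compl₁₂ (slc i a) (slc i b)

/-- The sum of the contracted skew maps. -/
noncomputable def pop : (Idx k (t + 1) → F) →ₗ[F] (Idx k (t + 1) → F) →ₗ[F]
    Matrix (Idx k (t + 1)) (Idx k (t + 1)) F :=
  ∑ i, (jop β c i).compr₂ (fa i).toLinearMap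

/-- The bilinear form of a matrix. -/
noncomputable def formOf : Matrix (Idx k (t + 1)) (Idx k (t + 1)) F →ₗ[F]
    LinearMap.BilinForm F (Idx k (t + 1) → F) where
  toFun X := bT β c (t + 1) ∘ₗ Matrix.mulVecLin X
  map_add' X Y := LinearMap.ext₂ fun a b => by simp [Matrix.add_mulVec]
  map_smul' r X := LinearMap.ext₂ fun a b => by simp [Matrix.smul_mulVec]

/-- The invariant form of degree four. -/
noncomputable def phi4 : Four4 (Idx k (t + 1)) F := (pop β c).compr₂ (formOf β c)

theorem phi4_apply (v₁ v₂ v₃ v₄ : Idx k (t + 1) → F) :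
    phi4 β c v₁ v₂ v₃ v₄ = bT β c (t + 1) (pop β c v₁ v₂ *ᵥ v₃) v₄ := rfl

theorem pop_apply (v w : Idx k (t + 1) → F) : pop β c v w = ∑ i, fa i (jop β c i v w) := by
  simp [pop, LinearMap.sum_apply]

variable {β c}

theorem slc_tau (i : Fin (t + 1)) (a : Idx k t) (b : Idx k t → F) (x : Fin k → F) :
    slc i a (tau i b x) = b a • x := funext fun p => by
  show tau i b x (cutEquiv i (p, a)) = _
  rw [tau_apply, cutEquiv_apply_rest, cutEquiv_apply_same]
  rfl

theorem jop_tau (i : Fin (t + 1)) (a b : Idx k t → F) (x y : Fin k → F) :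
    jop β c i (tau i a x) (tau i b y) = bT β c t a b • wd β x y := by
  simp only [jop, LinearMap.sum_apply, LinearMap.smul_apply, LinearMap.compl₁₂_apply, slc_tau, map_smul]
  conv_rhs => rw [pi_eq_sum_univ' a, pi_eq_sum_univ' b]
  simp only [map_sum, map_smul, LinearMap.sum_apply, LinearMap.smul_apply, smul_eq_mul, wdL,
    LinearMap.mk₂_apply, Finset.sum_smul, smul_smul, Finset.mul_sum]
  refine Finset.sum_comm.trans (Finset.sum_congr rfl fun _ _ => Finset.sum_congr rfl fun _ _ => ?_)
  congr 1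
  ring

/-- A product of vectors. -/
def pv (g : Fin t → Fin k → F) : Idx k t → F := fun z => ∏ i, g i (z i)

theorem pv_split (i : Fin (t + 1)) (g : Fin (t + 1) → Fin k → F) :
    pv g = tau i (pv fun j => g (i.succAbove j)) (g i) := funext fun z => by
  rw [tau_apply, pv, pv, Fin.prod_univ_succAbove _ i, mul_comm]
  rfl

variable (hf : Fm β c)
include hf

theorem bT_pv : ∀ {n : ℕ} (g h : Fin n → Fin k → F),
    bT β c n (pv g) (pv h) = c * ∏ i, β (g i) (h i) := by
  intro n
  induction n with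
  | zero => intro g h; simp [bT_apply, pv]
  | succ n ih =>
    intro g h
    rw [pv_split 0 g, pv_split 0 h, bT_tau, ih, Fin.prod_univ_succ]
    simp only [Fin.zero_succAbove]
    ring

/-- A map adjoint to its negative. -/
def Sk (β : LinearMap.BilinForm F (Fin k → F)) (S : Matrix (Fin k) (Fin k) F) : Prop :=
  ∀ v w, β (S *ᵥ v) w = -β v (S *ᵥ w)

theorem sk_wd (a b : Fin k → F) : Sk β (wd β a b) := fun v w => by
  simp only [wd_mulVec, map_sub, map_smul, LinearMap.sub_apply, LinearMap.smul_apply, smul_eq_mul,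
    hf.sym v a, hf.sym v b]
  ring

omit hf in
theorem Sk.smul {S : Matrix (Fin k) (Fin k) F} (h : Sk β S) (r : F) : Sk β (r • S) := fun v w => by
  simp [Matrix.smul_mulVec, h v w]

omit hf in
theorem Sk.comm {A S : Matrix (Fin k) (Fin k) F} (hA : Sk β A) (hS : Sk β S) : Sk β (A * S - S * A) :=
  fun v w => by
    simp only [Matrix.sub_mulVec, ← Matrix.mulVec_mulVec, map_sub, LinearMap.sub_apply, hA _ w, hS _ w,
      hA v, hS v, neg_neg]
    ring

theorem sk_jop (i : Fin (t + 1)) (v w : Idx k (t + 1) → F) : Sk β (jop β c i v w) := fun a b => by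
  simp only [jop, LinearMap.sum_apply, LinearMap.smul_apply, LinearMap.compl₁₂_apply, wdL,
    LinearMap.mk₂_apply, Matrix.sum_mulVec, Matrix.smul_mulVec, map_sum, map_smul, smul_eq_mul,
    ← Finset.sum_neg_distrib]
  simp only [(sk_wd hf _ _) a b, mul_neg]

theorem Sk.scalar_zero (hk : 0 < k) {S : Matrix (Fin k) (Fin k) F} (h : Sk β S) {r : F}
    (e : S = r • 1) : S = 0 := by
  obtain ⟨x, hx⟩ := aniso_vec hf hk
  have h1 := h x x
  rw [e, Matrix.smul_mulVec, Matrix.one_mulVec, map_smul, LinearMap.smul_apply, map_smul, smul_eq_mul] at h1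
  have h2 : (2 : F) * (r * β x x) = 0 := by linear_combination h1
  rw [e, (mul_eq_zero.1 ((mul_eq_zero.1 h2).resolve_left hf.h2)).resolve_right hx, zero_smul]

/-- The pieces of a factor lie in the image. -/
theorem pop_pieces (hk : 0 < k) (i : Fin (t + 1)) : ∃ a, bT β c t a a ≠ 0 ∧
    ∀ x y, pop β c (tau i a x) (tau i a y) = bT β c t a a • fa i (wd β x y) := by
  obtain ⟨w, hw⟩ := aniso_vec hf hk
  refine ⟨pv fun _ => w, ?_, fun x y => ?_⟩
  · rw [bT_pv hf]
    simp [hf.c_ne, hw, Finset.prod_eq_zero_iff]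
  rw [pop_apply, Finset.sum_eq_single i, jop_tau, map_smul]
  · intro m _ hm
    have e : ∀ z, tau i (pv fun _ => w) z = tau m (pv fun j => Function.update (fun _ => w) i z (m.succAbove j)) w := by
      intro z
      have h1 := pv_split (F := F) m (Function.update (fun _ : Fin (t + 1) => w) i z)
      rw [Function.update_of_ne hm, pv_split i, Function.update_self] at h1
      rw [← h1]
      congr 2
      congr 1
      funext j
      rw [Function.update_of_ne (Fin.succAbove_ne i j)]
    rw [e, e, jop_tau, show wd β w w = 0 from sub_self _, smul_zero, map_zero]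
  · exact fun h => absurd (Finset.mem_univ _) h

/-- The permuting isometries respect the contracted maps. -/
theorem pop_equiv (hk : 0 < k) {g : GL (Idx k (t + 1)) F} (hg : g ∈ isometryGroup F (qT β c (t + 1)))
    (hm : g ∈ mst k (t + 1) F) (v w : Idx k (t + 1) → F) :
    pop β c (g.val *ᵥ v) (g.val *ᵥ w) = conjA g (pop β c v w) := by
  obtain ⟨σ, hσ⟩ := hm
  rw [pop_apply, pop_apply, map_sum, ← Equiv.sum_comp σ]
  refine Finset.sum_congr rfl fun i _ => ?_
  obtain ⟨A, hA⟩ := hσ i
  obtain ⟨P, hP⟩ := acts_tau hf hk hA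
  obtain ⟨ν, hν, hAν⟩ := acts_sim hf hk hg hA
  obtain ⟨x₀, hx₀⟩ := aniso_vec hf hk
  have hPν : ∀ a b, bT β c t (P a) (P b) = ν⁻¹ * bT β c t a b := fun a b => by
    have h1 : bT β c t (P a) (P b) * β (A.val *ᵥ x₀) (A.val *ᵥ x₀) = bT β c t a b * β x₀ x₀ := by
      rw [← bT_tau (σ i), ← bT_tau i, ← hP, ← hP, (qT_space hf).B_act hg]
    rw [hAν] at h1
    field_simp
    exact mul_right_cancel₀ hx₀ (by linear_combination h1)
  let f₁ : (Idx k (t + 1) → F) →ₗ[F] (Idx k (t + 1) → F) →ₗ[F] Matrix (Idx k (t + 1)) (Idx k (t + 1)) F :=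
    ((jop β c (σ i)).compr₂ (fa (σ i)).toLinearMap).compl₁₂ (Matrix.mulVecLin g.val) (Matrix.mulVecLin g.val)
  let f₂ : (Idx k (t + 1) → F) →ₗ[F] (Idx k (t + 1) → F) →ₗ[F] Matrix (Idx k (t + 1)) (Idx k (t + 1)) F :=
    (jop β c i).compr₂ ((conjA g).toLinearMap ∘ₗ (fa i).toLinearMap)
  have e : f₁ = f₂ := (split hf i).hom_ext fun a x => (split hf i).hom_ext fun b y => by
    show fa (σ i) (jop β c (σ i) (g.val *ᵥ tau i a x) (g.val *ᵥ tau i b y)) =
      conjA g (fa i (jop β c i (tau i a x) (tau i b y)))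
    rw [hP, hP, jop_tau, jop_tau, hA, hPν, map_smul, map_smul, map_smul, wd, wd, map_sub (conjA A),
      conj_rk hf hν hAν, conj_rk hf hν hAν, ← smul_sub, map_smul, smul_smul]
    congr 1
    ring
  exact LinearMap.congr_fun₂ e v w

/-- The form is fixed by the permuting isometries. -/
theorem phi4_inv (hk : 0 < k) {g : GL (Idx k (t + 1)) F} (hg : g ∈ isometryGroup F (qT β c (t + 1)))
    (hm : g ∈ mst k (t + 1) F) : pull g (phi4 β c) = phi4 β c :=
  four_ext fun v₁ v₂ v₃ v₄ => by
    rw [pull_apply, phi4_apply, phi4_apply, pop_equiv hf hk hg hm, conjA_apply, ← Matrix.mulVec_mulVec,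
      inv_act, ← Matrix.mulVec_mulVec, (qT_space hf).B_act hg]

theorem pop_of_fix {g : GL (Idx k (t + 1)) F} (hg : g ∈ isometryGroup F (qT β c (t + 1)))
    (h : pull g (phi4 β c) = phi4 β c) (v w : Idx k (t + 1) → F) :
    pop β c (g.val *ᵥ v) (g.val *ᵥ w) = conjA g (pop β c v w) := by
  refine mat_ext fun u => ?_
  obtain ⟨u, rfl⟩ : ∃ u', g.val *ᵥ u' = u := ⟨_, act_inv g u⟩
  rw [conjA_apply, ← Matrix.mulVec_mulVec, inv_act, ← Matrix.mulVec_mulVec]
  refine sub_eq_zero.1 (bT_nondeg hf _ fun z => ?_)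
  obtain ⟨z, rfl⟩ : ∃ z', g.val *ᵥ z' = z := ⟨_, act_inv g z⟩
  rw [map_sub, LinearMap.sub_apply, (qT_space hf).B_act hg, ← phi4_apply, ← phi4_apply, ← pull_apply, h,
    sub_self]

omit hf in
theorem com_comm {i : Fin t} (A : Matrix (Fin k) (Fin k) F) (T : Fin t → Matrix (Fin k) (Fin k) F) :
    fa i A * (∑ m, fa m (T m)) - (∑ m, fa m (T m)) * fa i A = fa i (A * T i - T i * A) := by
  rw [Finset.mul_sum, Finset.sum_mul, ← Finset.sum_sub_distrib, Finset.sum_eq_single i
    (fun m _ hm => by rw [(fa_comm hm.symm A (T m)).eq, sub_self])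
    (fun h => absurd (Finset.mem_univ _) h), map_sub, map_mul, map_mul]

/-- A square zero sum of skew maps of several factors has one term. -/
theorem single_of_sq (hk : 0 < k) {S : Fin (t + 1) → Matrix (Fin k) (Fin k) F} (hS : ∀ l, Sk β (S l))
    (h0 : (∑ l, fa l (S l)) * (∑ l, fa l (S l)) = 0) {l m : Fin (t + 1)} (hlm : l ≠ m) (hl : S l ≠ 0) :
    S m = 0 := by
  by_contra hm
  have hA : ∀ j, S j ≠ 0 → ∃ A, A * S j - S j * A ≠ 0 := fun j hj => by
    by_contra hc
    push Not at hc
    obtain ⟨r, hr⟩ := Matrix.mem_range_scalar_of_commute_single (M := S j)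
      (fun p q _ => sub_eq_zero.1 (hc (Matrix.single p q 1)))
    exact hj (Sk.scalar_zero hf hk (hS j) (r := r)
      (by rw [← hr, Matrix.scalar_apply, Matrix.smul_one_eq_diagonal]))
  obtain ⟨A, hA1⟩ := hA l hl
  obtain ⟨A', hA2⟩ := hA m hm
  set Z := ∑ l, fa l (S l)
  set D := fa l (A * S l - S l * A) with hD
  set D' := fa m (A' * S m - S m * A') with hD'
  have e1 : fa l A * Z - Z * fa l A = D := com_comm A S
  have e2 : fa m A' * Z - Z * fa m A' = D' := com_comm A' S
  have h1 : D * Z + Z * D = 0 := by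
    rw [← e1, show (fa l A * Z - Z * fa l A) * Z + Z * (fa l A * Z - Z * fa l A) =
      fa l A * (Z * Z) - Z * Z * fa l A by noncomm_ring, h0, mul_zero, zero_mul, sub_zero]
  have hc : Commute (fa m A') D := fa_comm hlm.symm _ _
  have hDD : Commute D D' := fa_comm hlm _ _
  have h2 : D * D' + D' * D = 0 := by
    have := congrArg (fun M => fa m A' * M - M * fa m A') h1
    simp only [mul_zero, zero_mul, sub_zero] at this
    rw [← e2, mul_sub, sub_mul]
    calc D * (fa m A' * Z) - D * (Z * fa m A') + (fa m A' * Z * D - Z * fa m A' * D)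
        = fa m A' * (D * Z + Z * D) - (D * Z + Z * D) * fa m A' := by
          have q1 : D * (fa m A' * Z) = fa m A' * (D * Z) := by rw [← mul_assoc, ← hc.eq, mul_assoc]
          have q2 : Z * fa m A' * D = Z * D * fa m A' := by rw [mul_assoc, hc.eq, ← mul_assoc]
          rw [q1, q2]
          noncomm_ring
      _ = 0 := this
  have h3 : D * D' = 0 := by
    rw [← hDD.eq, ← two_smul F, smul_eq_zero] at h2
    exact h2.resolve_left hf.h2
  exact hA2 (fa_injective hk m ((eq_zero_of_fa_mul hA1 (com_fa hlm _) h3).trans (map_zero _).symm))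

/-- Commuting skew maps in dimension three are proportional. -/
theorem sk_prop {x f e : Fin k → F} (D : Three β x f e) {p q : Matrix (Fin k) (Fin k) F} (hp : Sk β p)
    (hq : Sk β q) (hc : p * q = q * p) (hp0 : p ≠ 0) : ∃ r : F, q = r • p := by
  have hco : ∀ {S : Matrix (Fin k) (Fin k) F}, Sk β S →
      S *ᵥ x = β f (S *ᵥ x) • x + (β e (S *ᵥ x) / β e e) • e ∧
      S *ᵥ f = -β f (S *ᵥ x) • f + (β e (S *ᵥ f) / β e e) • e ∧
      S *ᵥ e = -β e (S *ᵥ f) • x + -β e (S *ᵥ x) • f := by
    intro S hS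
    have hself : ∀ v, β v (S *ᵥ v) = 0 := fun v => by
      have h1 := hS v v
      rw [hf.sym (S *ᵥ v) v] at h1
      exact (mul_eq_zero.1 (show (2 : F) * β v (S *ᵥ v) = 0 by linear_combination h1)).resolve_left hf.h2
    have hcr : ∀ v w, β v (S *ᵥ w) = -β w (S *ᵥ v) := fun v w => by rw [← neg_eq_iff_eq_neg.2 (hS v w), hf.sym]
    refine ⟨?_, ?_, ?_⟩
    · conv_lhs => rw [D.expand (S *ᵥ x), hself x]
      simp
    · conv_lhs => rw [D.expand (S *ᵥ f), hself f, hcr x f]
      simp
    · conv_lhs => rw [D.expand (S *ᵥ e), hself e, hcr f e, hcr x e]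
      simp
  obtain ⟨a1, a2, a3⟩ := hco hp
  obtain ⟨b1, b2, b3⟩ := hco hq
  set a := β f (p *ᵥ x)
  set b := β e (p *ᵥ x)
  set d := β e (p *ᵥ f)
  set a' := β f (q *ᵥ x)
  set b' := β e (q *ᵥ x)
  set d' := β e (q *ᵥ f)
  have hee := D.ee
  have ex' := congrArg (fun M => M *ᵥ x) hc
  simp only [← Matrix.mulVec_mulVec, a1, b1, Matrix.mulVec_add, Matrix.mulVec_smul, a3, b3] at ex'
  have ef' := congrArg (fun M => M *ᵥ f) hc
  simp only [← Matrix.mulVec_mulVec, a2, b2, Matrix.mulVec_add, Matrix.mulVec_smul, a3, b3] at ef'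
  have c1 := congrArg (β e) ex'
  have c2 := congrArg (β f) ex'
  have c3 := congrArg (β e) ef'
  simp only [map_add, map_smul, D.ex, D.ef, D.fe, D.ff, D.hyp.pair' D.C, smul_eq_mul, mul_zero, zero_mul,
    add_zero, zero_add, mul_one] at c1 c2 c3
  field_simp at c1 c2 c3
  have hq_eq : ∀ r : F, a' = r * a → b' = r * b → d' = r * d → q = r • p := fun r h1 h2 h3 =>
    mat_ext fun v => by
      rw [Matrix.smul_mulVec, D.expand v]
      simp only [Matrix.mulVec_add, Matrix.mulVec_smul, a1, a2, a3, b1, b2, b3, h1, h2, h3]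
      module
  rcases eq_or_ne a 0 with ha | ha
  · rcases eq_or_ne b 0 with hb | hb
    · rcases eq_or_ne d 0 with hd | hd
      · refine absurd (mat_ext fun v => ?_) hp0
        rw [Matrix.zero_mulVec, D.expand v]
        simp [Matrix.mulVec_add, Matrix.mulVec_smul, a1, a2, a3, ha, hb, hd]
      · exact ⟨d' / d, hq_eq _ (by field_simp; grind) (by field_simp; grind) (by field_simp)⟩
    · exact ⟨b' / b, hq_eq _ (by field_simp; grind) (by field_simp) (by field_simp; grind)⟩
  · exact ⟨a' / a, hq_eq _ (by field_simp) (by field_simp; grind) (by field_simp; grind)⟩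

variable {p : ℕ} [Fact p.Prime] [CharP F p] {G : Subgroup (GL (Idx k (t + 1)) F)}

/-- **An element fixing the form permutes the factors.** -/
theorem Ctx.stab_phi [Finite F] (hC : Ctx hf G) (hM : SlabMst G β) (hp : 3 ≤ p)
    {g : GL (Idx k (t + 1)) F} (hg : g ∈ G) (hfix : pull g (phi4 β c) = phi4 β c) :
    g ∈ mst k (t + 1) F := by
  have hk3 := Ctx.k3 hf hC
  have hk0 : 0 < k := by omega
  have C := factor_space hf
  have himg : ∀ {g : GL (Idx k (t + 1)) F}, g ∈ G → pull g (phi4 β c) = phi4 β c → ∀ i x y,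
      ∃ S : Fin (t + 1) → Matrix (Fin k) (Fin k) F, (∀ l, Sk β (S l)) ∧
        conjA g (fa i (wd β x y)) = ∑ l, fa l (S l) := by
    intro g hg hfix i x y
    obtain ⟨a, ha, hP⟩ := pop_pieces hf hk0 i
    refine ⟨fun l => (bT β c t a a)⁻¹ • jop β c l (g.val *ᵥ tau i a x) (g.val *ᵥ tau i a y),
      fun l => (sk_jop hf l _ _).smul _, ?_⟩
    simp only [map_smul, ← Finset.smul_sum]
    rw [← pop_apply, pop_of_fix hf (hC.ov.le hg) hfix, hP, map_smul, smul_smul, inv_mul_cancel₀ ha, one_smul]
  obtain ⟨x, f, H⟩ := exists_frame hf hk3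
  have hx0 : x ≠ 0 := fun e => by simpa [e] using H.pair
  rcases hC.big with h5 | ⟨h3, -⟩
  · obtain ⟨y, y', Gp⟩ := exists_pair2 hf h5 H
    obtain ⟨-, hxy, hfy⟩ := mem_perp2.1 Gp.memE
    have hind : y ∉ Submodule.span F {x} := fun h => by
      obtain ⟨d, rfl⟩ := Submodule.mem_span_singleton.1 h
      rw [map_smul, H.pair' C, smul_eq_mul, mul_one] at hfy
      have := Gp.pair
      rw [hfy, zero_smul] at this
      simp at this
    have P : OOTensor.Plane β x y := ⟨H.singE, Gp.singE, hxy, hx0, hind⟩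
    obtain ⟨S, hS, hSe⟩ := himg hg hfix 0 x y
    have hww : wd β x y * wd β x y = 0 := by
      rw [wd_mul_wd hf P.singX hxy hxy, C.self_zero P.singY, neg_zero, zero_smul]
    have hsq : (∑ l, fa l (S l)) * (∑ l, fa l (S l)) = 0 := by
      rw [← hSe, ← map_mul, ← map_mul, hww, map_zero, map_zero]
    refine Ctx.conj_long hf hC hM h5 hp hg (i := 0) P ?_
    have hval : (g * fu 0 (sGL (qf β) β x y) * g⁻¹).val = 1 + ∑ l, fa l (S l) := by
      rw [val_conj, fu_val, (long_val hf P.singX hxy P.singY).1, map_add, map_one, map_add, map_one, hSe]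
    by_cases hall : ∀ l, S l = 0
    · have e : g * fu 0 (sGL (qf β) β x y) * g⁻¹ = 1 := Units.ext (by
        rw [hval]; simp [hall])
      rw [e]
      exact one_mem _
    push Not at hall
    obtain ⟨l, hl⟩ := hall
    have hsum : ∑ m, fa m (S m) = fa l (S l) := Finset.sum_eq_single l
      (fun m _ hm => by rw [single_of_sq hf hk0 hS hsq hm.symm hl, map_zero])
      (fun h => absurd (Finset.mem_univ _) h)
    rw [hsum, ← map_mul] at hsq
    have hSS := fa_injective hk0 l (hsq.trans (map_zero _).symm)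
    let u : GL (Fin k) F := ⟨1 + S l, 1 - S l,
      by rw [mul_sub, mul_one, add_mul, one_mul, hSS]; abel,
      by rw [sub_mul, one_mul, mul_add, mul_one, hSS]; abel⟩
    have e : g * fu 0 (sGL (qf β) β x y) * g⁻¹ = fu l u := Units.ext (by
      rw [hval, hsum, fu_val, map_add, map_one])
    rw [e]
    exact fu_mem_mst l u
  · obtain ⟨e, D⟩ := OOTensor.Square.exists_three C hf.h2 (by simpa using h3) H
    have hinv : pull g⁻¹ (phi4 β c) = phi4 β c := by
      conv_lhs => rw [← hfix, ← pull_mul, mul_inv_cancel, pull_one]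
    obtain ⟨S, hS, hSe⟩ := himg hg hfix 0 x e
    have hbr : ∀ l, S l ≠ 0 → ∃ a b, wd β a b * S l - S l * wd β a b ≠ 0 := by
      intro l hl
      by_contra hc
      push Not at hc
      have hSl := hS l
      have hz : ∀ a b v, β a v • (S l *ᵥ b) - β b v • (S l *ᵥ a) =
          β a (S l *ᵥ v) • b - β b (S l *ᵥ v) • a := fun a b v => by
        have h1 := congrArg (fun M => M *ᵥ v) (sub_eq_zero.1 (hc a b))
        simp only [← Matrix.mulVec_mulVec, wd_mulVec, Matrix.mulVec_sub, Matrix.mulVec_smul] at h1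
        exact h1.symm
      have h1 := hz x f e
      rw [D.xe, D.fe, zero_smul, zero_smul, sub_zero] at h1
      have c1 := congrArg (β x) h1
      have c2 := congrArg (β f) h1
      simp only [map_zero, map_sub, map_smul, D.hyp.pair, D.xx, D.ff, D.hyp.pair' C, smul_eq_mul, mul_one,
        mul_zero, sub_zero, zero_sub] at c1 c2
      have hself : β e (S l *ᵥ e) = 0 := by
        have h2 := hSl e e
        rw [hf.sym (S l *ᵥ e) e] at h2
        exact (mul_eq_zero.1 (show (2 : F) * β e (S l *ᵥ e) = 0 by linear_combination h2)).resolve_left hf.h2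
      have hx' : β x (S l *ᵥ e) = 0 := by linear_combination -c1
      have hf' : β f (S l *ᵥ e) = 0 := by linear_combination c2
      have hSe0 : S l *ᵥ e = 0 := by
        rw [D.expand (S l *ᵥ e), hx', hf', hself]; simp
      have h3' := hz x e e
      have h4' := hz f e e
      simp [hSe0, D.xe, D.ee] at h3'
      simp [hSe0, D.fe, D.ee] at h4'
      refine hl (mat_ext fun v => ?_)
      rw [Matrix.zero_mulVec, D.expand v]
      simp [Matrix.mulVec_add, Matrix.mulVec_smul, hSe0, h3', h4']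
    have hpull : ∀ l, S l ≠ 0 → ∃ P : Matrix (Fin k) (Fin k) F, ∃ A : Matrix (Fin k) (Fin k) F,
        A * S l - S l * A ≠ 0 ∧ Sk β A ∧ Sk β P ∧ conjA g (fa 0 P) = fa l (A * S l - S l * A) := by
      intro l hl
      obtain ⟨a, b, hab⟩ := hbr l hl
      obtain ⟨T, hT, hTe⟩ := himg (inv_mem hg) hinv l a b
      refine ⟨T 0 * wd β x e - wd β x e * T 0, wd β a b, hab, sk_wd hf a b, Sk.comm (hT 0) (sk_wd hf x e), ?_⟩
      have e1 : fa 0 (T 0 * wd β x e - wd β x e * T 0) =
            conjA g⁻¹ (fa l (wd β a b)) * fa 0 (wd β x e) - fa 0 (wd β x e) * conjA g⁻¹ (fa l (wd β a b)) := by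
        rw [hTe, ← neg_sub (fa 0 (wd β x e) * _), com_comm, ← map_neg, neg_sub]
      rw [e1, map_sub, map_mul, map_mul, hSe, ← conjA_mul, mul_inv_cancel, conjA_one, com_comm]
    have hone : ∀ l m, l ≠ m → S l ≠ 0 → S m = 0 := by
      intro l m hlm hl
      by_contra hm
      obtain ⟨P, A, hA, -, hPs, hPe⟩ := hpull l hl
      obtain ⟨Q, A', hA', hA's, hQs, hQe⟩ := hpull m hm
      have hPQ : P * Q = Q * P := fa_injective hk0 0 ((conjA g).injective (by
        rw [map_mul, map_mul, map_mul, map_mul, hPe, hQe, (fa_comm hlm _ _).eq]))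
      have hP0 : P ≠ 0 := fun e0 => hA (fa_injective hk0 l (by rw [← hPe, e0, map_zero, map_zero, map_zero]))
      obtain ⟨r, rfl⟩ := sk_prop hf D hPs hQs hPQ hP0
      rw [map_smul, map_smul, hPe, ← map_smul] at hQe
      obtain ⟨r', hr'⟩ := eq_of_fa_eq hk0 hlm.symm hQe.symm
      exact hA' (Sk.scalar_zero hf hk0 (Sk.comm hA's (hS m)) hr')
    by_cases hall : ∀ l, S l = 0
    · exfalso
      have h0 : conjA g (fa 0 (wd β x e)) = 0 := by rw [hSe]; simp [hall]
      have h1 := fa_injective hk0 0 ((((conjA g).injective (h0.trans (map_zero _).symm))).trans (map_zero _).symm)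
      have h2 := congrArg (fun M => M *ᵥ f) h1
      simp only [wd_mulVec, D.hyp.pair, D.ef, one_smul, zero_smul, sub_zero, Matrix.zero_mulVec] at h2
      exact D.ns (by rw [h2, C.zero])
    push Not at hall
    obtain ⟨l, hl⟩ := hall
    rw [Finset.sum_eq_single l (fun m _ hm => by rw [hone l m hm.symm hl, map_zero])
      (fun h => absurd (Finset.mem_univ _) h)] at hSe
    have hsq : conjA g (fa 0 ((-β e e) • rk β x x)) = fa l (S l * S l) := by
      rw [← wd_mul_wd hf H.singE D.xe D.xe, map_mul, map_mul, hSe, map_mul]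
    obtain ⟨y, hy⟩ := carry_of_conj hf hx0 (neg_ne_zero.2 D.ee) hsq
    exact Ctx.carry_mst hf hC hM hg H.singE hx0 hy

end Cfsg.Lib.Linear.OTPow
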